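import Mathlib
import Cfsg.Agent.AltCover.InvolPair

/-!
# Permutations around three commuting 3-cycles

General facts on involutions and elements of order three of a permutation group.
-/

set_option autoImplicit false
set_option linter.unusedSectionVars false
set_option linter.unusedSimpArgs false

namespace Cfsg.Lib.DoubleCoverAlt

open Equiv Equiv.Perm

variable {α : Type*} [Fintype α] [DecidableEq α]

/-- The product of two disjoint transpositions on named points. -/
def IsDouble (σ : Perm α) : Prop :=
  ∃ p q r s : α, [p, q, r, s].Nodup ∧ σ = swap p q * swap r s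

theorem isDouble_of_card_four {σ : Perm α} (h2 : σ * σ = 1) (h4 : σ.support.card = 4) : IsDouble σ := by
  have hinv : ∀ x, σ (σ x) = x := fun x => by rw [← mul_apply, h2, one_apply]
  obtain ⟨p, hp⟩ : σ.support.Nonempty := Finset.card_pos.1 (by omega)
  have hp' := mem_support.1 hp
  have hq : σ p ∈ σ.support := apply_mem_support.2 hp
  obtain ⟨r, hr, hr'⟩ : ∃ r ∈ σ.support, r ∉ ({p, σ p} : Finset α) := by
    by_contra h
    push Not at h
    have := Finset.card_le_card h
    have := Finset.card_le_two (a := p) (b := σ p)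
    omega
  simp only [Finset.mem_insert, Finset.mem_singleton, not_or] at hr'
  have hs : σ r ∈ σ.support := apply_mem_support.2 hr
  have hr2 := mem_support.1 hr
  have hsp : σ r ≠ p := fun e => hr'.2 (by rw [← e, hinv])
  have hsq : σ r ≠ σ p := fun e => hr'.1 (σ.injective e)
  refine ⟨p, σ p, r, σ r, ?_, ?_⟩
  · simp [Ne.symm hp', Ne.symm hr'.1, Ne.symm hr'.2, Ne.symm hsp, Ne.symm hsq, Ne.symm hr2]
  · have hall : ({p, σ p, r, σ r} : Finset α) = σ.support := by
      refine Finset.eq_of_subset_of_card_le ?_ ?_
      · simp [Finset.insert_subset_iff, hp, hr, mem_support.2, hp', hr2]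
      · rw [h4, Finset.card_insert_of_notMem (by simp [Ne.symm hp', Ne.symm hr'.1, Ne.symm hsp]),
          Finset.card_insert_of_notMem (by simp [Ne.symm hr'.2, Ne.symm hsq]),
          Finset.card_insert_of_notMem (by simp [Ne.symm hr2]), Finset.card_singleton]
    ext x
    rw [mul_apply]
    by_cases hx : x ∈ σ.support
    · rw [← hall] at hx
      simp only [Finset.mem_insert, Finset.mem_singleton] at hx
      rcases hx with rfl | rfl | rfl | rfl
      · rw [swap_apply_of_ne_of_ne (Ne.symm hr'.1) (Ne.symm hsp), swap_apply_left]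
      · rw [swap_apply_of_ne_of_ne (Ne.symm hr'.2) (Ne.symm hsq), swap_apply_right, hinv]
      · rw [swap_apply_left, swap_apply_of_ne_of_ne hsp hsq]
      · rw [swap_apply_right, swap_apply_of_ne_of_ne hr'.1 hr'.2, hinv]
    · have hx' := hx
      rw [← hall] at hx'
      simp only [Finset.mem_insert, Finset.mem_singleton, not_or] at hx'
      rw [swap_apply_of_ne_of_ne hx'.2.2.1 hx'.2.2.2, swap_apply_of_ne_of_ne hx'.1 hx'.2.1,
        notMem_support.1 hx]

theorem IsDouble.mul_self {σ : Perm α} (h : IsDouble σ) : σ * σ = 1 := by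
  obtain ⟨p, q, r, s, hn, rfl⟩ := h
  simp only [List.nodup_cons, List.mem_cons, List.not_mem_nil, or_false, not_or] at hn
  obtain ⟨⟨hpq, hpr, hps⟩, ⟨hqr, hqs⟩, hrs, -⟩ := hn
  have hd : Commute (swap p q) (swap r s) := Disjoint.commute (by
    rw [disjoint_iff_disjoint_support, support_swap hpq, support_swap hrs]
    simp [Ne.symm hpr, Ne.symm hps, Ne.symm hqr, Ne.symm hqs])
  rw [Commute.mul_mul_mul_comm hd.symm, Equiv.swap_mul_self, Equiv.swap_mul_self, one_mul]

/-- An even involution that is not a double transposition moves at least eight points. -/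
theorem eight_le_or {σ : Perm α} (h2 : σ * σ = 1) (he : sign σ = 1) :
    σ = 1 ∨ IsDouble σ ∨ 8 ≤ σ.support.card := by
  obtain ⟨k, -, hc, hs⟩ := Cfsg.Lib.AltCover.invol_cycleType h2
  rw [he] at hs
  rcases Nat.even_or_odd k with ⟨j, hj⟩ | hk
  · rcases (by omega : j = 0 ∨ j = 1 ∨ 2 ≤ j) with h | h | h
    · exact Or.inl (support_eq_empty_iff.1 (Finset.card_eq_zero.1 (by omega)))
    · exact Or.inr (Or.inl (isDouble_of_card_four h2 (by omega)))
    · exact Or.inr (Or.inr (by omega))
  · rw [hk.neg_one_pow] at hs
    exact absurd hs (by decide)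

theorem eq_one_of_fix_all {σ : Perm α} (h : ∀ x, σ x = x) : σ = 1 := Perm.ext h

theorem apply_comm {σ a : Perm α} (h : Commute σ a) (x : α) : σ (a x) = a (σ x) := by
  rw [← mul_apply, h.eq, mul_apply]

/-- An involution commuting with a permutation whose cubes are trivial fixes what that one moves. -/
theorem invol_fix {σ a : Perm α} (h2 : σ * σ = 1) (hc : Commute σ a) (ha : a * a * a = 1)
    (horb : ∀ x y, a x ≠ x → a y ≠ y → y = x ∨ y = a x ∨ y = a (a x)) {x : α} (hx : a x ≠ x) : σ x = x := by
  have hinv : σ (σ x) = x := by rw [← mul_apply, h2, one_apply]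
  have h3 : a (a (a x)) = x := by rw [← mul_apply, ← mul_apply, ha, one_apply]
  have hmv : a (σ x) ≠ σ x := fun e => hx (σ.injective (by rw [apply_comm hc, e]))
  rcases horb x (σ x) hx hmv with e | e | e
  · exact e
  · rw [e, apply_comm hc, e] at hinv
    exact absurd (by rw [hinv] at h3; exact h3) hx
  · rw [e, apply_comm hc, apply_comm hc, e, h3] at hinv
    exact absurd hinv hx

theorem card_support_le_fixed {σ a : Perm α} (h : ∀ x, a x ≠ x → σ x = x) :
    σ.support.card ≤ (Finset.univ.filter fun x => a x = x).card := by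
  refine Finset.card_le_card fun x hx => ?_
  rw [Finset.mem_filter]
  exact ⟨Finset.mem_univ x, by_contra fun hh => mem_support.1 hx (h x hh)⟩

/-- An even permutation of at most four points with cube order prime to three squares to the identity. -/
theorem sq_of_small {σ : Perm α} (he : sign σ = 1) (h4 : σ.support.card ≤ 4) (h3 : ¬ 3 ∣ orderOf σ) :
    σ * σ = 1 := by
  have hall : ∀ m ∈ σ.cycleType, m = 2 := by
    intro m hm
    have hle : m ≤ 4 := le_trans ((Multiset.le_sum_of_mem hm).trans (sum_cycleType σ).le) h4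
    have h2m := two_le_of_mem_cycleType hm
    rcases (by omega : m = 2 ∨ m = 3 ∨ m = 4) with e | e | e
    · exact e
    · exact absurd (e ▸ dvd_of_mem_cycleType hm) h3
    · exfalso
      subst e
      obtain ⟨t, ht⟩ := Multiset.exists_cons_of_mem hm
      have hsum : t.sum = 0 := by
        have := sum_cycleType σ
        rw [ht, Multiset.sum_cons] at this
        omega
      have ht0 : t = 0 := Multiset.eq_zero_of_forall_notMem fun k hk => by
        have h1 := Multiset.le_sum_of_mem hk
        have h2 := two_le_of_mem_cycleType (σ := σ) (n := k) (by rw [ht]; exact Multiset.mem_cons_of_mem hk)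
        omega
      rw [sign_of_cycleType, ht, ht0] at he
      rw [show (4 ::ₘ (0 : Multiset ℕ)) = {4} from rfl, Multiset.sum_singleton, Multiset.card_singleton] at he
      exact absurd he (by decide)
  have : orderOf σ ∣ 2 := by
    rw [← lcm_cycleType, Multiset.lcm_dvd]
    intro m hm
    rw [hall m hm]
  rw [← pow_two]
  exact orderOf_dvd_iff_pow_eq_one.1 this

theorem isThreeCycle_of_small {σ : Perm α} (h3 : σ * σ * σ = 1) (h1 : σ ≠ 1) (h5 : σ.support.card ≤ 5) :
    σ.IsThreeCycle := by
  haveI : Fact (Nat.Prime 3) := ⟨Nat.prime_three⟩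
  have ho : orderOf σ = 3 := orderOf_eq_prime (by rw [pow_succ, pow_two, h3]) h1
  obtain ⟨m, hm⟩ := cycleType_prime_order (σ := σ) (by rw [ho]; exact Nat.prime_three)
  rw [ho] at hm
  have hs := sum_cycleType σ
  rw [hm, Multiset.sum_replicate, smul_eq_mul] at hs
  rw [IsThreeCycle, hm, show m = 0 by omega]
  rfl

end Cfsg.Lib.DoubleCoverAlt
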