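import Mathlib
import Cfsg.Agent.AltCover.Flip
import Cfsg.Agent.DoubleCoverAlt.Perms
import Cfsg.Prelude.Def_SporadicB

/-!
# An involution whose centralizer is a double cover of an alternating group

Coordinates in the centralizer, as functions on the whole group.
-/

set_option autoImplicit false
set_option linter.unusedSectionVars false
set_option linter.unusedSimpArgs false
set_option linter.style.haveILetI false

namespace Cfsg.Lib.DoubleCoverAlt

open Equiv

universe u

variable {G : Type u} [Group G] [Finite G] {n : ℕ}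

/-- The involution, with coordinates on its centralizer. -/
structure Cov (G : Type u) [Group G] (n : ℕ) where
  z : G
  zz : z * z = 1
  z1 : z ≠ 1
  K : Cfsg.Lib.AltCover.Cover n (Subgroup.centralizer ({z} : Set G))
  Kz : (K.z : G) = z

namespace Cov

variable (D : Cov G n)

theorem mem {x : G} : x ∈ Subgroup.centralizer ({D.z} : Set G) ↔ Commute x D.z := by
  rw [Subgroup.mem_centralizer_singleton_iff]
  exact Iff.rfl

open Classical in
/-- The permutation of a member of the centralizer. -/
noncomputable def pm (x : G) : Perm (Fin n) := if h : Commute x D.z then D.K.ρ ⟨x, D.mem.2 h⟩ else 1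

theorem pm_eq {x : G} (h : Commute x D.z) : D.pm x = D.K.ρ ⟨x, D.mem.2 h⟩ := by
  rw [pm, dif_pos h]

theorem z_comm : Commute D.z D.z := Commute.refl _

theorem comm_mul {x y : G} (hx : Commute x D.z) (hy : Commute y D.z) : Commute (x * y) D.z := hx.mul_left hy

theorem comm_conj {x y : G} (hx : Commute x D.z) (hy : Commute y D.z) : Commute (x * y * x⁻¹) D.z :=
  (hx.mul_left hy).mul_left hx.inv_left

theorem pm_mul {x y : G} (hx : Commute x D.z) (hy : Commute y D.z) : D.pm (x * y) = D.pm x * D.pm y := by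
  rw [D.pm_eq hx, D.pm_eq hy, D.pm_eq (D.comm_mul hx hy), ← map_mul]
  rfl

theorem pm_one : D.pm 1 = 1 := by
  rw [D.pm_eq (Commute.one_left _)]
  exact map_one D.K.ρ

theorem pm_inv {x : G} (hx : Commute x D.z) : D.pm x⁻¹ = (D.pm x)⁻¹ := by
  rw [D.pm_eq hx, D.pm_eq hx.inv_left, ← map_inv]
  rfl

theorem pm_conj {x y : G} (hx : Commute x D.z) (hy : Commute y D.z) :
    D.pm (x * y * x⁻¹) = D.pm x * D.pm y * (D.pm x)⁻¹ := by
  rw [D.pm_mul (D.comm_mul hx hy) hx.inv_left, D.pm_mul hx hy, D.pm_inv hx]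

theorem pm_pow {x : G} (hx : Commute x D.z) (k : ℕ) : D.pm (x ^ k) = D.pm x ^ k := by
  induction k with
  | zero => rw [pow_zero, pow_zero, D.pm_one]
  | succ k ih => rw [pow_succ, pow_succ, D.pm_mul (hx.pow_left k) hx, ih]

theorem pm_z : D.pm D.z = 1 := by
  rw [D.pm_eq D.z_comm, show (⟨D.z, D.mem.2 D.z_comm⟩ : Subgroup.centralizer ({D.z} : Set G)) = D.K.z from
    Subtype.ext D.Kz.symm, D.K.hρz]

theorem pm_mul_z {x : G} (hx : Commute x D.z) : D.pm (x * D.z) = D.pm x := by
  rw [D.pm_mul hx D.z_comm, D.pm_z, mul_one]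

theorem pm_sign {x : G} (hx : Commute x D.z) : Perm.sign (D.pm x) = 1 := by
  rw [← Perm.mem_alternatingGroup, D.pm_eq hx, ← D.K.hr]
  exact ⟨_, rfl⟩

theorem pm_cases {x y : G} (hx : Commute x D.z) (hy : Commute y D.z) (h : D.pm x = D.pm y) :
    y = x ∨ y = x * D.z := by
  rw [D.pm_eq hx, D.pm_eq hy] at h
  rcases D.K.lift_unique h with e | e
  · exact Or.inl (congrArg Subtype.val e)
  · exact Or.inr ((congrArg Subtype.val e).trans (congrArg (x * ·) D.Kz))

theorem pm_eq_one {x : G} (hx : Commute x D.z) (h : D.pm x = 1) : x = 1 ∨ x = D.z := by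
  rcases D.pm_cases (Commute.one_left _) hx (D.pm_one.trans h.symm) with e | e
  · exact Or.inl e
  · exact Or.inr (e.trans (one_mul _))

theorem exists_lift {σ : Perm (Fin n)} (h : Perm.sign σ = 1) : ∃ x, Commute x D.z ∧ D.pm x = σ := by
  obtain ⟨X, hX⟩ := Cfsg.Lib.Schur.Alt.exists_lift D.K.hr (Perm.mem_alternatingGroup.2 h)
  exact ⟨X, D.mem.1 X.2, by rw [D.pm_eq (D.mem.1 X.2)]; exact hX⟩

/-! ### Elements of order three -/

theorem exists_three {σ : Perm (Fin n)} (h : Perm.sign σ = 1) (h3 : σ * σ * σ = 1) :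
    ∃ x, Commute x D.z ∧ x * x * x = 1 ∧ D.pm x = σ := by
  obtain ⟨X, hX, hX3⟩ := D.K.exists_three_lift (Perm.mem_alternatingGroup.2 h) h3
  exact ⟨X, D.mem.1 X.2, congrArg Subtype.val hX3, by rw [D.pm_eq (D.mem.1 X.2)]; exact hX⟩

theorem z_not_odd : ¬ Odd (orderOf D.z) := by
  rw [orderOf_eq_prime (p := 2) (by rw [pow_two, D.zz]) D.z1]
  decide

theorem odd_of_cube {x : G} (h : x * x * x = 1) : Odd (orderOf x) :=
  Odd.of_dvd_nat (by decide : Odd 3) (orderOf_dvd_of_pow_eq_one (by rw [pow_succ, pow_two, h]))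

/-- A member of odd order is determined by its permutation. -/
theorem odd_ext {x y : G} (hx : Commute x D.z) (hy : Commute y D.z) (hxo : Odd (orderOf x)) (hyo : Odd (orderOf y))
    (h : D.pm x = D.pm y) : y = x := by
  rcases D.pm_cases hx hy h with e | e
  · exact e
  · exfalso
    have hp : y ^ (orderOf x * orderOf y) = x ^ (orderOf x * orderOf y) * D.z ^ (orderOf x * orderOf y) := by
      rw [e, hx.mul_pow]
    rw [pow_mul x, pow_orderOf_eq_one, one_pow, one_mul, mul_comm, pow_mul y, pow_orderOf_eq_one, one_pow] at hp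
    exact D.z_not_odd ((hyo.mul hxo).of_dvd_nat (orderOf_dvd_of_pow_eq_one hp.symm))

theorem odd_one {x : G} (hx : Commute x D.z) (hxo : Odd (orderOf x)) (h : D.pm x = 1) : x = 1 :=
  D.odd_ext (Commute.one_left _) hx (by rw [orderOf_one]; decide) hxo (D.pm_one.trans h.symm)

theorem orderOf_conj (g x : G) : orderOf (g * x * g⁻¹) = orderOf x := by
  rw [show g * x * g⁻¹ = MulAut.conj g x from rfl, MulEquiv.orderOf_eq]

theorem odd_conj {g x y : G} (hg : Commute g D.z) (hx : Commute x D.z) (hy : Commute y D.z)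
    (hxo : Odd (orderOf x)) (hyo : Odd (orderOf y))
    (h : D.pm g * D.pm x * (D.pm g)⁻¹ = D.pm y) : g * x * g⁻¹ = y :=
  D.odd_ext hy (D.comm_conj hg hx) hyo (by rw [orderOf_conj]; exact hxo) (by rw [D.pm_conj hg hx, h])

/-- Commutation with a member of odd order can be read off the permutations. -/
theorem odd_comm {g x : G} (hg : Commute g D.z) (hx : Commute x D.z) (hxo : Odd (orderOf x))
    (h : Commute (D.pm g) (D.pm x)) : Commute g x :=
  mul_inv_eq_iff_eq_mul.1 (D.odd_conj hg hx hx hxo hxo (by rw [h.eq, mul_inv_cancel_right]))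

theorem comm_pm {g x : G} (hg : Commute g D.z) (hx : Commute x D.z) (h : Commute g x) :
    Commute (D.pm g) (D.pm x) := by
  show _ = _
  rw [← D.pm_mul hg hx, ← D.pm_mul hx hg, h.eq]

/-! ### Involutions -/

theorem comm_disjoint {x y : G} (hx : Commute x D.z) (hy : Commute y D.z)
    (hd : Perm.Disjoint (D.pm x) (D.pm y)) : Commute x y :=
  congrArg Subtype.val (D.K.commute_disjoint_even (X := ⟨x, D.mem.2 hx⟩) (Y := ⟨y, D.mem.2 hy⟩) hd
    (D.pm_sign hy) (D.pm_eq hx).symm (D.pm_eq hy).symm).eq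

theorem sq_eq_z {x : G} (hx : Commute x D.z) (h : IsDouble (D.pm x)) : x * x = D.z := by
  obtain ⟨p, q, r, s, hn, he⟩ := h
  rw [D.pm_eq hx] at he
  exact (congrArg Subtype.val (D.K.sq_double hn he)).trans D.Kz

theorem sq_eq_one {x : G} (hx : Commute x D.z) {σ τ : Perm (Fin n)} (hσ : IsDouble σ) (hτ : IsDouble τ)
    (hd : Perm.Disjoint σ τ) (h : D.pm x = σ * τ) : x * x = 1 := by
  have hs : ∀ π : Perm (Fin n), IsDouble π → Perm.sign π = 1 := by
    rintro π ⟨p, q, r, s, hn, rfl⟩
    simp only [List.nodup_cons, List.mem_cons, List.not_mem_nil, or_false, not_or] at hn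
    rw [map_mul, Perm.sign_swap hn.1.1, Perm.sign_swap hn.2.2.1]
    rfl
  obtain ⟨X, hX, hXσ⟩ := D.exists_lift (hs σ hσ)
  obtain ⟨Y, hY, hYτ⟩ := D.exists_lift (hs τ hτ)
  have hc : Commute X Y := D.comm_disjoint hX hY (by rw [hXσ, hYτ]; exact hd)
  have hXY : X * Y * (X * Y) = 1 := by
    rw [hc.symm.mul_mul_mul_comm, D.sq_eq_z hX (by rw [hXσ]; exact hσ), D.sq_eq_z hY (by rw [hYτ]; exact hτ), D.zz]
  rcases D.pm_cases (D.comm_mul hX hY) hx (by rw [D.pm_mul hX hY, hXσ, hYτ, h]) with e | e
  · rw [e, hXY]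
  · rw [e, Commute.mul_mul_mul_comm (D.comm_mul hX hY).symm, hXY, D.zz, one_mul]

/-- An involution of the centralizer other than the central one moves at least eight points. -/
theorem invol_support {x : G} (hx : Commute x D.z) (h2 : x * x = 1) (h1 : x ≠ 1) (hz : x ≠ D.z) :
    8 ≤ (D.pm x).support.card := by
  rcases eight_le_or (σ := D.pm x) (by rw [← D.pm_mul hx hx, h2, D.pm_one]) (D.pm_sign hx) with h | h | h
  · exact absurd (D.pm_eq_one hx h) (by rintro (e | e) <;> contradiction)
  · exact absurd (D.sq_eq_z hx h) (by rw [h2]; exact Ne.symm D.z1)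
  · exact h

end Cov

/-- Coordinates from an abstract non-split double cover. -/
theorem exists_cov {z : G} (hz : orderOf z = 2) (hn : 5 ≤ n)
    (hcov : Cfsg.IsNonsplitDoubleCover (Subgroup.centralizer ({z} : Set G)) (alternatingGroup (Fin n))) :
    ∃ D : Cov G n, D.z = z := by
  obtain ⟨hc2, ⟨e⟩, hns⟩ := hcov
  set C := Subgroup.centralizer ({z} : Set G) with hC
  have hz1 : z ≠ 1 := fun h => by rw [h, orderOf_one] at hz; exact absurd hz (by decide)
  have hzz : z * z = 1 := by rw [← pow_two, ← hz]; exact pow_orderOf_eq_one z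
  have hzC : z ∈ C := Subgroup.mem_centralizer_singleton_iff.2 rfl
  set zC : C := ⟨z, hzC⟩ with hzC'
  have hzcen : zC ∈ Subgroup.center C := Subgroup.mem_center_iff.2 fun g =>
    Subtype.ext (Subgroup.mem_centralizer_singleton_iff.1 g.2)
  set ρ : C →* Perm (Fin n) :=
    (alternatingGroup (Fin n)).subtype.comp (e.toMonoidHom.comp (QuotientGroup.mk' (Subgroup.center C))) with hρ
  have hker : ∀ g, ρ g = 1 ↔ g ∈ Subgroup.center C := fun g => by
    rw [hρ, MonoidHom.comp_apply, MonoidHom.comp_apply, QuotientGroup.mk'_apply]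
    exact (OneMemClass.coe_eq_one).trans (e.map_eq_one_iff.trans (QuotientGroup.eq_one_iff g))
  have hrange : ρ.range = alternatingGroup (Fin n) := by
    refine le_antisymm ?_ fun σ hσ => ?_
    · rintro _ ⟨g, rfl⟩
      exact SetLike.coe_mem _
    · obtain ⟨g, hg⟩ := QuotientGroup.mk'_surjective (Subgroup.center C) (e.symm ⟨σ, hσ⟩)
      refine ⟨g, ?_⟩
      show ((e (QuotientGroup.mk' (Subgroup.center C) g) : alternatingGroup (Fin n)) : Perm (Fin n)) = σ
      rw [hg, e.apply_symm_apply]
  have hcen : ∀ g : C, g ∈ Subgroup.center C → g = 1 ∨ g = zC := by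
    intro g hg
    obtain ⟨a, ha, huniv⟩ := (Nat.card_eq_two_iff' (1 : Subgroup.center C)).1 hc2
    by_cases h1 : g = 1
    · exact Or.inl h1
    · refine Or.inr ?_
      have e1 := huniv ⟨g, hg⟩ fun h => h1 (congrArg Subtype.val h)
      have e2 := huniv ⟨zC, hzcen⟩ fun h => hz1 (congrArg (fun x : Subgroup.center C => ((x : C) : G)) h)
      exact congrArg Subtype.val (e1.trans e2.symm)
  refine ⟨⟨z, hzz, hz1, ⟨ρ, zC, hn, fun g hg => (hker g).1 hg, hrange, fun h => hz1 (congrArg Subtype.val h),
    (hker zC).2 hzcen, fun g hg => hcen g ((hker g).1 hg), ?_⟩, rfl⟩, rfl⟩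
  -- perfectness
  haveI : IsSimpleGroup (alternatingGroup (Fin n)) := alternatingGroup.isSimpleGroup (by simpa using hn)
  set L := commutator C with hL
  have hmapC : L.map ρ = alternatingGroup (Fin n) := by
    rw [hL, commutator_def, Subgroup.map_commutator, ← MonoidHom.range_eq_map, hrange]
    have hA : commutator (alternatingGroup (Fin n)) = ⊤ := by
      have hnormal : (commutator (alternatingGroup (Fin n))).Normal := inferInstance
      rcases hnormal.eq_bot_or_eq_top with h | h
      · exfalso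
        have hab : IsMulCommutative (alternatingGroup (Fin n)) := by
          rw [← Subgroup.center_eq_top_iff, eq_top_iff]
          intro g _
          rw [Subgroup.mem_center_iff]
          intro x
          have := Subgroup.commutator_mem_commutator (Subgroup.mem_top x) (Subgroup.mem_top g)
          rw [← commutator_def, h, Subgroup.mem_bot, commutatorElement_eq_one_iff_mul_comm] at this
          exact this
        let e0 : Fin 5 ↪ Fin n := Fin.castLEEmb hn
        let a : Perm (Fin n) := swap (e0 0) (e0 1) * swap (e0 1) (e0 2)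
        let b : Perm (Fin n) := swap (e0 0) (e0 1) * swap (e0 1) (e0 3)
        have hne : ∀ i j : Fin 5, i ≠ j → e0 i ≠ e0 j := fun i j h h' => h (e0.injective h')
        have hsa : a ∈ alternatingGroup (Fin n) := by
          rw [Perm.mem_alternatingGroup, map_mul, Perm.sign_swap (hne 0 1 (by decide)),
            Perm.sign_swap (hne 1 2 (by decide))]
          rfl
        have hsb : b ∈ alternatingGroup (Fin n) := by
          rw [Perm.mem_alternatingGroup, map_mul, Perm.sign_swap (hne 0 1 (by decide)),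
            Perm.sign_swap (hne 1 3 (by decide))]
          rfl
        have heq : a * b = b * a := congrArg Subtype.val (hab.is_comm.comm ⟨a, hsa⟩ ⟨b, hsb⟩)
        have h01 := hne 0 1 (by decide); have h02 := hne 0 2 (by decide); have h03 := hne 0 3 (by decide)
        have h12 := hne 1 2 (by decide); have h13 := hne 1 3 (by decide); have h23 := hne 2 3 (by decide)
        have hp := congrArg (fun p : Perm (Fin n) => p (e0 2)) heq
        simp [a, b, swap_apply_def, h01, h02, h03, h12, h13, h23, h01.symm, h02.symm, h03.symm, h12.symm,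
          h13.symm, h23.symm] at hp
      · exact h
    have h2 := congrArg (Subgroup.map (alternatingGroup (Fin n)).subtype) hA
    rw [commutator_def, Subgroup.map_commutator, ← MonoidHom.range_eq_map, Subgroup.range_subtype] at h2
    exact h2
  by_cases hzL : zC ∈ L
  · refine eq_top_iff.2 fun g _ => ?_
    obtain ⟨l, hl, hlg⟩ : ρ g ∈ L.map ρ := by rw [hmapC, ← hrange]; exact ⟨g, rfl⟩
    rcases hcen (l⁻¹ * g) ((hker _).1 (by rw [map_mul, map_inv, hlg, inv_mul_cancel])) with h | h
    · rwa [← inv_mul_eq_one.1 h]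
    · rw [inv_mul_eq_iff_eq_mul.1 h]
      exact L.mul_mem hl hzL
  · exfalso
    refine hns L ?_
    refine Subgroup.isComplement'_of_disjoint_and_mul_eq_univ ?_ ?_
    · rw [Subgroup.disjoint_def]
      intro x hx hxL
      rcases hcen x hx with h | h
      · exact h
      · exact absurd (h ▸ hxL) hzL
    · refine Set.eq_univ_of_forall fun g => ?_
      obtain ⟨l, hl, hlg⟩ : ρ g ∈ L.map ρ := by rw [hmapC, ← hrange]; exact ⟨g, rfl⟩
      exact ⟨g * l⁻¹, (hker _).1 (by rw [map_mul, map_inv, hlg, mul_inv_cancel]), l, hl, inv_mul_cancel_right g l⟩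

end Cfsg.Lib.DoubleCoverAlt
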