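import Mathlib
import Cfsg.Agent.DoubleCoverAlt.Cov
import Cfsg.Agent.InvolCalc.ZStarApps

/-!
# Fusion of the central involution, and the degrees at least twelve
-/

set_option autoImplicit false
set_option linter.unusedSectionVars false
set_option linter.unusedSimpArgs false
set_option linter.style.haveILetI false

namespace Cfsg.Lib.DoubleCoverAlt

open Equiv Equiv.Perm

universe u

variable {G : Type u} [Group G] [Finite G] {n : ℕ}

section
variable {α : Type*} [Fintype α] [DecidableEq α]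

theorem pairs_swap {p q r s : α} (hn : [p, q, r, s].Nodup) :
    swap q r * (swap p q * swap r s) * (swap q r)⁻¹ = swap p r * swap q s ∧
    swap p q * swap r s * (swap p r * swap q s) = swap p s * swap q r := by
  simp only [List.nodup_cons, List.mem_cons, List.not_mem_nil, or_false, not_or] at hn
  obtain ⟨⟨hpq, hpr, hps⟩, ⟨hqr, hqs⟩, hrs, -⟩ := hn
  constructor <;>
  · ext x
    simp only [swap_inv, mul_apply]
    by_cases h1 : x = p <;> by_cases h2 : x = q <;> by_cases h3 : x = r <;> by_cases h4 : x = s <;>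
      simp_all [swap_apply_def, Ne.symm hpq, Ne.symm hpr, Ne.symm hps, Ne.symm hqr, Ne.symm hqs, Ne.symm hrs]

theorem isDouble_sign {σ : Perm α} (h : IsDouble σ) : sign σ = 1 := by
  obtain ⟨p, q, r, s, hn, rfl⟩ := h
  simp only [List.nodup_cons, List.mem_cons, List.not_mem_nil, or_false, not_or] at hn
  rw [map_mul, sign_swap hn.1.1, sign_swap hn.2.2.1]
  rfl

/-- The moved points of a double transposition. -/
theorem double_fix {p q r s x : α} (h1 : x ≠ p) (h2 : x ≠ q) (h3 : x ≠ r) (h4 : x ≠ s) :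
    (swap p q * swap r s) x = x := by
  rw [mul_apply, swap_apply_of_ne_of_ne h3 h4, swap_apply_of_ne_of_ne h1 h2]

/-- An involution moving at least four points has two transpositions split off. -/
theorem split_pair {σ : Perm α} (h2 : σ * σ = 1) (h4 : 3 ≤ σ.support.card) {p : α} (hp : σ p ≠ p) :
    ∃ r, [p, σ p, r, σ r].Nodup ∧
      Perm.Disjoint (swap p (σ p) * swap r (σ r)) (swap p (σ p) * swap r (σ r) * σ) ∧
      (swap p (σ p) * swap r (σ r) * σ).support ⊆ σ.support ∧
      σ.support.card ≤ (swap p (σ p) * swap r (σ r) * σ).support.card + 4 := by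
  have hinv : ∀ x, σ (σ x) = x := fun x => by rw [← mul_apply, h2, one_apply]
  obtain ⟨r, hr, hr'⟩ : ∃ r ∈ σ.support, r ∉ ({p, σ p} : Finset α) := by
    by_contra h
    push Not at h
    have := Finset.card_le_card h
    have := Finset.card_le_two (a := p) (b := σ p)
    omega
  simp only [Finset.mem_insert, Finset.mem_singleton, not_or] at hr'
  have hr2 := mem_support.1 hr
  have hsp : σ r ≠ p := fun e => hr'.2 (by rw [← e, hinv])
  have hsq : σ r ≠ σ p := fun e => hr'.1 (σ.injective e)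
  refine ⟨r, ?_, ?_, ?_, ?_⟩
  · simp [Ne.symm hp, Ne.symm hr'.1, Ne.symm hr'.2, Ne.symm hsp, Ne.symm hsq, Ne.symm hr2]
  · intro x
    by_cases h : x = p ∨ x = σ p ∨ x = r ∨ x = σ r
    · right
      rcases h with rfl | rfl | rfl | rfl <;> simp only [mul_apply, hinv]
      · rw [swap_apply_of_ne_of_ne (Ne.symm hr'.2) (Ne.symm hsq), swap_apply_right]
      · rw [swap_apply_of_ne_of_ne (Ne.symm hr'.1) (Ne.symm hsp), swap_apply_left]
      · rw [swap_apply_right, swap_apply_of_ne_of_ne hr'.1 hr'.2]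
      · rw [swap_apply_left, swap_apply_of_ne_of_ne hsp hsq]
    · simp only [not_or] at h
      exact Or.inl (double_fix h.1 h.2.1 h.2.2.1 h.2.2.2)
  · intro x hx
    rw [mem_support] at hx ⊢
    intro hf
    refine hx ?_
    rw [mul_apply, hf]
    exact double_fix (fun e => hp (e ▸ hf)) (fun e => hp (σ.injective (e ▸ hf))) (fun e => hr2 (e ▸ hf))
      (fun e => hr2 (σ.injective (e ▸ hf)))
  · have hsub : σ.support ⊆ (swap p (σ p) * swap r (σ r) * σ).support ∪ ({p, σ p, r, σ r} : Finset α) := by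
      intro x hx
      by_contra hc
      simp only [Finset.mem_union, mem_support, Finset.mem_insert, Finset.mem_singleton, not_or, not_not] at hc
      obtain ⟨hc1, hx1, hx2, hx3, hx4⟩ := hc
      rw [mul_apply] at hc1
      refine mem_support.1 hx (?_ : σ x = x)
      have k1 : σ x ≠ p := fun e => hx2 (by rw [← e, hinv])
      have k2 : σ x ≠ σ p := fun e => hx1 (σ.injective e)
      have k3 : σ x ≠ r := fun e => hx4 (by rw [← e, hinv])
      have k4 : σ x ≠ σ r := fun e => hx3 (σ.injective e)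
      rwa [double_fix k1 k2 k3 k4] at hc1
    have := (Finset.card_le_card hsub).trans (Finset.card_union_le _ _)
    have := Finset.card_le_four (a := p) (b := σ p) (c := r) (d := σ r)
    omega

end

namespace Cov

variable (D : Cov G n)

/-- An involution of the centralizer is conjugate there to its product with the central one. -/
theorem conj_mul_z {x : G} (hx : Commute x D.z) (h2 : x * x = 1) (h1 : x ≠ 1) (hz : x ≠ D.z) :
    ∃ g, Commute g D.z ∧ g * x * g⁻¹ = x * D.z := by
  have h8 := D.invol_support hx h2 h1 hz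
  have hσ : D.pm x * D.pm x = 1 := by rw [← D.pm_mul hx hx, h2, D.pm_one]
  set σ := D.pm x with hσ'
  obtain ⟨p, hp⟩ : σ.support.Nonempty := Finset.card_pos.1 (by omega)
  obtain ⟨r, hn, hd, -, -⟩ := split_pair hσ (by omega) (mem_support.1 hp)
  set q := σ p
  set s := σ r
  set d := swap p q * swap r s with hdd
  have hdbl : IsDouble d := ⟨p, q, r, s, hn, rfl⟩
  have hn2 : [p, r, q, s].Nodup := by
    simp only [List.nodup_cons, List.mem_cons, List.not_mem_nil, or_false, not_or] at hn ⊢
    obtain ⟨⟨a, b, c⟩, ⟨e, f⟩, g, -⟩ := hn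
    exact ⟨⟨b, a, c⟩, ⟨Ne.symm e, g⟩, f, not_false, List.nodup_nil⟩
  have hh : IsDouble (swap p r * swap q s) := ⟨p, r, q, s, hn2, rfl⟩
  obtain ⟨X, hX, hXd⟩ := D.exists_lift (isDouble_sign hdbl)
  obtain ⟨H, hH, hHd⟩ := D.exists_lift (isDouble_sign hh)
  set R := X⁻¹ * x with hR
  have hRz : Commute R D.z := D.comm_mul hX.inv_left hx
  have hRp : D.pm R = d * σ := by
    rw [hR, D.pm_mul hX.inv_left hx, D.pm_inv hX, hXd, inv_eq_of_mul_eq_one_right hdbl.mul_self]
  have hHR : Commute H R := by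
    refine D.comm_disjoint hH hRz ?_
    rw [hHd, hRp]
    intro y
    rcases hd y with h | h
    · left
      by_cases hy : y = p ∨ y = q ∨ y = r ∨ y = s
      · exfalso
        simp only [List.nodup_cons, List.mem_cons, List.not_mem_nil, or_false, not_or] at hn
        obtain ⟨⟨a, b, c⟩, ⟨e, f⟩, g, -⟩ := hn
        rcases hy with rfl | rfl | rfl | rfl
        · exact a (by rw [mul_apply, swap_apply_of_ne_of_ne b c, swap_apply_left] at h; exact h.symm)
        · exact a (by rw [mul_apply, swap_apply_of_ne_of_ne e f, swap_apply_right] at h; exact h)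
        · exact g (by rw [mul_apply, swap_apply_left, swap_apply_of_ne_of_ne (Ne.symm c) (Ne.symm f)] at h; exact h.symm)
        · exact g (by rw [mul_apply, swap_apply_right, swap_apply_of_ne_of_ne (Ne.symm b) (Ne.symm e)] at h; exact h)
      · simp only [not_or] at hy
        exact double_fix hy.1 hy.2.2.1 hy.2.1 hy.2.2.2
    · exact Or.inr h
  have hHX : H * X * H⁻¹ = X * D.z := by
    have e1 := D.sq_eq_z hH (by rw [hHd]; exact hh)
    have e2 := D.sq_eq_z hX (by rw [hXd]; exact hdbl)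
    have e3 : H * X * (H * X) = D.z := D.sq_eq_z (D.comm_mul hH hX) (by
      rw [D.pm_mul hH hX, hHd, hXd]
      have h' := (pairs_swap hn2).2
      refine ⟨p, s, r, q, ?_, h'⟩
      simp only [List.nodup_cons, List.mem_cons, List.not_mem_nil, or_false, not_or] at hn ⊢
      obtain ⟨⟨a, b, c⟩, ⟨e, f⟩, g, -⟩ := hn
      exact ⟨⟨c, b, a⟩, ⟨Ne.symm g, Ne.symm f⟩, Ne.symm e, not_false, List.nodup_nil⟩)
    calc H * X * H⁻¹ = H * X * (H * X) * X⁻¹ * (H * H)⁻¹ := by group
      _ = D.z * X⁻¹ * D.z⁻¹ := by rw [e3, e1]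
      _ = X⁻¹ := by rw [← hX.inv_left.eq]; group
      _ = X * (X * X)⁻¹ := by group
      _ = X * D.z := by rw [e2, inv_eq_of_mul_eq_one_right D.zz]
  refine ⟨H, hH, ?_⟩
  calc H * x * H⁻¹ = H * X * H⁻¹ * (H * R * H⁻¹) := by rw [hR]; group
    _ = X * D.z * R := by rw [hHX, hHR.eq, mul_inv_cancel_right]
    _ = X * (R * D.z) := by rw [mul_assoc, ← hRz.eq]
    _ = x * D.z := by rw [hR]; group

/-- Being conjugate to the central involution. -/
def InD (x : G) : Prop := ∃ g, x = g * D.z * g⁻¹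

theorem InD.conj {D : Cov G n} {x : G} (h : D.InD x) (k : G) : D.InD (k * x * k⁻¹) := by
  obtain ⟨g, rfl⟩ := h
  exact ⟨k * g, by group⟩

theorem InD.sq {D : Cov G n} {x : G} (h : D.InD x) : x * x = 1 := by
  obtain ⟨g, rfl⟩ := h
  rw [conj_mul, D.zz, mul_one, mul_inv_cancel]

theorem InD.ne_one {D : Cov G n} {x : G} (h : D.InD x) : x ≠ 1 := by
  obtain ⟨g, rfl⟩ := h
  exact fun e => D.z1 (conj_eq_one_iff.1 e)

/-- Commuting distinct conjugates have a conjugate as product. -/
theorem inD_mul {x y : G} (hx : D.InD x) (hy : D.InD y) (hc : Commute x y) (hne : x ≠ y) : D.InD (x * y) := by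
  obtain ⟨g, rfl⟩ := hx
  set y' := g⁻¹ * y * g with hy'
  have hyz : Commute y' D.z := by
    show _ = _
    calc y' * D.z = g⁻¹ * (y * (g * D.z * g⁻¹)) * g := by rw [hy']; group
      _ = g⁻¹ * (g * D.z * g⁻¹ * y) * g := by rw [← hc.eq]
      _ = D.z * y' := by rw [hy']; group
  have hD : D.InD y' := by
    have := hy.conj g⁻¹
    rwa [inv_inv] at this
  obtain ⟨k, -, hk⟩ := D.conj_mul_z hyz hD.sq hD.ne_one (fun e => hne (by rw [← e, hy']; group))
  have := (hD.conj k).conj g
  rw [hk, show g * (y' * D.z) * g⁻¹ = y * (g * D.z * g⁻¹) by rw [hy']; group, ← hc.eq] at this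
  exact this

/-- Some conjugate in the centralizer moves exactly eight points. -/
theorem exists_four {t : G} (ht : D.InD t) (htz : Commute t D.z) (hne : t ≠ D.z) :
    ∃ x, D.InD x ∧ Commute x D.z ∧ x ≠ D.z ∧ ∃ σ τ : Perm (Fin n), IsDouble σ ∧ IsDouble τ ∧
      Perm.Disjoint σ τ ∧ D.pm x = σ * τ := by
  have h8 := D.invol_support htz ht.sq ht.ne_one hne
  have hσ : D.pm t * D.pm t = 1 := by rw [← D.pm_mul htz htz, ht.sq, D.pm_one]
  set σ := D.pm t with hσ'
  obtain ⟨p, hp⟩ : σ.support.Nonempty := Finset.card_pos.1 (by omega)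
  obtain ⟨r, hn, hd, hsub, hcard⟩ := split_pair hσ (by omega) (mem_support.1 hp)
  set d := swap p (σ p) * swap r (σ r) with hdd
  set σ1 := d * σ with hσ1
  obtain ⟨p', hp'⟩ : σ1.support.Nonempty := Finset.card_pos.1 (by omega)
  have hd2 : d * d = 1 := IsDouble.mul_self ⟨_, _, _, _, hn, rfl⟩
  have hσ1' : σ1 * σ1 = 1 := by
    have hcd : Commute d σ1 := hd.commute
    have e : σ = d * σ1 := by rw [hσ1, ← mul_assoc, hd2, one_mul]
    rw [e, hcd.symm.mul_mul_mul_comm, hd2, one_mul] at hσ
    exact hσ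
  obtain ⟨r', hn', hd', hsub', -⟩ := split_pair hσ1' (by omega) (mem_support.1 hp')
  set a := p' with ha
  set b := σ1 p' with hb
  set c := r' with hc
  set e := σ1 r' with he
  set d' := swap a b * swap c e with hdd'
  set R := d' * σ1 with hR
  set hperm := swap (σ p) r * swap b c with hhp
  have hn0 := hn
  have hn0' := hn'
  simp only [List.nodup_cons, List.mem_cons, List.not_mem_nil, or_false, not_or] at hn0 hn0'
  obtain ⟨⟨npq, npr, nps⟩, ⟨nqr, nqs⟩, nrs, -⟩ := hn0
  obtain ⟨⟨nab, nac, nae⟩, ⟨nbc, nbe⟩, nce, -⟩ := hn0'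
  have hfirst : ∀ x, d x ≠ x → x = p ∨ x = σ p ∨ x = r ∨ x = σ r := fun x hx => by
    by_contra hh
    simp only [not_or] at hh
    exact hx (double_fix hh.1 hh.2.1 hh.2.2.1 hh.2.2.2)
  have hmem' : ∀ y, y = a ∨ y = b ∨ y = c ∨ y = e → d' y ≠ y := by
    rintro y (rfl | rfl | rfl | rfl)
    · rw [hdd', mul_apply, swap_apply_of_ne_of_ne nac nae, swap_apply_left]; exact Ne.symm nab
    · rw [hdd', mul_apply, swap_apply_of_ne_of_ne nbc nbe, swap_apply_right]; exact nab
    · rw [hdd', mul_apply, swap_apply_left, swap_apply_of_ne_of_ne (Ne.symm nae) (Ne.symm nbe)]; exact Ne.symm nce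
    · rw [hdd', mul_apply, swap_apply_right, swap_apply_of_ne_of_ne (Ne.symm nac) (Ne.symm nbc)]; exact nce
  have hmem : ∀ y, y = p ∨ y = σ p ∨ y = r ∨ y = σ r → d y ≠ y := by
    rintro y (rfl | rfl | rfl | rfl)
    · rw [hdd, mul_apply, swap_apply_of_ne_of_ne npr nps, swap_apply_left]; exact Ne.symm npq
    · rw [hdd, mul_apply, swap_apply_of_ne_of_ne nqr nqs, swap_apply_right]; exact npq
    · rw [hdd, mul_apply, swap_apply_left, swap_apply_of_ne_of_ne (Ne.symm nps) (Ne.symm nqs)]; exact Ne.symm nrs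
    · rw [hdd, mul_apply, swap_apply_right, swap_apply_of_ne_of_ne (Ne.symm npr) (Ne.symm nqr)]; exact nrs
  -- the second block lies outside the first
  have hout : ∀ y, y = a ∨ y = b ∨ y = c ∨ y = e → σ1 y ≠ y := by
    intro y hy hfix
    refine hmem' y hy ?_
    rcases hd' y with h | h
    · exact h
    · rwa [mul_apply, hfix] at h
  have hsep : ∀ y, y = a ∨ y = b ∨ y = c ∨ y = e → y ≠ p ∧ y ≠ σ p ∧ y ≠ r ∧ y ≠ σ r := by
    intro y hy
    have : d y = y := (hd y).resolve_right (hout y hy)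
    refine ⟨?_, ?_, ?_, ?_⟩ <;> intro h
    · exact hmem y (Or.inl h) this
    · exact hmem y (Or.inr (Or.inl h)) this
    · exact hmem y (Or.inr (Or.inr (Or.inl h))) this
    · exact hmem y (Or.inr (Or.inr (Or.inr h))) this
  obtain ⟨-, nbq, nbr, -⟩ := hsep b (Or.inr (Or.inl rfl))
  obtain ⟨-, ncq, ncr, -⟩ := hsep c (Or.inr (Or.inr (Or.inl rfl)))
  have hn3 : [σ p, r, b, c].Nodup := by
    simp [nqr, Ne.symm nbq, Ne.symm ncq, Ne.symm nbr, Ne.symm ncr, nbc]
  obtain ⟨H, hH, hHp⟩ := D.exists_lift (isDouble_sign (σ := hperm) ⟨_, _, _, _, hn3, rfl⟩)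
  -- disjointness
  have hRfix : ∀ y, R y ≠ y → σ1 y ≠ y ∧ y ≠ a ∧ y ≠ b ∧ y ≠ c ∧ y ≠ e := fun y hy => by
    have h1 : d' y = y := (hd' y).resolve_right hy
    refine ⟨fun h => hy (by rw [hR, mul_apply, h, h1]), ?_, ?_, ?_, ?_⟩ <;> intro h
    · exact hmem' y (Or.inl h) h1
    · exact hmem' y (Or.inr (Or.inl h)) h1
    · exact hmem' y (Or.inr (Or.inr (Or.inl h))) h1
    · exact hmem' y (Or.inr (Or.inr (Or.inr h))) h1
  have hdisj2 : Perm.Disjoint hperm R := fun y => by
    by_cases hy : R y = y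
    · exact Or.inr hy
    · obtain ⟨h1, ha', hb', hc', he'⟩ := hRfix y hy
      have hdy : d y = y := (hd y).resolve_right h1
      exact Or.inl (double_fix (fun h => hmem y (Or.inr (Or.inl h)) hdy)
        (fun h => hmem y (Or.inr (Or.inr (Or.inl h))) hdy) hb' hc')
  have hdd'' : Perm.Disjoint d d' := fun y => by
    by_cases hy : d y = y
    · exact Or.inl hy
    · refine Or.inr (double_fix ?_ ?_ ?_ ?_) <;> intro h
      · exact hy ((hd y).resolve_right (hout y (Or.inl h)))
      · exact hy ((hd y).resolve_right (hout y (Or.inr (Or.inl h))))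
      · exact hy ((hd y).resolve_right (hout y (Or.inr (Or.inr (Or.inl h)))))
      · exact hy ((hd y).resolve_right (hout y (Or.inr (Or.inr (Or.inr h)))))
  have hRd : Perm.Disjoint d R := fun y => by
    by_cases hy : R y = y
    · exact Or.inr hy
    · exact Or.inl ((hd y).resolve_right (hRfix y hy).1)
  have hd'2 : d' * d' = 1 := IsDouble.mul_self ⟨_, _, _, _, hn', rfl⟩
  have hRdd : Perm.Disjoint d' R := hd'
  have hdec : σ = d * d' * R := by
    rw [hR, mul_assoc, ← mul_assoc d', hd'2, one_mul, hσ1, ← mul_assoc, hd2, one_mul]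
  set f := swap (σ p) r with hf
  set f' := swap b c with hf'
  have hfd' : Perm.Disjoint f d' := fun y => by
    by_cases hy : d' y = y
    · exact Or.inr hy
    · left
      have : y = a ∨ y = b ∨ y = c ∨ y = e := by
        by_contra hh
        simp only [not_or] at hh
        exact hy (double_fix hh.1 hh.2.1 hh.2.2.1 hh.2.2.2)
      exact swap_apply_of_ne_of_ne (hsep y this).2.1 (hsep y this).2.2.1
  have hf'd : Perm.Disjoint f' d := fun y => by
    by_cases hy : d y = y
    · exact Or.inr hy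
    · left
      refine swap_apply_of_ne_of_ne ?_ ?_ <;> intro h
      · exact hy ((hd y).resolve_right (hout y (Or.inr (Or.inl h))))
      · exact hy ((hd y).resolve_right (hout y (Or.inr (Or.inr (Or.inl h)))))
  have hff : Commute f f' := by
    refine Disjoint.commute fun y => ?_
    by_cases hy : y = b ∨ y = c
    · left
      rcases hy with rfl | rfl
      · exact swap_apply_of_ne_of_ne nbq nbr
      · exact swap_apply_of_ne_of_ne ncq ncr
    · simp only [not_or] at hy
      exact Or.inr (swap_apply_of_ne_of_ne hy.1 hy.2)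
  set e1 := f * d * f⁻¹
  set e2 := f' * d' * f'⁻¹
  have hconj : hperm * σ * hperm⁻¹ = e1 * e2 * R := by
    have k1 : hperm * d * hperm⁻¹ = e1 := by
      rw [show hperm = f * f' from rfl, mul_inv_rev, mul_assoc f, hf'd.commute.eq]
      group
      rfl
    have k2 : hperm * d' * hperm⁻¹ = e2 := by
      rw [show hperm = f * f' from rfl, hff.eq, mul_inv_rev, mul_assoc f', hfd'.commute.eq]
      group
      rfl
    have k3 : hperm * R * hperm⁻¹ = R := by rw [hdisj2.commute.eq, mul_inv_cancel_right]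
    rw [hdec, show hperm * (d * d' * R) * hperm⁻¹ =
      (hperm * d * hperm⁻¹) * (hperm * d' * hperm⁻¹) * (hperm * R * hperm⁻¹) by group, k1, k2, k3]
  obtain ⟨he1, hprod1⟩ := pairs_swap hn
  obtain ⟨he2, hprod2⟩ := pairs_swap hn'
  have hR2 : R * R = 1 := by
    have e' : σ1 = d' * R := by rw [hR, ← mul_assoc, hd'2, one_mul]
    have hcd : Commute d' R := hRdd.commute
    rw [e', hcd.symm.mul_mul_mul_comm, hd'2, one_mul] at hσ1'
    exact hσ1'
  have hprod : σ * (e1 * e2 * R) = (swap p (σ r) * swap (σ p) r) * (swap a e * swap b c) := by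
    have c1 : Commute R (e1 * e2) := by
      refine Commute.mul_right ?_ ?_
      · have h1 : Commute R f := by
          refine Disjoint.commute fun y => ?_
          by_cases hy : R y = y
          · exact Or.inl hy
          · obtain ⟨h1, -⟩ := hRfix y hy
            have hdy := (hd y).resolve_right h1
            exact Or.inr (swap_apply_of_ne_of_ne (fun h => hmem y (Or.inr (Or.inl h)) hdy)
              (fun h => hmem y (Or.inr (Or.inr (Or.inl h))) hdy))
        exact (h1.mul_right hRd.commute.symm).mul_right h1.inv_right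
      · have h1 : Commute R f' := by
          refine Disjoint.commute fun y => ?_
          by_cases hy : R y = y
          · exact Or.inl hy
          · obtain ⟨-, -, hb', hc', -⟩ := hRfix y hy
            exact Or.inr (swap_apply_of_ne_of_ne hb' hc')
        exact (h1.mul_right hRdd.commute.symm).mul_right h1.inv_right
    have c2 : Commute d' e1 := by
      exact ((hfd'.commute.symm).mul_right hdd''.commute.symm).mul_right hfd'.commute.symm.inv_right
    calc σ * (e1 * e2 * R) = d * d' * (R * (e1 * e2)) * R := by rw [hdec]; group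
      _ = d * d' * ((e1 * e2) * R) * R := by rw [c1.eq]
      _ = d * (d' * e1) * e2 * (R * R) := by group
      _ = (d * e1) * (d' * e2) := by rw [c2.eq, hR2]; group
      _ = _ := by
        show d * (f * d * f⁻¹) * (d' * (f' * d' * f'⁻¹)) = _
        rw [he1, he2, hprod1, hprod2]
  have hxH : Commute (H * t * H⁻¹) D.z := D.comm_conj hH htz
  set x := t * (H * t * H⁻¹) with hx
  have hxz : Commute x D.z := D.comm_mul htz hxH
  have hxp : D.pm x = (swap p (σ r) * swap (σ p) r) * (swap a e * swap b c) := by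
    rw [hx, D.pm_mul htz hxH, D.pm_conj hH htz, hHp, ← hσ', hconj, hprod]
  have hD1 : IsDouble (swap p (σ r) * swap (σ p) r) := by
    exact ⟨_, _, _, _, (by simp [npq, npr, nps, nqr, Ne.symm nqs, Ne.symm nrs]), rfl⟩
  have hD2 : IsDouble (swap a e * swap b c) := by
    exact ⟨_, _, _, _, (by simp [nab, nac, nae, nbc, Ne.symm nbe, Ne.symm nce]), rfl⟩
  have hDis : Perm.Disjoint (swap p (σ r) * swap (σ p) r) (swap a e * swap b c) := fun y => by
    by_cases hy : y = a ∨ y = b ∨ y = c ∨ y = e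
    · obtain ⟨h1, h2, h3, h4⟩ := hsep y hy
      exact Or.inl (double_fix h1 h4 h2 h3)
    · simp only [not_or] at hy
      exact Or.inr (double_fix hy.1 hy.2.2.2 hy.2.1 hy.2.2.1)
  have hx2 : x * x = 1 := D.sq_eq_one hxz hD1 hD2 hDis hxp
  have hne' : t ≠ H * t * H⁻¹ := fun h => by
    have : D.pm x = 1 := by rw [hx, ← h, ht.sq, D.pm_one]
    rw [hxp] at this
    have := congrArg (fun π : Perm (Fin n) => π p) this
    have hpa : (swap a e * swap b c) p = p := double_fix (fun h => (hsep a (Or.inl rfl)).1 h.symm)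
      (fun h => (hsep e (Or.inr (Or.inr (Or.inr rfl)))).1 h.symm) (fun h => (hsep b (Or.inr (Or.inl rfl))).1 h.symm)
      (fun h => (hsep c (Or.inr (Or.inr (Or.inl rfl)))).1 h.symm)
    simp only [mul_apply, one_apply] at this hpa
    rw [hpa, swap_apply_of_ne_of_ne npq npr, swap_apply_left] at this
    exact nps this.symm
  have hcomm : Commute t (H * t * H⁻¹) := by
    have hi := inv_eq_of_mul_eq_one_right hx2
    rw [hx, mul_inv_rev, inv_eq_of_mul_eq_one_right (ht.conj H).sq, inv_eq_of_mul_eq_one_right ht.sq] at hi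
    exact hi.symm
  refine ⟨x, D.inD_mul ht (ht.conj H) hcomm hne', hxz, fun h => ?_, _, _, hD1, hD2, hDis, hxp⟩
  have h0 : D.pm x = 1 := by rw [h, D.pm_z]
  have h8' := congrArg (fun π : Perm (Fin n) => π p) (hxp.symm.trans h0)
  have hpa : (swap a e * swap b c) p = p := double_fix (fun h => (hsep a (Or.inl rfl)).1 h.symm)
    (fun h => (hsep e (Or.inr (Or.inr (Or.inr rfl)))).1 h.symm) (fun h => (hsep b (Or.inr (Or.inl rfl))).1 h.symm)
    (fun h => (hsep c (Or.inr (Or.inr (Or.inl rfl)))).1 h.symm)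
  simp only [mul_apply, one_apply] at h8' hpa
  rw [hpa, swap_apply_of_ne_of_ne npq npr, swap_apply_left] at h8'
  exact nps h8'.symm

/-- The central involution is fused in a simple group. -/
theorem exists_moved [IsSimpleGroup G] : ∃ t, D.InD t ∧ Commute t D.z ∧ t ≠ D.z := by
  by_contra h
  push Not at h
  have hiso : Cfsg.IsIsolatedInvolution D.z :=
    ⟨orderOf_eq_prime (p := 2) (by rw [pow_two, D.zz]) D.z1, fun g hc => h _ ⟨g, rfl⟩ hc.symm⟩
  have hN : (Cfsg.pPrimeCore 2 G).Normal := by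
    unfold Cfsg.pPrimeCore
    exact Cfsg.Lib.Components.normal_of_mem_sSup_normal fun N hN => hN.1
  rcases hN.eq_bot_or_eq_top with hb | ht
  · have hcen : ∀ g, Commute g D.z := fun g => by
      have := Cfsg.Lib.ZStarApps.zstarProp hiso g
      rw [hb, Subgroup.mem_bot, mul_inv_eq_one, mul_inv_eq_iff_eq_mul] at this
      exact this.symm
    have hzc : D.z ∈ Subgroup.center G := Subgroup.mem_center_iff.2 fun g => (hcen g).eq
    rcases (inferInstance : (Subgroup.center G).Normal).eq_bot_or_eq_top with hb' | ht'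
    · exact D.z1 (Subgroup.mem_bot.1 (hb' ▸ hzc))
    · have hperf := D.K.hperf
      have hab : commutator (Subgroup.centralizer ({D.z} : Set G)) = ⊥ := by
        rw [commutator_def, Subgroup.commutator_eq_bot_iff_le_centralizer]
        intro g _
        rw [Subgroup.mem_centralizer_iff]
        intro k _
        have hgc : (g : G) ∈ Subgroup.center G := by rw [ht']; exact Subgroup.mem_top _
        exact Subtype.ext (Subgroup.mem_center_iff.1 hgc (k : G))
      rw [hperf] at hab
      have : D.K.z ∈ (⊥ : Subgroup (Subgroup.centralizer ({D.z} : Set G))) := hab ▸ Subgroup.mem_top _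
      exact D.K.hz (Subgroup.mem_bot.1 this)
  · have hodd := Cfsg.Lib.ZStarApps.odd_card_pPrimeCore (G := G)
    rw [ht, Subgroup.card_top] at hodd
    exact D.z_not_odd (hodd.of_dvd_nat (orderOf_dvd_natCard D.z))

include D in
theorem not_le_seven [IsSimpleGroup G] : 8 ≤ n := by
  obtain ⟨t, ht, htz, hne⟩ := D.exists_moved
  have := (D.invol_support htz ht.sq ht.ne_one hne).trans (Finset.card_le_univ _)
  rwa [Fintype.card_fin] at this

theorem pair_eq {β : Type*} [DecidableEq β] {p q r s : β} (hpq : p ≠ q) (hpr : p ≠ r) (hps : p ≠ s) (hqr : q ≠ r)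
    (hqs : q ≠ s) : swap p q * swap q r * (swap p q * swap q s) = swap p r * swap q s := by
  have h : swap p q * swap q r * swap p q = swap p r := by
    have := Equiv.swap_apply_apply (swap p q) q r
    rw [swap_apply_right, swap_apply_of_ne_of_ne hpr.symm hqr.symm, swap_inv] at this
    exact this.symm
  rw [← mul_assoc, h]

set_option maxHeartbeats 1000000 in
/-- No such group has degree at least twelve. -/
theorem not_twelve_le (D : Cov G n) [IsSimpleGroup G] (h12 : 12 ≤ n) : False := by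
  obtain ⟨t₀, ht₀, htz₀, hne₀⟩ := D.exists_moved
  obtain ⟨t, ⟨g, hg⟩, htz, hne, σ, τ, hσ, hτ, hd, hp⟩ := D.exists_four ht₀ htz₀ hne₀
  set P := D.pm t with hP
  set t' := g⁻¹ * D.z * g with ht'
  have ht'D : D.InD t' := ⟨g⁻¹, by rw [inv_inv]⟩
  have ht'z : Commute t' D.z := by
    show _ = _
    calc t' * D.z = g⁻¹ * (D.z * t) * g := by rw [hg, ht']; group
      _ = g⁻¹ * (t * D.z) * g := by rw [htz.eq]
      _ = D.z * t' := by rw [hg, ht']; group
  have ht'ne : t' ≠ D.z := fun h => hne (by rw [hg]; nth_rw 1 [← h]; rw [ht']; group)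
  have hcard : P.support.card = 8 := by
    rw [hp, hd.card_support_mul]
    have h4 : ∀ π : Perm (Fin n), IsDouble π → π.support.card = 4 := by
      rintro π ⟨p, q, r, s, hn, rfl⟩
      simp only [List.nodup_cons, List.mem_cons, List.not_mem_nil, or_false, not_or] at hn
      obtain ⟨⟨hpq, hpr, hps⟩, ⟨hqr, hqs⟩, hrs, -⟩ := hn
      have hdd : Perm.Disjoint (swap p q) (swap r s) := by
        rw [disjoint_iff_disjoint_support, support_swap hpq, support_swap hrs]
        simp [Ne.symm hpr, Ne.symm hps, Ne.symm hqr, Ne.symm hqs]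
      rw [hdd.card_support_mul, card_support_swap hpq, card_support_swap hrs]
    rw [h4 σ hσ, h4 τ hτ]
  have hout : 4 ≤ P.supportᶜ.card := by
    rw [Finset.card_compl, hcard, Fintype.card_fin]
    omega
  obtain ⟨W, hW, hW4⟩ := Finset.exists_subset_card_eq hout
  let f : Fin 4 ≃ W := (W.equivFinOfCardEq hW4).symm
  set w : Fin 4 → Fin n := fun i => (f i : Fin n) with hw
  have winj : Function.Injective w := fun i j h => f.injective (Subtype.ext h)
  have hwfix : ∀ i, P (w i) = w i := fun i =>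
    notMem_support.1 (Finset.mem_compl.1 (hW (f i).2))
  -- the members supported outside
  have hN : ∀ y, Commute y D.z → (∀ x, P x ≠ x → D.pm y x = x) → Commute y t := fun y hy h => by
    refine (D.comm_disjoint htz hy fun x => ?_).symm
    by_cases hx : P x = x
    · exact Or.inl hx
    · exact Or.inr (h x hx)
  let N : Subgroup G :=
    { carrier := {y | Commute y D.z ∧ ∀ x, P x ≠ x → D.pm y x = x}
      mul_mem' := fun {a b} ha hb => ⟨D.comm_mul ha.1 hb.1, fun x hx => by
        rw [D.pm_mul ha.1 hb.1, mul_apply, hb.2 x hx, ha.2 x hx]⟩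
      one_mem' := ⟨Commute.one_left _, fun x _ => by rw [D.pm_one, one_apply]⟩
      inv_mem' := fun {a} ha => ⟨ha.1.inv_left, fun x hx => by
        rw [D.pm_inv ha.1, Perm.inv_eq_iff_eq, ha.2 x hx]⟩ }
  have hznotN : t ∉ N := fun h => by
    obtain ⟨x, hx⟩ : P.support.Nonempty := Finset.card_pos.1 (by omega)
    exact mem_support.1 hx (h.2 x (mem_support.1 hx))
  have hcyc : ∀ i j k : Fin 4, i ≠ j → j ≠ k → i ≠ k →
      ∃ y ∈ N, y * y * y = 1 ∧ D.pm y = swap (w i) (w j) * swap (w j) (w k) := by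
    intro i j k hij hjk hik
    have h1 : w i ≠ w j := fun h => hij (winj h)
    have h2 : w j ≠ w k := fun h => hjk (winj h)
    have h3 : w i ≠ w k := fun h => hik (winj h)
    obtain ⟨y, hy, hy3, hyp⟩ := D.exists_three (σ := swap (w i) (w j) * swap (w j) (w k))
      (by rw [map_mul, sign_swap h1, sign_swap h2]; rfl) (by
        have hc := (isThreeCycle_swap_mul_swap_same (a := w j) (b := w i) (c := w k) h1.symm h2 h3).orderOf
        rw [swap_comm (w j) (w i)] at hc
        have hp := pow_orderOf_eq_one (swap (w i) (w j) * swap (w j) (w k))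
        rwa [hc, pow_succ, pow_two] at hp)
    refine ⟨y, ⟨hy, fun x hx => ?_⟩, hy3, hyp⟩
    have hne' : ∀ l, x ≠ w l := fun l h => hx (h ▸ hwfix l)
    rw [hyp, mul_apply, swap_apply_of_ne_of_ne (hne' j) (hne' k), swap_apply_of_ne_of_ne (hne' i) (hne' j)]
  obtain ⟨y₀, hy₀N, hy₀3, hy₀p⟩ := hcyc 0 1 2 (by decide) (by decide) (by decide)
  obtain ⟨y₁, hy₁N, hy₁3, hy₁p⟩ := hcyc 0 1 3 (by decide) (by decide) (by decide)
  have hsq : y₀ * y₁ * (y₀ * y₁) = D.z := by
    refine D.sq_eq_z (D.comm_mul hy₀N.1 hy₁N.1) ⟨w 0, w 2, w 1, w 3, ?_, ?_⟩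
    · simp [winj.eq_iff]
    · rw [D.pm_mul hy₀N.1 hy₁N.1, hy₀p, hy₁p, pair_eq (winj.ne (by decide : (0 : Fin 4) ≠ 1))
        (winj.ne (by decide : (0 : Fin 4) ≠ 2)) (winj.ne (by decide : (0 : Fin 4) ≠ 3))
        (winj.ne (by decide : (1 : Fin 4) ≠ 2)) (winj.ne (by decide : (1 : Fin 4) ≠ 3))]
  have hzN : D.z ∈ N := hsq ▸ N.mul_mem (N.mul_mem hy₀N hy₁N) (N.mul_mem hy₀N hy₁N)
  -- images
  set c : G → G := fun y => g⁻¹ * y * g with hc
  have hcz : ∀ y ∈ N, Commute (c y) D.z ∧ Commute (c y) t' := fun y hy => by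
    constructor
    · show _ = _
      calc c y * D.z = g⁻¹ * (y * t) * g := by rw [hg, hc]; group
        _ = g⁻¹ * (t * y) * g := by rw [(hN y hy.1 hy.2).eq]
        _ = D.z * c y := by rw [hg, hc]; group
    · show _ = _
      calc c y * t' = g⁻¹ * (y * D.z) * g := by rw [ht', hc]; group
        _ = g⁻¹ * (D.z * y) * g := by rw [hy.1.eq]
        _ = t' * c y := by rw [ht', hc]; group
  set P' := D.pm t' with hP'
  obtain ⟨y, hyN, hy3, p, hpP, hyp⟩ : ∃ y ∈ N, y * y * y = 1 ∧ ∃ p, P' p ≠ p ∧ D.pm (c y) p ≠ p := by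
    by_contra hno
    push Not at hno
    have e : t' = c y₀ * c y₁ * (c y₀ * c y₁) := by
      rw [ht', ← hsq, hc]; group
    obtain ⟨p, hpP⟩ : P'.support.Nonempty := Finset.card_pos.1
      (Nat.lt_of_lt_of_le (by norm_num : 0 < 8) (D.invol_support ht'z ht'D.sq ht'D.ne_one ht'ne))
    have h0 := hno y₀ hy₀N hy₀3 p (mem_support.1 hpP)
    have h1 := hno y₁ hy₁N hy₁3 p (mem_support.1 hpP)
    have c0 := (hcz y₀ hy₀N).1
    have c1 := (hcz y₁ hy₁N).1
    refine mem_support.1 hpP ?_
    rw [hP', e, D.pm_mul (D.comm_mul c0 c1) (D.comm_mul c0 c1), D.pm_mul c0 c1]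
    simp only [mul_apply, h0, h1]
  obtain ⟨hyz, hyt⟩ := hcz y hyN
  set Y := D.pm (c y) with hY
  have hYP : Commute Y P' := D.comm_pm hyz ht'z hyt
  have hY3 : Y * Y * Y = 1 := by
    rw [hY, ← D.pm_mul hyz hyz, ← D.pm_mul (D.comm_mul hyz hyz) hyz,
      show c y * c y * c y = g⁻¹ * (y * y * y) * g by rw [hc]; group, hy3, mul_one, inv_mul_cancel, D.pm_one]
  have hP2 : P' * P' = 1 := by rw [hP', ← D.pm_mul ht'z ht'z, ht'D.sq, D.pm_one]
  have y3 : ∀ x, Y (Y (Y x)) = x := fun x => by rw [← mul_apply, ← mul_apply, hY3, one_apply]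
  have p2 : ∀ x, P' (P' x) = x := fun x => by rw [← mul_apply, hP2, one_apply]
  have yp : ∀ x, Y (P' x) = P' (Y x) := apply_comm hYP
  have hpY : Y p ≠ P' p := fun h => by
    have h1 : Y (Y p) = p := by rw [h, yp, h, p2]
    have := y3 p
    rw [h1] at this
    exact hyp this
  have hnod : [p, P' p, Y p, P' (Y p)].Nodup := by
    have h1 : P' (Y p) ≠ Y p := fun h => hpP (Y.injective (by rw [yp, h]))
    simp only [List.nodup_cons, List.mem_cons, List.not_mem_nil, or_false, not_or]
    refine ⟨⟨Ne.symm hpP, Ne.symm hyp, fun h => hpY ((p2 _).symm.trans (congrArg P' h.symm))⟩, ⟨Ne.symm hpY, fun h => hyp (P'.injective h).symm⟩,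
      Ne.symm h1, not_false, List.nodup_nil⟩
  set d := swap p (P' p) * swap (Y p) (P' (Y p)) with hdd
  have hdbl : IsDouble d := ⟨_, _, _, _, hnod, rfl⟩
  obtain ⟨F, hF, hFp⟩ := D.exists_lift (isDouble_sign hdbl)
  -- `F` commutes with the image of the central involution
  have hFt : Commute F t' := by
    have hR : Perm.Disjoint d (d * P') := fun x => by
      by_cases h : x = p ∨ x = P' p ∨ x = Y p ∨ x = P' (Y p)
      · right
        simp only [List.nodup_cons, List.mem_cons, List.not_mem_nil, or_false, not_or] at hnod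
        obtain ⟨⟨a1, a2, a3⟩, ⟨a4, a5⟩, a6, -⟩ := hnod
        rcases h with rfl | rfl | rfl | rfl <;> rw [mul_apply, hdd, mul_apply]
        · rw [swap_apply_of_ne_of_ne a4 a5, swap_apply_right]
        · rw [p2, swap_apply_of_ne_of_ne a2 a3, swap_apply_left]
        · rw [swap_apply_right, swap_apply_of_ne_of_ne (Ne.symm a2) (Ne.symm a4)]
        · rw [p2, swap_apply_left, swap_apply_of_ne_of_ne (Ne.symm a3) (Ne.symm a5)]
      · simp only [not_or] at h
        exact Or.inl (double_fix h.1 h.2.1 h.2.2.1 h.2.2.2)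
    have hRz : Commute (F⁻¹ * t') D.z := D.comm_mul hF.inv_left ht'z
    have hRp : D.pm (F⁻¹ * t') = d * P' := by
      rw [D.pm_mul hF.inv_left ht'z, D.pm_inv hF, hFp, inv_eq_of_mul_eq_one_right hdbl.mul_self]
    have := D.comm_disjoint hF hRz (by rw [hFp, hRp]; exact hR)
    have h2 := (Commute.refl F).mul_right this
    rwa [mul_inv_cancel_left] at h2
  -- the commutator has a double transposition as permutation
  set N' := N.map (MulAut.conj g⁻¹).toMonoidHom with hN'
  have hmem' : ∀ x, x ∈ N' ↔ g * x * g⁻¹ ∈ N := fun x => by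
    rw [hN', Subgroup.mem_map]
    constructor
    · rintro ⟨m, hm, rfl⟩
      simpa [MulAut.conj_apply, mul_assoc] using hm
    · exact fun h => ⟨_, h, by simp [MulAut.conj_apply, mul_assoc]⟩
  have hzN' : D.z ∉ N' := fun h => hznotN (hg ▸ (hmem' _).1 h)
  have hnormal : ∀ k, Commute k D.z → Commute k t' → ∀ x ∈ N', k * x * k⁻¹ ∈ N' := by
    intro k hk hkt x hx
    rw [hmem'] at hx ⊢
    set k' := g * k * g⁻¹ with hk'
    have k1 : Commute k' D.z := by
      show _ = _
      calc k' * D.z = g * (k * t') * g⁻¹ := by rw [hk', ht']; group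
        _ = g * (t' * k) * g⁻¹ := by rw [hkt.eq]
        _ = D.z * k' := by rw [hk', ht']; group
    have k2 : Commute k' t := by
      show _ = _
      calc k' * t = g * (k * D.z) * g⁻¹ := by rw [hg, hk']; group
        _ = g * (D.z * k) * g⁻¹ := by rw [hk.eq]
        _ = t * k' := by rw [hg, hk']; group
    have hK : Commute (D.pm k') P := D.comm_pm k1 htz k2
    rw [show g * (k * x * k⁻¹) * g⁻¹ = k' * (g * x * g⁻¹) * k'⁻¹ by rw [hk']; group]
    refine ⟨D.comm_conj k1 hx.1, fun q hq => ?_⟩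
    rw [D.pm_conj k1 hx.1, mul_apply, mul_apply]
    have hq' : P ((D.pm k')⁻¹ q) ≠ (D.pm k')⁻¹ q := fun h => hq (by
      have := congrArg (D.pm k') h
      rwa [apply_comm hK, Perm.inv_def, Equiv.apply_symm_apply] at this)
    rw [hx.2 _ hq', Perm.inv_def, Equiv.apply_symm_apply]
  have hcy : c y ∈ N' := (hmem' _).2 (by
    rw [show g * c y * g⁻¹ = y by rw [hc]; group]; exact hyN)
  have hW : F * c y * F⁻¹ * (c y)⁻¹ ∈ N' := N'.mul_mem (hnormal F hF hFt _ hcy) (N'.inv_mem hcy)
  have hWz : Commute (F * c y * F⁻¹ * (c y)⁻¹) D.z := (D.comm_conj hF hyz).mul_left hyz.inv_left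
  have hdbl2 : IsDouble (d * (Y * d * Y⁻¹)) := by
    have e : Y * d * Y⁻¹ = swap (Y p) (P' (Y p)) * swap (Y (Y p)) (P' (Y (Y p))) := by
      rw [hdd, show Y * (swap p (P' p) * swap (Y p) (P' (Y p))) * Y⁻¹ =
        (Y * swap p (P' p) * Y⁻¹) * (Y * swap (Y p) (P' (Y p)) * Y⁻¹) by group,
        ← swap_apply_apply, ← swap_apply_apply, yp, yp]
    refine ⟨p, P' p, Y (Y p), P' (Y (Y p)), ?_, ?_⟩
    · have h2 : Y (Y p) ≠ P' p := fun h => by
        refine hpY ?_
        have h' := congrArg Y h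
        rw [y3, yp] at h'
        exact (p2 _).symm.trans (congrArg P' h'.symm)
      have h3 : Y (Y p) ≠ p := fun h => hyp (by have := y3 p; rwa [h] at this)
      have h1 : P' (Y (Y p)) ≠ Y (Y p) := fun h => hpP (Y.injective (Y.injective (by rw [yp, yp, h])))
      simp only [List.nodup_cons, List.mem_cons, List.not_mem_nil, or_false, not_or]
      exact ⟨⟨Ne.symm hpP, Ne.symm h3, fun h => h2 ((p2 _).symm.trans (congrArg P' h.symm))⟩, ⟨Ne.symm h2, fun h => h3 (P'.injective h).symm⟩,
        Ne.symm h1, not_false, List.nodup_nil⟩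
    · rw [e, hdd, mul_assoc, Equiv.swap_mul_self_mul]
  refine hzN' ?_
  rw [← D.sq_eq_z hWz (by
    rw [D.pm_mul (D.comm_conj hF hyz) hyz.inv_left, D.pm_conj hF hyz, D.pm_inv hyz, hFp, ← hY]
    rwa [inv_eq_of_mul_eq_one_right hdbl.mul_self, mul_assoc (d * Y), mul_assoc d, ← mul_assoc Y])]
  exact N'.mul_mem hW hW

end Cov

end Cfsg.Lib.DoubleCoverAlt
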