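import Mathlib
import Cfsg.Agent.DoubleCoverAlt.Perms

/-!
# Explicit permutations in degrees nine and ten
-/

set_option autoImplicit false
set_option linter.unusedSectionVars false
set_option linter.unusedSimpArgs false

namespace Cfsg.Lib.DoubleCoverAlt.P9

open Equiv Equiv.Perm

variable (m : ℕ)

/-- `(0 1 2)` -/
def pa : Perm (Fin (m + 9)) := swap 0 1 * swap 1 2
/-- `(3 4 5)` -/
def pb : Perm (Fin (m + 9)) := swap 3 4 * swap 4 5
/-- `(6 7 8)` -/
def pc : Perm (Fin (m + 9)) := swap 6 7 * swap 7 8
/-- four transpositions -/
def pu : Perm (Fin (m + 9)) := swap 0 3 * swap 1 4 * swap 2 5 * swap 6 7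
/-- `(1 2)(4 5)` -/
def pt : Perm (Fin (m + 9)) := swap 1 2 * swap 4 5
/-- the cycle of the three triples -/
def pk : Perm (Fin (m + 9)) := swap 0 3 * swap 3 6 * (swap 1 4 * swap 4 7) * (swap 2 5 * swap 5 8)

variable {m}
variable (hn : m = 0 ∨ m = 1)
include hn

theorem pa3 : pa m * pa m * pa m = 1 := by rcases hn with rfl | rfl <;> decide +kernel
theorem pb3 : pb m * pb m * pb m = 1 := by rcases hn with rfl | rfl <;> decide +kernel
theorem pc3 : pc m * pc m * pc m = 1 := by rcases hn with rfl | rfl <;> decide +kernel
theorem pk3 : pk m * pk m * pk m = 1 := by rcases hn with rfl | rfl <;> decide +kernel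
theorem sign_pa : sign (pa m) = 1 := by rcases hn with rfl | rfl <;> decide +kernel
theorem sign_pb : sign (pb m) = 1 := by rcases hn with rfl | rfl <;> decide +kernel
theorem sign_pc : sign (pc m) = 1 := by rcases hn with rfl | rfl <;> decide +kernel
theorem sign_pk : sign (pk m) = 1 := by rcases hn with rfl | rfl <;> decide +kernel
theorem sign_pu : sign (pu m) = 1 := by rcases hn with rfl | rfl <;> decide +kernel
theorem sign_pt : sign (pt m) = 1 := by rcases hn with rfl | rfl <;> decide +kernel
theorem pu2 : pu m * pu m = 1 := by rcases hn with rfl | rfl <;> decide +kernel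
theorem pt2 : pt m * pt m = 1 := by rcases hn with rfl | rfl <;> decide +kernel
theorem comm_ab : Commute (pa m) (pb m) := by
  show _ = _; rcases hn with rfl | rfl <;> decide +kernel
theorem comm_ac : Commute (pa m) (pc m) := by
  show _ = _; rcases hn with rfl | rfl <;> decide +kernel
theorem comm_bc : Commute (pb m) (pc m) := by
  show _ = _; rcases hn with rfl | rfl <;> decide +kernel
theorem comm_tc : Commute (pt m) (pc m) := by
  show _ = _; rcases hn with rfl | rfl <;> decide +kernel
theorem comm_u_ab : Commute (pu m) (pa m * pb m) := by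
  show _ = _; rcases hn with rfl | rfl <;> decide +kernel
theorem conj_ua : pu m * pa m * (pu m)⁻¹ = pb m := by rcases hn with rfl | rfl <;> decide +kernel
theorem conj_ub : pu m * pb m * (pu m)⁻¹ = pa m := by rcases hn with rfl | rfl <;> decide +kernel
theorem conj_uc : pu m * pc m * (pu m)⁻¹ = (pc m)⁻¹ := by rcases hn with rfl | rfl <;> decide +kernel
theorem conj_ta : pt m * pa m * (pt m)⁻¹ = (pa m)⁻¹ := by rcases hn with rfl | rfl <;> decide +kernel
theorem conj_tb : pt m * pb m * (pt m)⁻¹ = (pb m)⁻¹ := by rcases hn with rfl | rfl <;> decide +kernel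
theorem conj_ka : pk m * pa m * (pk m)⁻¹ = pb m := by rcases hn with rfl | rfl <;> decide +kernel
theorem conj_kb : pk m * pb m * (pk m)⁻¹ = pc m := by rcases hn with rfl | rfl <;> decide +kernel
theorem conj_kc : pk m * pc m * (pk m)⁻¹ = pa m := by rcases hn with rfl | rfl <;> decide +kernel

theorem pu_eq : IsDouble (swap (0 : Fin (m + 9)) 3 * swap 1 4) ∧ IsDouble (swap (2 : Fin (m + 9)) 5 * swap 6 7) ∧
    pu m = swap (0 : Fin (m + 9)) 3 * swap 1 4 * (swap 2 5 * swap 6 7) ∧
    Perm.Disjoint (swap (0 : Fin (m + 9)) 3 * swap 1 4) (swap 2 5 * swap 6 7) := by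
  refine ⟨⟨0, 3, 1, 4, ?_, rfl⟩, ⟨2, 5, 6, 7, ?_, rfl⟩, mul_assoc _ _ _, fun x => ?_⟩
  · rcases hn with rfl | rfl <;> decide +kernel
  · rcases hn with rfl | rfl <;> decide +kernel
  · rcases hn with rfl | rfl <;> revert x <;> decide +kernel

theorem put_eq : IsDouble (swap (0 : Fin (m + 9)) 3 * swap 6 7) ∧ IsDouble (swap (1 : Fin (m + 9)) 5 * swap 2 4) ∧
    pu m * pt m = swap (0 : Fin (m + 9)) 3 * swap 6 7 * (swap 1 5 * swap 2 4) ∧
    Perm.Disjoint (swap (0 : Fin (m + 9)) 3 * swap 6 7) (swap 1 5 * swap 2 4) := by
  refine ⟨⟨0, 3, 6, 7, ?_, rfl⟩, ⟨1, 5, 2, 4, ?_, rfl⟩, ?_, fun x => ?_⟩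
  · rcases hn with rfl | rfl <;> decide +kernel
  · rcases hn with rfl | rfl <;> decide +kernel
  · rcases hn with rfl | rfl <;> decide +kernel
  · rcases hn with rfl | rfl <;> revert x <;> decide +kernel

theorem pt_double : IsDouble (pt m) :=
  ⟨1, 2, 4, 5, by rcases hn with rfl | rfl <;> decide +kernel, rfl⟩

theorem cycleType_pu : (pu m).cycleType = Multiset.replicate 4 2 := by
  have h2 := pu2 hn
  obtain ⟨k, hk, hc, -⟩ := Cfsg.Lib.AltCover.invol_cycleType h2
  have h8 : (pu m).support.card = 8 := by rcases hn with rfl | rfl <;> decide +kernel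
  have := sum_cycleType (pu m)
  rw [hk, Multiset.sum_replicate, smul_eq_mul, h8] at this
  rw [hk, show k = 4 by omega]

/-! ### Centralizers -/

/-- A permutation commuting with the three cycles is a product of their powers. -/
theorem triple {σ : Perm (Fin (m + 9))} (ha : Commute σ (pa m)) (hb : Commute σ (pb m)) (hc : Commute σ (pc m)) :
    ∃ i j k : Fin 3, σ = pa m ^ (i : ℕ) * pb m ^ (j : ℕ) * pc m ^ (k : ℕ) := by
  have e1 := apply_comm ha
  have e2 := apply_comm hb
  have e3 := apply_comm hc
  have f1 : ∀ x, pa m x = x ↔ pa m (σ x) = σ x := fun x => by rw [← e1, σ.injective.eq_iff]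
  have f2 : ∀ x, pb m x = x ↔ pb m (σ x) = σ x := fun x => by rw [← e2, σ.injective.eq_iff]
  have f3 : ∀ x, pc m x = x ↔ pc m (σ x) = σ x := fun x => by rw [← e3, σ.injective.eq_iff]
  rcases hn with rfl | rfl
  all_goals
    obtain ⟨i, hi⟩ : ∃ i : Fin 3, σ 0 = (pa _ ^ (i : ℕ)) 0 := by
      have h : ¬ pa _ (σ 0) = σ 0 := fun h => absurd ((f1 0).2 h) (by decide +kernel)
      revert h
      generalize σ 0 = y
      revert y
      decide +kernel
    obtain ⟨j, hj⟩ : ∃ j : Fin 3, σ 3 = (pb _ ^ (j : ℕ)) 3 := by
      have h : ¬ pb _ (σ 3) = σ 3 := fun h => absurd ((f2 3).2 h) (by decide +kernel)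
      revert h
      generalize σ 3 = y
      revert y
      decide +kernel
    obtain ⟨k, hk⟩ : ∃ k : Fin 3, σ 6 = (pc _ ^ (k : ℕ)) 6 := by
      have h : ¬ pc _ (σ 6) = σ 6 := fun h => absurd ((f3 6).2 h) (by decide +kernel)
      revert h
      generalize σ 6 = y
      revert y
      decide +kernel
    refine ⟨i, j, k, Perm.ext fun x => ?_⟩
    have q0 := hi
    have q1 := (e1 0).trans (congrArg (pa _) q0)
    have q2 := (e1 _).trans (congrArg (pa _) q1)
    have q3 := hj
    have q4 := (e2 3).trans (congrArg (pb _) q3)
    have q5 := (e2 _).trans (congrArg (pb _) q4)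
    have q6 := hk
    have q7 := (e3 6).trans (congrArg (pc _) q6)
    have q8 := (e3 _).trans (congrArg (pc _) q7)
    fin_cases x
    · exact q0.trans (by clear * - i j k; revert i j k; decide +kernel)
    · exact q1.trans (by clear * - i j k; revert i j k; decide +kernel)
    · exact q2.trans (by clear * - i j k; revert i j k; decide +kernel)
    · exact q3.trans (by clear * - i j k; revert i j k; decide +kernel)
    · exact q4.trans (by clear * - i j k; revert i j k; decide +kernel)
    · exact q5.trans (by clear * - i j k; revert i j k; decide +kernel)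
    · exact q6.trans (by clear * - i j k; revert i j k; decide +kernel)
    · exact q7.trans (by clear * - i j k; revert i j k; decide +kernel)
    · exact q8.trans (by clear * - i j k; revert i j k; decide +kernel)
    all_goals
      have g1 := f1 (9 : Fin (1 + 9))
      have g2 := f2 (9 : Fin (1 + 9))
      have g3 := f3 (9 : Fin (1 + 9))
      have h9 : σ (9 : Fin (1 + 9)) = 9 := by
        have a1 := g1.1 (by decide +kernel)
        have a2 := g2.1 (by decide +kernel)
        have a3 := g3.1 (by decide +kernel)
        revert a1 a2 a3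
        generalize σ (9 : Fin (1 + 9)) = y
        revert y
        decide +kernel
      exact h9.trans (by clear * - i j k; revert i j k; decide +kernel)

/-- In a product of powers of the cycles, the exponents are visible. -/
theorem triple_sign (i j k : Fin 3) : sign (pa m ^ (i : ℕ) * pb m ^ (j : ℕ) * pc m ^ (k : ℕ)) = 1 := by
  rw [map_mul, map_mul, map_pow, map_pow, map_pow, sign_pa hn, sign_pb hn, sign_pc hn, one_pow, one_pow, one_pow,
    one_mul, one_mul]

/-- A permutation commuting with the product of the first two cycles either preserves both or, after the involution. -/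
theorem pres_or_swap {σ : Perm (Fin (m + 9))} (h : Commute σ (pa m * pb m)) :
    (Commute σ (pa m) ∧ Commute σ (pb m)) ∨
      (Commute (pu m * σ) (pa m) ∧ Commute (pu m * σ) (pb m)) := by
  have key : ∀ τ : Perm (Fin (m + 9)), Commute τ (pa m * pb m) → pa m (τ 0) ≠ τ 0 → Commute τ (pa m) ∧ Commute τ (pb m) := by
    intro τ hτ h0
    have e := apply_comm hτ
    have f : ∀ x, (pa m * pb m) x = x ↔ (pa m * pb m) (τ x) = τ x := fun x => by rw [← e, τ.injective.eq_iff]
    have ha : Commute τ (pa m) := by
      show _ = _
      refine Perm.ext fun x => ?_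
      rw [mul_apply, mul_apply]
      rcases hn with rfl | rfl
      all_goals
        have q1 := e 0
        have q2 := e ((pa _ * pb _ : Perm (Fin _)) 0)
        have t1 : pa _ (τ ((pa _ * pb _ : Perm (Fin _)) 0)) ≠ τ ((pa _ * pb _ : Perm (Fin _)) 0) ∧
            (pa _ * pb _ : Perm (Fin _)) (τ 0) = pa _ (τ 0) ∧
            (pa _ * pb _ : Perm (Fin _)) ((pa _ * pb _ : Perm (Fin _)) (τ 0)) = pa _ (pa _ (τ 0)) := by
          rw [q1]
          revert h0
          generalize τ 0 = y
          revert y
          decide +kernel
        by_cases hx : pa _ x = x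
        · rw [hx]
          by_contra hne
          have hx' : pa _ (τ x) ≠ τ x := fun h => hne h.symm
          have : τ x = τ 0 ∨ τ x = pa _ (τ 0) ∨ τ x = pa _ (pa _ (τ 0)) := by
            revert h0 hx'
            generalize τ 0 = y
            generalize τ x = w
            revert y w
            decide +kernel
          rw [← t1.2.2, ← t1.2.1, ← q1, ← q2, τ.injective.eq_iff, τ.injective.eq_iff, τ.injective.eq_iff] at this
          clear hne hx'
          revert hx this
          revert x
          decide +kernel
        · have hx' : x = 0 ∨ x = (pa _ * pb _ : Perm (Fin _)) 0 ∨ x = (pa _ * pb _ : Perm (Fin _)) ((pa _ * pb _ : Perm (Fin _)) 0) := by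
            revert hx
            revert x
            decide +kernel
          have hax : pa _ x = (pa _ * pb _ : Perm (Fin _)) x := by
            revert hx
            revert x
            decide +kernel
          rw [hax, e]
          have hy : pa _ (τ x) ≠ τ x := by
            rcases hx' with rfl | rfl | rfl
            · exact h0
            · exact t1.1
            · rw [q2, q1]
              revert h0
              generalize τ 0 = y
              revert y
              decide +kernel
          revert hy
          generalize τ x = y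
          revert y
          decide +kernel
    refine ⟨ha, ?_⟩
    have := ha.inv_right.mul_right hτ
    rwa [inv_mul_cancel_left] at this
  by_cases h0 : pa m (σ 0) ≠ σ 0
  · exact Or.inl (key σ h h0)
  · refine Or.inr (key _ ((comm_u_ab hn).mul_left h) ?_)
    have f : (pa m * pb m) (σ 0) ≠ σ 0 := fun hh => by
      rw [← apply_comm h, σ.injective.eq_iff] at hh
      revert hh
      rcases hn with rfl | rfl <;> decide +kernel
    rw [mul_apply]
    push Not at h0
    revert h0 f
    generalize σ 0 = y
    revert y
    rcases hn with rfl | rfl <;> decide +kernel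

/-- An even permutation commuting with the first two cycles and fixing the tenth point commutes with the third. -/
theorem comm_third {σ : Perm (Fin (m + 9))} (ha : Commute σ (pa m)) (hb : Commute σ (pb m)) (hs : sign σ = 1)
    (h9 : ∀ x, pa m x = x → pb m x = x → pc m x = x → σ x = x) : Commute σ (pc m) := by
  have f1 : ∀ x, pa m x = x ↔ pa m (σ x) = σ x := fun x => by rw [← apply_comm ha, σ.injective.eq_iff]
  have f2 : ∀ x, pb m x = x ↔ pb m (σ x) = σ x := fun x => by rw [← apply_comm hb, σ.injective.eq_iff]
  have hconj : σ * pc m * σ⁻¹ = pc m ∨ σ * pc m * σ⁻¹ = (pc m)⁻¹ := by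
    rcases hn with rfl | rfl
    all_goals
      have h6 : pc _ (σ 6) ≠ σ 6 := fun h => by
        have a := (f1 6).1 (by decide +kernel)
        have b := (f2 6).1 (by decide +kernel)
        have e := h9 _ a b h
        rw [σ.injective.eq_iff] at e
        rw [e] at h
        revert h
        decide +kernel
      have h7 : pc _ (σ 7) ≠ σ 7 := fun h => by
        have a := (f1 7).1 (by decide +kernel)
        have b := (f2 7).1 (by decide +kernel)
        have e := h9 _ a b h
        rw [σ.injective.eq_iff] at e
        rw [e] at h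
        revert h
        decide +kernel
      have h8 : pc _ (σ 8) ≠ σ 8 := fun h => by
        have a := (f1 8).1 (by decide +kernel)
        have b := (f2 8).1 (by decide +kernel)
        have e := h9 _ a b h
        rw [σ.injective.eq_iff] at e
        rw [e] at h
        revert h
        decide +kernel
      have n67 : σ 6 ≠ σ 7 := fun h => absurd (σ.injective h) (by decide +kernel)
      have n68 : σ 6 ≠ σ 8 := fun h => absurd (σ.injective h) (by decide +kernel)
      have n78 : σ 7 ≠ σ 8 := fun h => absurd (σ.injective h) (by decide +kernel)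
      have hc' : σ * pc _ * σ⁻¹ = swap (σ 6) (σ 7) * swap (σ 7) (σ 8) := by
        rw [pc, swap_apply_apply, swap_apply_apply]
        group
      rw [hc']
      revert h6 h7 h8 n67 n68 n78
      generalize σ 6 = p
      generalize σ 7 = q
      generalize σ 8 = r
      revert p q r
      decide +kernel
  rcases hconj with h | h
  · exact mul_inv_eq_iff_eq_mul.1 h
  · exfalso
    set s : Perm (Fin (m + 9)) := swap 6 7 with hs7
    have k1 : Commute s (pa m) := by show _ = _; rw [hs7]; rcases hn with rfl | rfl <;> decide +kernel
    have k2 : Commute s (pb m) := by show _ = _; rw [hs7]; rcases hn with rfl | rfl <;> decide +kernel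
    have k3 : s * pc m = (pc m)⁻¹ * s := by rw [hs7]; rcases hn with rfl | rfl <;> decide +kernel
    have k4 : Commute (s * σ) (pc m) := by
      show _ = _
      rw [mul_inv_eq_iff_eq_mul] at h
      have k3' : s * (pc m)⁻¹ = pc m * s := by
        rw [mul_inv_eq_iff_eq_mul, mul_assoc, k3, mul_inv_cancel_left]
      rw [mul_assoc, h, ← mul_assoc, k3', mul_assoc]
    obtain ⟨i, j, k, he⟩ := triple hn (k1.mul_left ha) (k2.mul_left hb) k4
    have hsg : sign s = -1 := by rw [hs7]; rcases hn with rfl | rfl <;> decide +kernel
    have := congrArg sign he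
    rw [map_mul, hs, hsg, triple_sign hn] at this
    exact absurd this (by decide)

theorem card_centralizer_ab : (Nat.card (Subgroup.centralizer ({pa m * pb m} : Set (Perm (Fin (m + 9)))))) ∣ 432 := by
  have hab : (pa m * pb m).cycleType = Multiset.replicate 2 3 := by
    haveI : Fact (Nat.Prime 3) := ⟨Nat.prime_three⟩
    have ho : orderOf (pa m * pb m) = 3 := orderOf_eq_prime
      (by rcases hn with rfl | rfl <;> decide +kernel) (by rcases hn with rfl | rfl <;> decide +kernel)
    obtain ⟨l, hl⟩ := cycleType_prime_order (σ := pa m * pb m) (by rw [ho]; exact Nat.prime_three)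
    rw [ho] at hl
    have h6 : (pa m * pb m).support.card = 6 := by rcases hn with rfl | rfl <;> decide +kernel
    have := sum_cycleType (pa m * pb m)
    rw [hl, Multiset.sum_replicate, smul_eq_mul, h6] at this
    rw [hl, show l + 1 = 2 by omega]
  rw [nat_card_centralizer, hab, Multiset.sum_replicate, Multiset.prod_replicate, Fintype.card_fin]
  simp only [Multiset.toFinset_replicate, show (2 : ℕ) ≠ 0 by decide, if_false, Finset.prod_singleton,
    Multiset.count_replicate_self, smul_eq_mul]
  rcases hn with rfl | rfl <;> decide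

theorem card_centralizer_u : (Nat.card (Subgroup.centralizer ({pu m} : Set (Perm (Fin (m + 9)))))) ∣ 768 := by
  rw [nat_card_centralizer, cycleType_pu hn, Multiset.sum_replicate, Multiset.prod_replicate, Fintype.card_fin]
  simp only [Multiset.toFinset_replicate, show (4 : ℕ) ≠ 0 by decide, if_false, Finset.prod_singleton,
    Multiset.count_replicate_self, smul_eq_mul]
  rcases hn with rfl | rfl <;> decide

end Cfsg.Lib.DoubleCoverAlt.P9
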