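import Mathlib
import Cfsg.Agent.DoubleCoverAlt.Large
import Cfsg.Agent.DoubleCoverAlt.PermData

/-!
# A frame in degrees nine and ten

Lifts of the chosen permutations, and an element interchanging two commuting involutions.
-/

set_option autoImplicit false
set_option linter.unusedSectionVars false
set_option linter.unusedSimpArgs false
set_option linter.style.haveILetI false

namespace Cfsg.Lib.DoubleCoverAlt

open Equiv

universe u

variable {G : Type u} [Group G] [Finite G] {m : ℕ}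

/-- Chosen lifts and the element `h` interchanging `z` and `u`. -/
structure Frame (D : Cov G (m + 9)) where
  hm : m = 0 ∨ m = 1
  a : G
  b : G
  c : G
  u : G
  τ : G
  κ : G
  h : G
  az : Commute a D.z
  bz : Commute b D.z
  cz : Commute c D.z
  uz : Commute u D.z
  tz : Commute τ D.z
  kz : Commute κ D.z
  a3 : a * a * a = 1
  b3 : b * b * b = 1
  c3 : c * c * c = 1
  k3 : κ * κ * κ = 1
  pma : D.pm a = P9.pa m
  pmb : D.pm b = P9.pb m
  pmc : D.pm c = P9.pc m
  pmu : D.pm u = P9.pu m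
  pmt : D.pm τ = P9.pt m
  pmk : D.pm κ = P9.pk m
  u2 : u * u = 1
  t2 : τ * τ = D.z
  tu : τ * u * τ⁻¹ = u * D.z
  hz : h * D.z * h⁻¹ = u
  hu : h * u * h⁻¹ = D.z
  hab : h * (a * b) * h⁻¹ = a * b ∨ h * (a * b) * h⁻¹ = (a * b)⁻¹

theorem cube_conj {g x : G} (h : x * x * x = 1) : g * x * g⁻¹ * (g * x * g⁻¹) * (g * x * g⁻¹) = 1 := by
  rw [show g * x * g⁻¹ * (g * x * g⁻¹) * (g * x * g⁻¹) = g * (x * x * x) * g⁻¹ by group, h, mul_one, mul_inv_cancel]

theorem cube_mul {x y : G} (hc : Commute x y) (hx : x * x * x = 1) (hy : y * y * y = 1) :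
    x * y * (x * y) * (x * y) = 1 := by
  have : (x * y) ^ 3 = x ^ 3 * y ^ 3 := hc.mul_pow 3
  simp only [pow_succ, pow_zero, one_mul] at this
  rw [this, hx, hy, one_mul]

theorem odd_mul {x y : G} (hc : Commute x y) (hx : x * x * x = 1) (hy : y * y * y = 1) : Odd (orderOf (x * y)) :=
  Cov.odd_of_cube (cube_mul hc hx hy)

theorem orderOf_eq_three {x : G} (h : x * x * x = 1) (h1 : x ≠ 1) : orderOf x = 3 := by
  haveI : Fact (Nat.Prime 3) := ⟨Nat.prime_three⟩
  exact orderOf_eq_prime (by rw [pow_succ, pow_two, h]) h1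

theorem comm_of_conj_eq {g x : G} (h : g * x * g⁻¹ = x) : Commute g x := mul_inv_eq_iff_eq_mul.1 h

theorem conj_of_comm {g x : G} (h : Commute g x) : g * x * g⁻¹ = x := by rw [h.eq, mul_inv_cancel_right]

theorem comm_conj_iff {g x y : G} : Commute (g * x * g⁻¹) (g * y * g⁻¹) ↔ Commute x y :=
  commute_map_iff (MulAut.conj g).injective
where commute_map_iff {f : MulAut G} (hf : Function.Injective f) {x y : G} : Commute (f x) (f y) ↔ Commute x y :=
  ⟨fun h => hf (by rw [map_mul, map_mul, h.eq]), fun h => h.map f⟩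

namespace Cov

/-- Two subgroups of order three of the centralizer of a moved involution are conjugate. -/
theorem conj_three_u (D : Cov G (m + 9)) (hm : m = 0 ∨ m = 1) {u x y : G} (hu : Commute u D.z) (hpu : D.pm u = P9.pu m)
    (hx : Commute x D.z) (hxu : Commute x u) (hx3 : x * x * x = 1) (hx1 : x ≠ 1)
    (hy : Commute y D.z) (hyu : Commute y u) (hy3 : y * y * y = 1) (hy1 : y ≠ 1) :
    ∃ l, Commute l D.z ∧ Commute l u ∧ (l * x * l⁻¹ = y ∨ l * x * l⁻¹ = y⁻¹) := by
  haveI : Fact (Nat.Prime 3) := ⟨Nat.prime_three⟩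
  set U : Subgroup G := Subgroup.centralizer {D.z} ⊓ Subgroup.centralizer {u} with hU
  have hmem : ∀ g, g ∈ U ↔ Commute g D.z ∧ Commute g u := fun g => by
    rw [hU, Subgroup.mem_inf, Subgroup.mem_centralizer_singleton_iff, Subgroup.mem_centralizer_singleton_iff]
    exact Iff.rfl
  let φ : U →* Perm (Fin (m + 9)) :=
    { toFun := fun g => D.pm (g : G)
      map_one' := D.pm_one
      map_mul' := fun g g' => D.pm_mul ((hmem _).1 g.2).1 ((hmem _).1 g'.2).1 }
  have hker : Nat.card φ.ker ∣ 2 := by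
    let ι : φ.ker →* Subgroup.zpowers D.z :=
      { toFun := fun g => ⟨((g : U) : G), by
          rcases D.pm_eq_one ((hmem _).1 (g : U).2).1 g.2 with e | e <;> rw [e]
          · exact one_mem _
          · exact Subgroup.mem_zpowers _⟩
        map_one' := rfl
        map_mul' := fun _ _ => rfl }
    have hι : Function.Injective ι := fun g g' e => by
      have e' : ((g : U) : G) = ((g' : U) : G) := by
        have h := congrArg Subtype.val e
        exact h
      exact Subtype.ext (Subtype.ext e')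
    have := Subgroup.card_dvd_of_injective ι hι
    rwa [Nat.card_zpowers, orderOf_eq_prime (p := 2) (by rw [pow_two, D.zz]) D.z1] at this
  have hrange : Nat.card φ.range ∣ 768 := (Subgroup.card_dvd_of_le (show φ.range ≤ Subgroup.centralizer {P9.pu m} by
    rintro _ ⟨g, rfl⟩
    rw [Subgroup.mem_centralizer_singleton_iff, ← hpu]
    exact D.comm_pm ((hmem _).1 g.2).1 hu ((hmem _).1 g.2).2)).trans (P9.card_centralizer_u hm)
  have hcard : Nat.card U ∣ 1536 := by
    rw [← φ.ker.card_mul_index, Subgroup.index_ker]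
    exact (mul_dvd_mul hker hrange).trans (by norm_num)
  have hfac : (Nat.card U).factorization 3 = 1 := by
    refine le_antisymm ?_ ?_
    · by_contra h
      have h9 : 3 ^ 2 ∣ Nat.card U :=
        (Nat.Prime.pow_dvd_iff_le_factorization Nat.prime_three Nat.card_pos.ne').2 (by omega)
      exact absurd (h9.trans hcard) (by norm_num)
    · refine (Nat.Prime.pow_dvd_iff_le_factorization Nat.prime_three Nat.card_pos.ne').1 ?_
      have h := orderOf_dvd_natCard (⟨x, (hmem x).2 ⟨hx, hxu⟩⟩ : U)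
      rw [Subgroup.orderOf_mk, orderOf_eq_three hx3 hx1] at h
      rwa [pow_one]
  set X : U := ⟨x, (hmem x).2 ⟨hx, hxu⟩⟩
  set Y : U := ⟨y, (hmem y).2 ⟨hy, hyu⟩⟩
  have hX : orderOf X = 3 := by rw [Subgroup.orderOf_mk, orderOf_eq_three hx3 hx1]
  have hY : orderOf Y = 3 := by rw [Subgroup.orderOf_mk, orderOf_eq_three hy3 hy1]
  obtain ⟨l, hl⟩ := MulAction.exists_smul_eq U
    (Sylow.ofCard (Subgroup.zpowers X) (by rw [Nat.card_zpowers, hX, hfac, pow_one]))
    (Sylow.ofCard (Subgroup.zpowers Y) (by rw [Nat.card_zpowers, hY, hfac, pow_one]))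
  refine ⟨(l : G), ((hmem _).1 l.2).1, ((hmem _).1 l.2).2, ?_⟩
  have hlX : l * X * l⁻¹ ∈ Subgroup.zpowers Y := by
    have h := congrArg (fun P : Sylow 3 U => (P : Subgroup U)) hl
    simp only [Sylow.coe_subgroup_smul, Sylow.coe_ofCard] at h
    rw [← h]
    exact Subgroup.smul_mem_pointwise_smul _ _ _ (Subgroup.mem_zpowers X)
  rw [← mem_powers_iff_mem_zpowers, Submonoid.mem_powers_iff] at hlX
  obtain ⟨k, hk⟩ := hlX
  rw [← pow_mod_orderOf, hY] at hk
  have hk' : (l : G) * x * (l : G)⁻¹ = y ^ (k % 3) := (congrArg Subtype.val hk).symm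
  rcases (by omega : k % 3 = 0 ∨ k % 3 = 1 ∨ k % 3 = 2) with e | e | e <;> rw [e] at hk'
  · rw [pow_zero, mul_inv_eq_one, mul_eq_left] at hk'
    exact absurd hk' hx1
  · exact Or.inl (by rwa [pow_one] at hk')
  · refine Or.inr (hk'.trans ?_)
    rw [pow_two]
    exact (inv_eq_of_mul_eq_one_left (by rw [hy3])).symm

/-- A frame exists in a simple group. -/
theorem exists_frame (D : Cov G (m + 9)) (hm : m = 0 ∨ m = 1) [IsSimpleGroup G] : Nonempty (Frame D) := by
  obtain ⟨a, az, a3, pma⟩ := D.exists_three (P9.sign_pa hm) (P9.pa3 hm)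
  obtain ⟨b, bz, b3, pmb⟩ := D.exists_three (P9.sign_pb hm) (P9.pb3 hm)
  obtain ⟨c, cz, c3, pmc⟩ := D.exists_three (P9.sign_pc hm) (P9.pc3 hm)
  obtain ⟨κ, kz, k3, pmk⟩ := D.exists_three (P9.sign_pk hm) (P9.pk3 hm)
  obtain ⟨τ, tz, pmt⟩ := D.exists_lift (P9.sign_pt hm)
  have t2 : τ * τ = D.z := D.sq_eq_z tz (by rw [pmt]; exact P9.pt_double hm)
  -- every moved involution is carried to a fixed permutation
  have hnorm : ∀ v, D.InD v → Commute v D.z → v ≠ D.z →
      ∃ k, Commute k D.z ∧ D.pm (k * v * k⁻¹) = P9.pu m := by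
    intro v hv hvz hne
    have hp2 : D.pm v * D.pm v = 1 := by rw [← D.pm_mul hvz hvz, hv.sq, D.pm_one]
    obtain ⟨k, hk, hkc, hks⟩ := Cfsg.Lib.AltCover.invol_cycleType hp2
    have h8 := D.invol_support hvz hv.sq hv.ne_one hne
    have hle := (Finset.card_le_univ (D.pm v).support).trans (le_of_eq (Fintype.card_fin _))
    have hcard := Equiv.Perm.sum_cycleType (D.pm v)
    rw [hk, Multiset.sum_replicate, smul_eq_mul] at hcard
    have hk4 : k = 4 := by
      rw [D.pm_sign hvz] at hks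
      rcases Nat.even_or_odd k with ⟨j, hj⟩ | ho
      · omega
      · rw [ho.neg_one_pow] at hks
        exact absurd hks (by decide)
    obtain ⟨q, hq⟩ := isConj_iff.1 (Equiv.Perm.isConj_iff_cycleType_eq.2
      ((hk.trans (by rw [hk4])).trans (P9.cycleType_pu hm).symm))
    obtain ⟨q', hq', hq's⟩ : ∃ q', q' * D.pm v * q'⁻¹ = P9.pu m ∧ Perm.sign q' = 1 := by
      rcases Int.units_eq_one_or (Perm.sign q) with h | h
      · exact ⟨q, hq, h⟩
      · refine ⟨swap 0 3 * q, ?_, by rw [map_mul, h, Perm.sign_swap (by rcases hm with rfl | rfl <;> decide)]; rfl⟩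
        rw [mul_inv_rev, show swap 0 3 * q * D.pm v * (q⁻¹ * (swap 0 3)⁻¹) =
          swap 0 3 * (q * D.pm v * q⁻¹) * (swap 0 3)⁻¹ by group, hq]
        rcases hm with rfl | rfl <;> decide +kernel
    obtain ⟨l, hl, hlp⟩ := D.exists_lift hq's
    exact ⟨l, hl, by rw [D.pm_conj hl hvz, hlp, hq']⟩
  obtain ⟨t₀, ht₀, htz₀, hne₀⟩ := D.exists_moved
  obtain ⟨k₀, hk₀, hpu⟩ := hnorm t₀ ht₀ htz₀ hne₀
  set u := k₀ * t₀ * k₀⁻¹ with hudef
  have uz : Commute u D.z := D.comm_conj hk₀ htz₀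
  have huD : D.InD u := ht₀.conj k₀
  obtain ⟨hd1, hd2, he, hdd⟩ := P9.put_eq hm
  have tu : τ * u * τ⁻¹ = u * D.z := by
    have h := D.sq_eq_one (D.comm_mul uz tz) hd1 hd2 hdd (by rw [D.pm_mul uz tz, hpu, pmt, he])
    have hti : τ⁻¹ = τ * D.z := inv_eq_of_mul_eq_one_right (by rw [← mul_assoc, t2, D.zz])
    have h1 : τ * u * τ = u := by
      rw [← mul_left_cancel_iff (a := u), huD.sq, ← h]
      group
    rw [hti, ← mul_assoc, h1]
  obtain ⟨g, hg⟩ := huD
  have hab : Commute a b := D.odd_comm az bz (odd_of_cube b3) (by rw [pma, pmb]; exact P9.comm_ab hm)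
  have abz : Commute (a * b) D.z := az.mul_left bz
  have ab3 := cube_mul hab a3 b3
  have hpab : D.pm (a * b) = P9.pa m * P9.pb m := by rw [D.pm_mul az bz, pma, pmb]
  have ab1 : a * b ≠ 1 := fun h => by
    rw [h, D.pm_one] at hpab
    revert hpab
    rcases hm with rfl | rfl <;> decide +kernel
  have uab : Commute u (a * b) :=
    D.odd_comm uz abz (odd_of_cube ab3) (by rw [hpu, hpab]; exact P9.comm_u_ab hm)
  set v := g⁻¹ * D.z * g with hv
  have hvD : D.InD v := ⟨g⁻¹, by rw [inv_inv]⟩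
  have huz : u ≠ D.z := fun h => by
    have := D.pm_z
    rw [← h, hpu] at this
    revert this
    rcases hm with rfl | rfl <;> decide +kernel
  have hvz : Commute v D.z := by
    have := (comm_conj_iff (g := g⁻¹)).2 uz.symm
    rwa [hg, inv_inv, show g⁻¹ * (g * D.z * g⁻¹) * g = D.z by group] at this
  have hvne : v ≠ D.z := fun h => huz (by
    rw [hg]
    calc g * D.z * g⁻¹ = g * v * g⁻¹ := by rw [h]
      _ = D.z := by rw [hv]; group)
  obtain ⟨k₁, hk₁, hk₁p⟩ := hnorm v hvD hvz hvne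
  obtain ⟨k, hk, hkv⟩ : ∃ k, Commute k D.z ∧ k * v * k⁻¹ = u := by
    rcases D.pm_cases uz (D.comm_conj hk₁ hvz) (hpu.trans hk₁p.symm) with e | e
    · exact ⟨k₁, hk₁, e⟩
    · refine ⟨τ * k₁, D.comm_mul tz hk₁, ?_⟩
      rw [show τ * k₁ * v * (τ * k₁)⁻¹ = τ * (k₁ * v * k₁⁻¹) * τ⁻¹ by group, e,
        show τ * (u * D.z) * τ⁻¹ = τ * u * τ⁻¹ * (τ * D.z * τ⁻¹) by group, tu, conj_of_comm tz, mul_assoc, D.zz,
        mul_one]
  set x := k * (g⁻¹ * (a * b) * g) * k⁻¹ with hx
  have hx0z : Commute (g⁻¹ * (a * b) * g) D.z := by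
    have := (comm_conj_iff (g := g⁻¹)).2 uab.symm
    rwa [hg, inv_inv, show g⁻¹ * (g * D.z * g⁻¹) * g = D.z by group] at this
  have hx0v : Commute (g⁻¹ * (a * b) * g) v := by
    have := (comm_conj_iff (g := g⁻¹)).2 abz
    rwa [inv_inv] at this
  have hxz : Commute x D.z := D.comm_conj hk hx0z
  have hxu : Commute x u := by rw [← hkv]; exact comm_conj_iff.2 hx0v
  have hx3 : x * x * x = 1 := cube_conj (by
    have := cube_conj (g := g⁻¹) ab3
    rwa [inv_inv] at this)
  have hx1 : x ≠ 1 := fun h => ab1 (by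
    have : a * b = g * (k⁻¹ * x * k) * g⁻¹ := by rw [hx]; group
    rw [this, h]; group)
  obtain ⟨l, hlz, hlu, hl⟩ := D.conj_three_u hm uz hpu hxz hxu hx3 hx1 abz uab.symm ab3 ab1
  refine ⟨⟨hm, a, b, c, u, τ, κ, g * (l * k)⁻¹, az, bz, cz, uz, tz, kz, a3, b3, c3, k3, pma, pmb, pmc, hpu, pmt, pmk,
    ⟨g, hg⟩ |> InD.sq, t2, tu, ?_, ?_, ?_⟩⟩
  · rw [show g * (l * k)⁻¹ * D.z * (g * (l * k)⁻¹)⁻¹ = g * ((l * k)⁻¹ * D.z * (l * k)⁻¹⁻¹) * g⁻¹ by group,
      conj_of_comm (D.comm_mul hlz hk).inv_left, ← hg]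
  · have : (l * k) * v * (l * k)⁻¹ = u := by
      rw [show (l * k) * v * (l * k)⁻¹ = l * (k * v * k⁻¹) * l⁻¹ by group, hkv, conj_of_comm hlu]
    rw [← this, hv]
    group
  · have hmov : g * (l * k)⁻¹ * (l * x * l⁻¹) * (g * (l * k)⁻¹)⁻¹ = a * b := by rw [hx]; group
    rcases hl with e | e <;> rw [e] at hmov
    · exact Or.inl hmov
    · refine Or.inr (inv_injective ?_)
      rw [inv_inv]
      refine Eq.trans ?_ hmov
      group

end Cov

end Cfsg.Lib.DoubleCoverAlt
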