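import Mathlib

/-!
# Groups of odd order acted on by one or two commuting involutions

Every element is a product of a fixed point and elements inverted by the involutions.
-/

set_option autoImplicit false
set_option linter.unusedSectionVars false
set_option linter.unusedSimpArgs false

namespace Cfsg.Lib.DoubleCoverAlt

universe u

variable {G : Type u} [Group G]

/-- The square root in a cyclic group of odd order. -/
noncomputable def rt (x : G) : G := x ^ ((orderOf x + 1) / 2)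

theorem rt_mul_rt {x : G} (h : Odd (orderOf x)) : rt x * rt x = x := by
  obtain ⟨k, hk⟩ := h
  rw [rt, ← pow_add, show (orderOf x + 1) / 2 + (orderOf x + 1) / 2 = orderOf x + 1 by omega, pow_succ,
    pow_orderOf_eq_one, one_mul]

theorem odd_orderOf_of_mem {H : Subgroup G} [Finite H] (hH : Odd (Nat.card H)) {x : G} (hx : x ∈ H) :
    Odd (orderOf x) := hH.of_dvd_nat (Subgroup.orderOf_dvd_natCard H hx)

theorem rt_mem {H : Subgroup G} {x : G} (hx : x ∈ H) : rt x ∈ H := H.pow_mem hx _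

theorem rt_comm {x y : G} (h : Commute x y) : Commute (rt x) y := h.pow_left _

theorem rt_conj_inv {z x : G} (h : z * x * z⁻¹ = x⁻¹) : z * rt x * z⁻¹ = (rt x)⁻¹ := by
  rw [rt, ← conj_pow, h, inv_pow]

theorem sq_inj {x y : G} (hx : Odd (orderOf x)) (hy : Odd (orderOf y)) (h : x * x = y * y) : x = y := by
  obtain ⟨k, hk⟩ := hx.mul hy
  have e : ∀ w : G, w ^ (orderOf x * orderOf y) = 1 → w = (w * w) ^ (k + 1) := fun w hw => by
    rw [← pow_two, ← pow_mul, show 2 * (k + 1) = (orderOf x * orderOf y) + 1 by omega, pow_succ, hw, one_mul]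
  rw [e x (by rw [pow_mul, pow_orderOf_eq_one, one_pow]),
    e y (by rw [mul_comm, pow_mul, pow_orderOf_eq_one, one_pow]), h]

theorem eq_one_of_sq {x : G} (hx : Odd (orderOf x)) (h : x * x = 1) : x = 1 :=
  sq_inj hx (by rw [orderOf_one]; decide) (by rw [h, one_mul])

theorem mem_of_sq_mem {H : Subgroup G} {x : G} (hx : Odd (orderOf x)) (h : x * x ∈ H) : x ∈ H := by
  obtain ⟨k, hk⟩ := hx
  have : x = (x * x) ^ (k + 1) := by
    rw [← pow_two, ← pow_mul, show 2 * (k + 1) = orderOf x + 1 by omega, pow_succ, pow_orderOf_eq_one, one_mul]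
  rw [this]
  exact H.pow_mem h _

/-- Decomposition of a member of an odd subgroup normalised by an involution. -/
theorem odd_decomp {O : Subgroup G} [Finite O] (hO : Odd (Nat.card O)) {z : G} (hz : z * z = 1)
    (hn : ∀ x ∈ O, z * x * z⁻¹ ∈ O) {g : G} (hg : g ∈ O) :
    ∃ f ∈ O, ∃ i ∈ O, g = f * i ∧ Commute f z ∧ z * i * z⁻¹ = i⁻¹ ∧
      ∀ v : G, Commute v z → Commute v g → Commute v f ∧ Commute v i := by
  have hzi : z⁻¹ = z := inv_eq_of_mul_eq_one_right hz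
  set y := (z * g * z⁻¹)⁻¹ * g with hy
  have hyO : y ∈ O := O.mul_mem (O.inv_mem (hn g hg)) hg
  have hyi : z * y * z⁻¹ = y⁻¹ := by
    calc z * y * z⁻¹ = (z * z) * g⁻¹ * (z * z)⁻¹ * (z * g * z⁻¹) := by rw [hy]; group
      _ = y⁻¹ := by rw [hz, hy]; group
  have hii := rt_conj_inv hyi
  have hsq := rt_mul_rt (odd_orderOf_of_mem hO hyO)
  set i := rt y with hi
  refine ⟨g * i⁻¹, O.mul_mem hg (O.inv_mem (rt_mem hyO)), i, rt_mem hyO, by group, ?_, hii, fun v hvz hvg => ?_⟩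
  · refine (mul_inv_eq_iff_eq_mul.1 ?_ : z * (g * i⁻¹) = g * i⁻¹ * z).symm
    calc z * (g * i⁻¹) * z⁻¹ = z * g * z⁻¹ * (z * i * z⁻¹)⁻¹ := by group
      _ = z * g * z⁻¹ * (i * i) * i⁻¹ := by rw [hii]; group
      _ = g * i⁻¹ := by rw [hsq, hy]; group
  · have h1 : Commute v i := (rt_comm ((((hvz.mul_right hvg).mul_right hvz.inv_right).inv_right).mul_right hvg).symm).symm
    exact ⟨hvg.mul_right h1.inv_right, h1⟩

/-- Two commuting involutions on an odd subgroup, with their common fixed points central: a bound on its order. -/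
theorem card_le_of_two_invol [Finite G] (O : Subgroup G) (hO : Odd (Nat.card O)) {z u : G} (hz : z * z = 1)
    (hu : u * u = 1) (hzu : Commute z u) (hnz : ∀ x ∈ O, z * x * z⁻¹ ∈ O) (hnu : ∀ x ∈ O, u * x * u⁻¹ ∈ O)
    (hcen : ∀ x ∈ O, Commute x z → Commute x u → ∀ y ∈ O, Commute x y) :
    Nat.card O ≤ {x | x ∈ O ∧ Commute x z}.ncard * {x | x ∈ O ∧ z * x * z⁻¹ = x⁻¹ ∧ Commute x u}.ncard *
      {x | x ∈ O ∧ z * x * z⁻¹ = x⁻¹ ∧ u * x * u⁻¹ = x⁻¹}.ncard := by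
  set F := {x | x ∈ O ∧ Commute x z}
  set B := {x | x ∈ O ∧ z * x * z⁻¹ = x⁻¹ ∧ Commute x u}
  set C := {x | x ∈ O ∧ z * x * z⁻¹ = x⁻¹ ∧ u * x * u⁻¹ = x⁻¹}
  have key : ∀ g : O, ∃ t : F × B × C, (g : G) = (t.1 : G) * ((t.2.1 : G) * (t.2.2 : G) * (t.2.1 : G)) := by
    rintro ⟨g, hg⟩
    obtain ⟨f, hf, i, hi, rfl, hfz, hiz, -⟩ := odd_decomp hO hz hnz hg
    set y := rt (u * i * u⁻¹ * i⁻¹) with hy
    have hqO : u * i * u⁻¹ * i⁻¹ ∈ O := O.mul_mem (hnu i hi) (O.inv_mem hi)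
    have hy2 : y * y = u * i * u⁻¹ * i⁻¹ := rt_mul_rt (odd_orderOf_of_mem hO hqO)
    have hqu : u * (u * i * u⁻¹ * i⁻¹) * u⁻¹ = (u * i * u⁻¹ * i⁻¹)⁻¹ := by
      calc u * (u * i * u⁻¹ * i⁻¹) * u⁻¹ = (u * u) * i * (u * u)⁻¹ * (u * i * u⁻¹)⁻¹ := by group
        _ = (u * i * u⁻¹ * i⁻¹)⁻¹ := by rw [hu]; group
    have hyu : u * y * u⁻¹ = y⁻¹ := rt_conj_inv hqu
    set w := y * i with hw
    have hui : u * i * u⁻¹ = y * w := by rw [hw, ← mul_assoc, hy2]; group
    have hwu : Commute w u := by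
      refine (mul_inv_eq_iff_eq_mul.1 ?_ : u * w = w * u).symm
      calc u * w * u⁻¹ = u * y * u⁻¹ * (u * i * u⁻¹) := by rw [hw]; group
        _ = w := by rw [hyu, hui, inv_mul_cancel_left]
    have hwO : w ∈ O := O.mul_mem (rt_mem hqO) hi
    set b := rt w with hb
    have hb2 : b * b = w := rt_mul_rt (odd_orderOf_of_mem hO hwO)
    have hbu : Commute b u := rt_comm hwu
    obtain ⟨α, hα, b₁, hb₁, hαb, hαz, hb₁z, hv⟩ := odd_decomp hO hz hnz (rt_mem hwO : b ∈ O)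
    obtain ⟨hαu, hb₁u⟩ := hv u hzu.symm hbu.symm
    have hc := fun x hx => hcen α hα hαz hαu.symm x hx
    set c := b₁⁻¹ * i * b₁⁻¹ with hc'
    have hcO : c ∈ O := O.mul_mem (O.mul_mem (O.inv_mem hb₁) hi) (O.inv_mem hb₁)
    have hcz : z * c * z⁻¹ = c⁻¹ := by
      calc z * c * z⁻¹ = (z * b₁ * z⁻¹)⁻¹ * (z * i * z⁻¹) * (z * b₁ * z⁻¹)⁻¹ := by rw [hc']; group
        _ = c⁻¹ := by rw [hb₁z, hiz, hc']; group
    set A := α * α * (α * α) with hA
    have hAc : ∀ x ∈ O, Commute A x := fun x hx =>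
      ((hc x hx).mul_left (hc x hx)).mul_left ((hc x hx).mul_left (hc x hx))
    have hcu : u * c * u⁻¹ = A * c⁻¹ := by
      have hyw : y = w * i⁻¹ := by rw [hw]; group
      have hb1w : b₁⁻¹ * w = α * α * b₁ := by
        rw [← hb2, show b = α * b₁ from hαb, (hc b₁ hb₁).symm.mul_mul_mul_comm, ← mul_assoc,
          ← ((hc b₁ hb₁).mul_left (hc b₁ hb₁)).inv_right.eq, mul_assoc, ← mul_assoc b₁⁻¹, inv_mul_cancel, one_mul]
      have hwb1 : w * b₁⁻¹ = α * α * b₁ := by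
        rw [← hb2, show b = α * b₁ from hαb, (hc b₁ hb₁).symm.mul_mul_mul_comm, mul_assoc (α * α), mul_inv_cancel_right]
      calc u * c * u⁻¹ = (u * b₁ * u⁻¹)⁻¹ * (u * i * u⁻¹) * (u * b₁ * u⁻¹)⁻¹ := by rw [hc']; group
        _ = b₁⁻¹ * (y * w) * b₁⁻¹ := by rw [hui, show u * b₁ * u⁻¹ = b₁ by rw [hb₁u.eq, mul_inv_cancel_right]]
        _ = (b₁⁻¹ * w) * i⁻¹ * (w * b₁⁻¹) := by rw [hyw]; group
        _ = α * α * (b₁ * i⁻¹ * (α * α)) * b₁ := by rw [hb1w, hwb1]; group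
        _ = A * c⁻¹ := by
          rw [← ((hc _ (O.mul_mem hb₁ (O.inv_mem hi))).mul_left (hc _ (O.mul_mem hb₁ (O.inv_mem hi)))).eq,
            hA, hc']
          group
    -- the correction is trivial
    have hA1 : A = 1 := by
      have e1 : z * (u * c * u⁻¹) * z⁻¹ = u * (z * c * z⁻¹) * u⁻¹ := by
        rw [show z * (u * c * u⁻¹) * z⁻¹ = (z * u) * c * (z * u)⁻¹ by group, hzu.eq]; group
      have hAz : z * A * z⁻¹ = A := by
        have : Commute A z := (hαz.mul_left hαz).mul_left (hαz.mul_left hαz)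
        rw [this.symm.eq, mul_inv_cancel_right]
      rw [hcu, hcz, show z * (A * c⁻¹) * z⁻¹ = z * A * z⁻¹ * (z * c * z⁻¹)⁻¹ by group, hAz, hcz, inv_inv,
        show u * c⁻¹ * u⁻¹ = (u * c * u⁻¹)⁻¹ by group, hcu, mul_inv_rev, inv_inv, ← (hAc c hcO).inv_left.eq] at e1
      refine eq_one_of_sq (odd_orderOf_of_mem hO (O.mul_mem (O.mul_mem hα hα) (O.mul_mem hα hα))) ?_
      have := mul_right_cancel e1
      rw [eq_inv_iff_mul_eq_one] at this
      exact this
    have hα1 : α = 1 := by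
      refine eq_one_of_sq (odd_orderOf_of_mem hO hα) (eq_one_of_sq (odd_orderOf_of_mem hO (O.mul_mem hα hα)) ?_)
      exact hA1
    rw [hA1, one_mul] at hcu
    exact ⟨⟨⟨f, hf, hfz⟩, ⟨b₁, hb₁, hb₁z, hb₁u.symm⟩, ⟨c, hcO, hcz, hcu⟩⟩, by
      show f * i = f * (b₁ * c * b₁)
      rw [hc']; group⟩
  choose t ht using key
  have hinj : Function.Injective t := fun g g' e => Subtype.ext ((ht g).trans (e ▸ (ht g').symm))
  have := Nat.card_le_card_of_injective t hinj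
  rwa [Nat.card_prod, Nat.card_prod, Nat.card_coe_set_eq, Nat.card_coe_set_eq, Nat.card_coe_set_eq,
    ← mul_assoc] at this

end Cfsg.Lib.DoubleCoverAlt
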