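import Mathlib
import Cfsg.Agent.DoubleCoverAlt.Frame
import Cfsg.Agent.DoubleCoverAlt.Odd
import Cfsg.Agent.InvolCalc.ZStarApps

/-!
# Odd cores of centralizers of three-cycles
-/

set_option autoImplicit false
set_option linter.unusedSectionVars false
set_option linter.unusedSimpArgs false
set_option linter.style.haveILetI false

namespace Cfsg.Lib.DoubleCoverAlt

open Equiv

universe u

variable {G : Type u} [Group G] [Finite G]

/-- The odd core of the centralizer of an element, inside the group. -/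
def Oc (x : G) : Subgroup G :=
  (Cfsg.pPrimeCore 2 (Subgroup.centralizer ({x} : Set G))).map (Subgroup.centralizer ({x} : Set G)).subtype

theorem Oc_comm {x y : G} (h : y ∈ Oc x) : Commute y x := by
  obtain ⟨w, -, rfl⟩ := h
  exact Subgroup.mem_centralizer_singleton_iff.1 w.2

theorem Oc_odd (x : G) : Odd (Nat.card (Oc x)) := by
  rw [Oc, Subgroup.card_map_of_injective (Subgroup.centralizer ({x} : Set G)).subtype_injective]
  exact Cfsg.Lib.ZStarApps.odd_card_pPrimeCore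

theorem Oc_normal {x g y : G} (hg : Commute g x) (hy : y ∈ Oc x) : g * y * g⁻¹ ∈ Oc x := by
  obtain ⟨w, hw, rfl⟩ := hy
  have hn : (Cfsg.pPrimeCore 2 (Subgroup.centralizer ({x} : Set G))).Normal := by
    unfold Cfsg.pPrimeCore
    exact Cfsg.Lib.Components.normal_of_mem_sSup_normal fun N hN => hN.1
  exact ⟨⟨g, Subgroup.mem_centralizer_singleton_iff.2 hg⟩ * w * ⟨g, Subgroup.mem_centralizer_singleton_iff.2 hg⟩⁻¹,
    hn.conj_mem w hw _, rfl⟩

theorem le_Oc {x : G} (N : Subgroup G) (hc : ∀ y ∈ N, Commute y x) (ho : Odd (Nat.card N))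
    (hn : ∀ g, Commute g x → ∀ y ∈ N, g * y * g⁻¹ ∈ N) : N ≤ Oc x := by
  set C := Subgroup.centralizer ({x} : Set G)
  have hle : N ≤ C := fun y hy => Subgroup.mem_centralizer_singleton_iff.2 (hc y hy)
  haveI : (N.subgroupOf C).Normal :=
    ⟨fun y hy g => hn (g : G) (Subgroup.mem_centralizer_singleton_iff.1 g.2) _ hy⟩
  intro y hy
  refine ⟨⟨y, hle hy⟩, Cfsg.Lib.Components.le_pPrimeCore ?_ (show (⟨y, hle hy⟩ : C) ∈ N.subgroupOf C from hy), rfl⟩
  rw [Nat.card_congr (Subgroup.subgroupOfEquivOfLe hle).toEquiv]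
  exact ho.coprime_two_right

theorem Oc_conj {x y : G} (g : G) (hy : y ∈ Oc x) : g * y * g⁻¹ ∈ Oc (g * x * g⁻¹) := by
  refine le_Oc ((Oc x).map (MulAut.conj g).toMonoidHom) ?_ ?_ ?_ ⟨y, hy, rfl⟩
  · rintro _ ⟨w, hw, rfl⟩
    exact comm_conj_iff.2 (Oc_comm hw)
  · rw [Subgroup.card_map_of_injective (MulAut.conj g).injective]
    exact Oc_odd x
  · rintro k hk _ ⟨w, hw, rfl⟩
    have hk' : Commute (g⁻¹ * k * g) x := by
      have := (comm_conj_iff (g := g⁻¹)).2 hk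
      rwa [inv_inv, show g⁻¹ * (g * x * g⁻¹) * g = x by group] at this
    refine ⟨(g⁻¹ * k * g) * w * (g⁻¹ * k * g)⁻¹, Oc_normal hk' hw, ?_⟩
    show g * ((g⁻¹ * k * g) * w * (g⁻¹ * k * g)⁻¹) * g⁻¹ = k * (g * w * g⁻¹) * k⁻¹
    group

theorem self_mem_Oc {x : G} (hx : Odd (orderOf x)) : x ∈ Oc x := by
  refine le_Oc (Subgroup.zpowers x) ?_ ?_ ?_ (Subgroup.mem_zpowers x)
  · rintro _ ⟨k, rfl⟩
    exact (Commute.refl x).zpow_left k
  · rwa [Nat.card_zpowers]
  · rintro g hg _ ⟨k, rfl⟩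
    show g * x ^ k * g⁻¹ ∈ _
    rw [(hg.zpow_right k).eq, mul_inv_cancel_right]
    exact ⟨k, rfl⟩

theorem Oc_orderOf {x y : G} (h : y ∈ Oc x) : Odd (orderOf y) := odd_orderOf_of_mem (Oc_odd x) h

namespace Frame

variable {m : ℕ} {D : Cov G (m + 9)} (F : Frame D)

theorem ab : Commute F.a F.b :=
  D.odd_comm F.az F.bz (Cov.odd_of_cube F.b3) (by rw [F.pma, F.pmb]; exact P9.comm_ab F.hm)
theorem ac : Commute F.a F.c :=
  D.odd_comm F.az F.cz (Cov.odd_of_cube F.c3) (by rw [F.pma, F.pmc]; exact P9.comm_ac F.hm)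
theorem bc : Commute F.b F.c :=
  D.odd_comm F.bz F.cz (Cov.odd_of_cube F.c3) (by rw [F.pmb, F.pmc]; exact P9.comm_bc F.hm)
theorem tc : Commute F.τ F.c :=
  D.odd_comm F.tz F.cz (Cov.odd_of_cube F.c3) (by rw [F.pmt, F.pmc]; exact P9.comm_tc F.hm)
theorem abz : Commute (F.a * F.b) D.z := F.az.mul_left F.bz
theorem ab3 : F.a * F.b * (F.a * F.b) * (F.a * F.b) = 1 := cube_mul F.ab F.a3 F.b3
theorem pmab : D.pm (F.a * F.b) = P9.pa m * P9.pb m := by rw [D.pm_mul F.az F.bz, F.pma, F.pmb]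
theorem u_ab : Commute F.u (F.a * F.b) :=
  D.odd_comm F.uz F.abz (Cov.odd_of_cube F.ab3) (by rw [F.pmu, F.pmab]; exact P9.comm_u_ab F.hm)
theorem ua : F.u * F.a * F.u⁻¹ = F.b :=
  D.odd_conj F.uz F.az F.bz (Cov.odd_of_cube F.a3) (Cov.odd_of_cube F.b3)
    (by rw [F.pmu, F.pma, F.pmb]; exact P9.conj_ua F.hm)
theorem ub : F.u * F.b * F.u⁻¹ = F.a :=
  D.odd_conj F.uz F.bz F.az (Cov.odd_of_cube F.b3) (Cov.odd_of_cube F.a3)
    (by rw [F.pmu, F.pma, F.pmb]; exact P9.conj_ub F.hm)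

theorem odd_inv {x : G} (h : x * x * x = 1) : Odd (orderOf x⁻¹) := by rw [orderOf_inv]; exact Cov.odd_of_cube h

theorem uc : F.u * F.c * F.u⁻¹ = F.c⁻¹ :=
  D.odd_conj F.uz F.cz F.cz.inv_left (Cov.odd_of_cube F.c3) (odd_inv F.c3)
    (by rw [D.pm_inv F.cz, F.pmu, F.pmc]; exact P9.conj_uc F.hm)
theorem ta : F.τ * F.a * F.τ⁻¹ = F.a⁻¹ :=
  D.odd_conj F.tz F.az F.az.inv_left (Cov.odd_of_cube F.a3) (odd_inv F.a3)
    (by rw [D.pm_inv F.az, F.pmt, F.pma]; exact P9.conj_ta F.hm)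
theorem tb : F.τ * F.b * F.τ⁻¹ = F.b⁻¹ :=
  D.odd_conj F.tz F.bz F.bz.inv_left (Cov.odd_of_cube F.b3) (odd_inv F.b3)
    (by rw [D.pm_inv F.bz, F.pmt, F.pmb]; exact P9.conj_tb F.hm)
theorem ka : F.κ * F.a * F.κ⁻¹ = F.b :=
  D.odd_conj F.kz F.az F.bz (Cov.odd_of_cube F.a3) (Cov.odd_of_cube F.b3)
    (by rw [F.pmk, F.pma, F.pmb]; exact P9.conj_ka F.hm)
theorem kb : F.κ * F.b * F.κ⁻¹ = F.c :=
  D.odd_conj F.kz F.bz F.cz (Cov.odd_of_cube F.b3) (Cov.odd_of_cube F.c3)
    (by rw [F.pmk, F.pmb, F.pmc]; exact P9.conj_kb F.hm)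
theorem kc : F.κ * F.c * F.κ⁻¹ = F.a :=
  D.odd_conj F.kz F.cz F.az (Cov.odd_of_cube F.c3) (Cov.odd_of_cube F.a3)
    (by rw [F.pmk, F.pmc, F.pma]; exact P9.conj_kc F.hm)

theorem hzu : F.h * (D.z * F.u) * F.h⁻¹ = D.z * F.u := by
  rw [show F.h * (D.z * F.u) * F.h⁻¹ = (F.h * D.z * F.h⁻¹) * (F.h * F.u * F.h⁻¹) by group, F.hz, F.hu, F.uz.eq]

theorem comm_h_ab {x : G} : Commute (F.h * x * F.h⁻¹) (F.a * F.b) ↔ Commute x (F.a * F.b) := by
  constructor <;> intro h
  · refine (comm_conj_iff (g := F.h)).1 ?_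
    rcases F.hab with e | e <;> rw [e]
    · exact h
    · exact h.inv_right
  · have := (comm_conj_iff (g := F.h)).2 h
    rcases F.hab with e | e <;> rw [e] at this
    · exact this
    · exact (Commute.inv_right_iff).1 this

theorem comm_h_z {x : G} : Commute (F.h * x * F.h⁻¹) F.u ↔ Commute x D.z := by
  rw [← F.hz]; exact comm_conj_iff

theorem comm_h_u {x : G} : Commute (F.h * x * F.h⁻¹) D.z ↔ Commute x F.u := by
  conv_lhs => rw [← F.hu]
  exact comm_conj_iff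

/-- A member of the centralizer commuting with the three lifts. -/
theorem triple_cases {x : G} (hx : Commute x D.z) (ha : Commute x F.a) (hb : Commute x F.b) (hc : Commute x F.c) :
    ∃ i j k : Fin 3, x = F.a ^ (i : ℕ) * F.b ^ (j : ℕ) * F.c ^ (k : ℕ) ∨
      x = F.a ^ (i : ℕ) * F.b ^ (j : ℕ) * F.c ^ (k : ℕ) * D.z := by
  obtain ⟨i, j, k, he⟩ := P9.triple F.hm (σ := D.pm x) (by rw [← F.pma]; exact D.comm_pm hx F.az ha)
    (by rw [← F.pmb]; exact D.comm_pm hx F.bz hb) (by rw [← F.pmc]; exact D.comm_pm hx F.cz hc)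
  refine ⟨i, j, k, D.pm_cases (D.comm_mul (D.comm_mul (F.az.pow_left _) (F.bz.pow_left _)) (F.cz.pow_left _)) hx ?_⟩
  rw [D.pm_mul (D.comm_mul (F.az.pow_left _) (F.bz.pow_left _)) (F.cz.pow_left _),
    D.pm_mul (F.az.pow_left _) (F.bz.pow_left _), D.pm_pow F.az, D.pm_pow F.bz, D.pm_pow F.cz, F.pma, F.pmb, F.pmc,
    he]

/-- A lift of odd order of a three-cycle is conjugate to `a` in the centralizer. -/
theorem conj_a {e : G} (he : Commute e D.z) (heo : Odd (orderOf e)) (h3 : (D.pm e).IsThreeCycle) :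
    ∃ k, Commute k D.z ∧ k * F.a * k⁻¹ = e := by
  have hpa : (P9.pa m).IsThreeCycle := by
    have h := Perm.isThreeCycle_swap_mul_swap_same (a := (1 : Fin (m + 9))) (b := 0) (c := 2)
      (by rcases F.hm with rfl | rfl <;> decide) (by rcases F.hm with rfl | rfl <;> decide)
      (by rcases F.hm with rfl | rfl <;> decide)
    rwa [Equiv.swap_comm] at h
  obtain ⟨q, hq⟩ := isConj_iff.1 (Perm.isConj_iff_cycleType_eq.2 (hpa.trans h3.symm))
  obtain ⟨q', hq', hq's⟩ : ∃ q', q' * P9.pa m * q'⁻¹ = D.pm e ∧ Perm.sign q' = 1 := by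
    rcases Int.units_eq_one_or (Perm.sign q) with h | h
    · exact ⟨q, hq, h⟩
    · refine ⟨q * swap 6 7, ?_, by rw [map_mul, h, Perm.sign_swap (by rcases F.hm with rfl | rfl <;> decide)]; rfl⟩
      rw [← hq, show q * swap 6 7 * P9.pa m * (q * swap 6 7)⁻¹ =
        q * (swap 6 7 * P9.pa m * (swap 6 7)⁻¹) * q⁻¹ by group,
        show swap 6 7 * P9.pa m * (swap 6 7)⁻¹ = P9.pa m by rcases F.hm with rfl | rfl <;> decide +kernel]
  obtain ⟨k, hk, hkp⟩ := D.exists_lift hq's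
  exact ⟨k, hk, D.odd_conj hk F.az he (Cov.odd_of_cube F.a3) heo (by rw [hkp, F.pma, hq'])⟩

/-- The only involution of the centralizer commuting with `a` is the central one. -/
theorem invol_a {x : G} (hx : Commute x D.z) (hxa : Commute x F.a) (h2 : x * x = 1) : x = 1 ∨ x = D.z := by
  by_contra h
  simp only [not_or] at h
  have h8 := D.invol_support hx h2 h.1 h.2
  have hfix : ∀ p, P9.pa m p ≠ p → D.pm x p = p := fun p hp =>
    invol_fix (a := P9.pa m) (by rw [← D.pm_mul hx hx, h2, D.pm_one]) (by rw [← F.pma]; exact D.comm_pm hx F.az hxa)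
      (P9.pa3 F.hm) (by rcases F.hm with rfl | rfl <;> decide +kernel) hp
  have h7 : (Finset.univ.filter fun p => P9.pa m p = p).card ≤ 7 := by
    rcases F.hm with rfl | rfl <;> decide +kernel
  have := card_support_le_fixed hfix
  omega

/-- The commutator with `z` of a member of the centralizer of `a` lies in the odd core. -/
theorem zstar_a {g : G} (hg : Commute g F.a) : D.z * g * D.z⁻¹ * g⁻¹ ∈ Oc F.a := by
  set C := Subgroup.centralizer ({F.a} : Set G)
  have hzC : D.z ∈ C := Subgroup.mem_centralizer_singleton_iff.2 F.az.symm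
  have hiso : Cfsg.IsIsolatedInvolution (⟨D.z, hzC⟩ : C) := by
    refine ⟨(Subgroup.orderOf_mk _ _).trans (orderOf_eq_prime (p := 2) (by rw [pow_two, D.zz]) D.z1), fun k hc => ?_⟩
    refine Subtype.ext ?_
    have hk : Commute (k : G) F.a := Subgroup.mem_centralizer_singleton_iff.1 k.2
    have hcz : Commute ((k : G) * D.z * (k : G)⁻¹) D.z := Commute.symm (congrArg Subtype.val hc)
    rcases F.invol_a hcz ((hk.mul_left F.az.symm).mul_left hk.inv_left)
      (by rw [show (k : G) * D.z * (k : G)⁻¹ * ((k : G) * D.z * (k : G)⁻¹) = (k : G) * (D.z * D.z) * (k : G)⁻¹ by group,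
        D.zz, mul_one, mul_inv_cancel]) with h | h
    · rw [mul_inv_eq_one, mul_eq_left] at h
      exact absurd h D.z1
    · exact h
  exact ⟨_, Cfsg.Lib.ZStarApps.zstarProp hiso ⟨g, Subgroup.mem_centralizer_singleton_iff.2 hg⟩, rfl⟩

/-- An inverted element of odd order of the centralizer of `a` lies in the odd core. -/
theorem inv_mem_Oa {g : G} (hg : Commute g F.a) (hinv : D.z * g * D.z⁻¹ = g⁻¹) (ho : Odd (orderOf g)) :
    g ∈ Oc F.a := by
  have h := F.zstar_a hg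
  rw [hinv] at h
  refine mem_of_sq_mem ho ?_
  have := (Oc F.a).inv_mem h
  rwa [mul_inv_rev, inv_inv] at this

/-- Fixed points of `z` in the odd core are powers of `a`. -/
theorem Oa_cent {x : G} (hx : x ∈ Oc F.a) (hxz : Commute x D.z) : ∃ i : ℕ, x = F.a ^ i := by
  set O₀ : Subgroup G := Oc F.a ⊓ Subgroup.centralizer {D.z} with hO₀
  have hmem : ∀ y, y ∈ O₀ ↔ y ∈ Oc F.a ∧ Commute y D.z := fun y => by
    rw [hO₀, Subgroup.mem_inf, Subgroup.mem_centralizer_singleton_iff]; exact Iff.rfl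
  let M : Subgroup (Perm (Fin (m + 9))) :=
    { carrier := {σ | ∃ y ∈ O₀, D.pm y = σ}
      mul_mem' := by
        rintro _ _ ⟨p, hp, rfl⟩ ⟨q, hq, rfl⟩
        exact ⟨p * q, O₀.mul_mem hp hq, D.pm_mul ((hmem _).1 hp).2 ((hmem _).1 hq).2⟩
      one_mem' := ⟨1, O₀.one_mem, D.pm_one⟩
      inv_mem' := by
        rintro _ ⟨p, hp, rfl⟩
        exact ⟨p⁻¹, O₀.inv_mem hp, D.pm_inv ((hmem _).1 hp).2⟩ }
  have hMa : P9.pa m ∈ M := ⟨F.a, (hmem _).2 ⟨self_mem_Oc (Cov.odd_of_cube F.a3), F.az⟩, F.pma⟩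
  set S := {p : Fin (m + 9) // P9.pa m p = p}
  let f : alternatingGroup S →* Perm (Fin (m + 9)) := Perm.ofSubtype.comp (alternatingGroup S).subtype
  haveI : (M.comap f).Normal := by
    refine ⟨fun ρ hρ g => ?_⟩
    obtain ⟨y, hy, hyp⟩ := hρ
    obtain ⟨k, hk, hkp⟩ := D.exists_lift (σ := f g) (by
      show Perm.sign (Perm.ofSubtype (g : Perm S)) = 1
      rw [Perm.sign_ofSubtype]; exact Perm.mem_alternatingGroup.1 g.2)
    have hka : Commute k F.a := by
      refine D.odd_comm hk F.az (Cov.odd_of_cube F.a3) ?_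
      rw [hkp, F.pma]
      refine (Perm.Disjoint.commute fun p => ?_)
      by_cases hp : P9.pa m p = p
      · exact Or.inr hp
      · exact Or.inl (Perm.ofSubtype_apply_of_not_mem _ hp)
    refine ⟨k * y * k⁻¹, (hmem _).2 ⟨Oc_normal hka ((hmem _).1 hy).1, D.comm_conj hk ((hmem _).1 hy).2⟩, ?_⟩
    rw [D.pm_conj hk ((hmem _).1 hy).2, hkp, hyp, map_mul, map_mul, map_inv]
  have h5 : 5 ≤ Nat.card S := by
    rw [Nat.card_eq_fintype_card]
    rcases F.hm with rfl | rfl <;> decide +kernel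
  haveI : IsSimpleGroup (alternatingGroup S) := alternatingGroup.isSimpleGroup h5
  have hbot : M.comap f = ⊥ := by
    refine ((inferInstance : (M.comap f).Normal).eq_bot_or_eq_top).resolve_right fun htop => ?_
    -- an element of order two would lie in an odd group
    obtain ⟨d, hd, hd1, hdc⟩ : ∃ d : Perm (Fin (m + 9)), d * d = 1 ∧ d ≠ 1 ∧ ∃ g, f g = d := by
      obtain ⟨g, hg⟩ := exists_prime_orderOf_dvd_card' (G := alternatingGroup S) 2 (by
        haveI : Nontrivial S := by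
          rw [← Finite.one_lt_card_iff_nontrivial]; omega
        rw [Nat.card_eq_fintype_card, ← Nat.mul_dvd_mul_iff_left (show 0 < 2 by omega), two_mul_card_alternatingGroup,
          Fintype.card_perm]
        exact Nat.dvd_factorial (by norm_num) (by rw [← Nat.card_eq_fintype_card]; omega))
      refine ⟨f g, by rw [← map_mul, ← pow_two, ← hg, pow_orderOf_eq_one, map_one], fun h => ?_, g, rfl⟩
      have hg1 : g = 1 := Subtype.ext (Perm.ofSubtype_injective (h.trans (map_one Perm.ofSubtype).symm))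
      rw [hg1, orderOf_one] at hg
      exact absurd hg (by decide)
    obtain ⟨g, rfl⟩ := hdc
    obtain ⟨y, hy, hyp⟩ : g ∈ M.comap f := htop ▸ Subgroup.mem_top g
    have hyz := ((hmem _).1 hy).2
    refine hd1 (eq_one_of_sq ?_ hd)
    refine (Oc_orderOf ((hmem _).1 hy).1).of_dvd_nat (orderOf_dvd_of_pow_eq_one ?_)
    rw [← hyp, ← D.pm_pow hyz, pow_orderOf_eq_one, D.pm_one]
  set σ := D.pm x with hσ
  have hca : Commute σ (P9.pa m) := by rw [← F.pma]; exact D.comm_pm hxz F.az (Oc_comm hx)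
  -- remove the part on the first cycle
  obtain ⟨i, hi⟩ : ∃ i : Fin 3, σ 0 = (P9.pa m ^ (i : ℕ)) 0 := by
    have h : ¬ P9.pa m (σ 0) = σ 0 := fun h => by
      rw [← apply_comm hca, σ.injective.eq_iff] at h
      revert h
      rcases F.hm with rfl | rfl <;> decide +kernel
    revert h
    generalize σ 0 = y
    revert y
    rcases F.hm with rfl | rfl <;> decide +kernel
  set ρ := (P9.pa m ^ (i : ℕ))⁻¹ * σ with hρ
  have hρM : ρ ∈ M := M.mul_mem (M.inv_mem (M.pow_mem hMa _)) ⟨x, (hmem _).2 ⟨hx, hxz⟩, rfl⟩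
  have hρc : Commute ρ (P9.pa m) := ((Commute.refl _).pow_left _).inv_left.mul_left hca
  have hρ0 : ρ 0 = 0 := by rw [hρ, Perm.mul_apply, hi, Perm.inv_def, Equiv.symm_apply_apply]
  have hρfix : ∀ p, P9.pa m p ≠ p → ρ p = p := by
    intro p hp
    have e : p = 0 ∨ p = P9.pa m 0 ∨ p = P9.pa m (P9.pa m 0) := by
      revert hp; revert p
      rcases F.hm with rfl | rfl <;> decide +kernel
    rcases e with rfl | rfl | rfl
    · exact hρ0
    · rw [apply_comm hρc, hρ0]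
    · rw [apply_comm hρc, apply_comm hρc, hρ0]
  have hiff : ∀ p, (fun q => P9.pa m q = q) (ρ p) ↔ (fun q => P9.pa m q = q) p := fun p => by
    show P9.pa m (ρ p) = ρ p ↔ P9.pa m p = p
    rw [← apply_comm hρc, ρ.injective.eq_iff]
  have hofS : Perm.ofSubtype (Perm.subtypePerm (p := fun q => P9.pa m q = q) ρ hiff) = ρ :=
    Perm.ofSubtype_subtypePerm _ fun p hp => by_contra fun h => hp (hρfix p h)
  have hsgn : Perm.sign (Perm.subtypePerm (p := fun q => P9.pa m q = q) ρ hiff) = 1 := by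
    rw [← Perm.sign_ofSubtype, hofS, hρ, map_mul, map_inv, map_pow, P9.sign_pa F.hm, hσ, D.pm_sign hxz]
    simp
  have hin : (⟨Perm.subtypePerm (p := fun q => P9.pa m q = q) ρ hiff, Perm.mem_alternatingGroup.2 hsgn⟩ : alternatingGroup S) ∈ M.comap f := by
    show Perm.ofSubtype (Perm.subtypePerm (p := fun q => P9.pa m q = q) ρ hiff) ∈ M
    rw [hofS]; exact hρM
  rw [hbot, Subgroup.mem_bot] at hin
  have hρ1 : ρ = 1 := by
    rw [← hofS, show Perm.subtypePerm (p := fun q => P9.pa m q = q) ρ hiff = 1 from congrArg Subtype.val hin, map_one]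
  refine ⟨i, D.odd_ext (F.az.pow_left _) hxz ((Cov.odd_of_cube F.a3).of_dvd_nat (orderOf_pow_dvd _)) (Oc_orderOf hx) ?_⟩
  rw [D.pm_pow F.az, F.pma]
  rw [hρ, inv_mul_eq_one] at hρ1
  exact hρ1

end Frame

end Cfsg.Lib.DoubleCoverAlt
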