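import Mathlib
import Cfsg.Agent.DoubleCoverAlt.Basic

/-!
# The inverted elements centralizing two three-cycles
-/

set_option autoImplicit false
set_option linter.unusedSectionVars false
set_option linter.unusedSimpArgs false
set_option linter.style.haveILetI false

namespace Cfsg.Lib.DoubleCoverAlt

open Equiv

universe u

variable {G : Type u} [Group G] [Finite G]

theorem pow_mod_three {x : G} (h : x * x * x = 1) (k : ℕ) : x ^ k = x ^ (k % 3) := by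
  conv_lhs => rw [← Nat.div_add_mod k 3]
  rw [pow_add, pow_mul, pow_succ, pow_two, h, one_pow, one_mul]

theorem conj_conj_mem {S : Subgroup G} {g : G} (h : ∀ x ∈ S, g * x * g⁻¹ ∈ S) {x : G} (hx : x ∈ S) : g⁻¹ * x * g ∈ S := by
  have := (Cfsg.Lib.ZStarApps.mem_normalizer_of_maps h)
  rw [Subgroup.mem_normalizer_iff] at this
  refine (this _).2 ?_
  rwa [show g * (g⁻¹ * x * g) * g⁻¹ = x by group]

namespace Frame

variable {m : ℕ} {D : Cov G (m + 9)} (F : Frame D)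

/-- Powers of `a` in the odd core are central there and meet the powers of `b` trivially. -/
theorem pow_inter {p q : ℕ} (h : F.a ^ p = F.b ^ q) : F.a ^ p = 1 := by
  rw [pow_mod_three F.a3] at h ⊢
  rw [pow_mod_three F.b3] at h
  have h' := congrArg D.pm h
  rw [D.pm_pow F.az, D.pm_pow F.bz, F.pma, F.pmb] at h'
  rcases Nat.eq_zero_or_pos (p % 3) with e | e
  · rw [e, pow_zero]
  · exfalso
    have h0 := congrArg (fun σ : Perm (Fin (m + 9)) => σ 0) h'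
    have hp : p % 3 = 1 ∨ p % 3 = 2 := by omega
    have hq : q % 3 = 0 ∨ q % 3 = 1 ∨ q % 3 = 2 := by omega
    rcases hp with hp | hp <;> rcases hq with hq | hq | hq <;> rw [hp, hq] at h0 <;>
      (revert h0; rcases F.hm with rfl | rfl <;> decide +kernel)

theorem pow_comm {x : G} (hx : Commute x F.a) (n : ℕ) : Commute x (F.a ^ n) := hx.pow_right n

/-- Decomposition in the odd core of the centralizer of `a`. -/
theorem Oa_decomp {g : G} (hg : g ∈ Oc F.a) : ∃ n : ℕ, ∃ i ∈ Oc F.a, g = F.a ^ n * i ∧ D.z * i * D.z⁻¹ = i⁻¹ := by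
  obtain ⟨f, hf, i, hi, rfl, hfz, hiz, -⟩ :=
    odd_decomp (Oc_odd F.a) D.zz (fun x hx => Oc_normal F.az.symm hx) hg
  obtain ⟨n, rfl⟩ := F.Oa_cent hf hfz
  exact ⟨n, i, hi, rfl, hiz⟩

theorem z_conj_a_pow (n : ℕ) : D.z * F.a ^ n * D.z⁻¹ = F.a ^ n := by
  rw [(F.az.pow_left n).symm.eq, mul_inv_cancel_right]

theorem comm_inverted {i j : G} (hi : i ∈ Oc F.a) (hj : j ∈ Oc F.a) (hiz : D.z * i * D.z⁻¹ = i⁻¹)
    (hjz : D.z * j * D.z⁻¹ = j⁻¹) : ∃ n : ℕ, i * j * i⁻¹ * j⁻¹ = F.a ^ n := by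
  obtain ⟨n, k, hk, he, hkz⟩ := F.Oa_decomp ((Oc F.a).mul_mem hi hj)
  have hak : Commute (F.a ^ n) k := (pow_comm F (Oc_comm hk) n).symm
  have h : D.z * (i * j) * D.z⁻¹ = D.z * (F.a ^ n * k) * D.z⁻¹ := congrArg (fun x => D.z * x * D.z⁻¹) he
  rw [show D.z * (i * j) * D.z⁻¹ = (D.z * i * D.z⁻¹) * (D.z * j * D.z⁻¹) by group,
    show D.z * (F.a ^ n * k) * D.z⁻¹ = (D.z * F.a ^ n * D.z⁻¹) * (D.z * k * D.z⁻¹) by group,
    hiz, hjz, hkz, F.z_conj_a_pow, ← mul_inv_rev] at h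
  have h2 : (j * i)⁻¹ = F.a ^ n * k⁻¹ := h
  refine ⟨n + n, ?_⟩
  rw [show i * j * i⁻¹ * j⁻¹ = (i * j) * (j * i)⁻¹ by group, h2, he, pow_add, mul_assoc, ← mul_assoc k,
    ← hak.eq, mul_assoc (F.a ^ n) k, mul_inv_cancel, mul_one]

theorem Oa_comm {x y : G} (hx : x ∈ Oc F.a) (hy : y ∈ Oc F.a) : ∃ n : ℕ, x * y * x⁻¹ * y⁻¹ = F.a ^ n := by
  obtain ⟨p, i, hi, rfl, hiz⟩ := F.Oa_decomp hx
  obtain ⟨q, j, hj, rfl, hjz⟩ := F.Oa_decomp hy
  obtain ⟨n, hn⟩ := F.comm_inverted hi hj hiz hjz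
  refine ⟨n, ?_⟩
  have h1 : ∀ r : ℕ, ∀ w ∈ Oc F.a, Commute (F.a ^ r) w := fun r w hw => (pow_comm F (Oc_comm hw) r).symm
  have hq : Commute (F.a ^ q) (F.a ^ p * i) := (((Commute.refl _).pow_pow q p)).mul_right (h1 q i hi)
  calc F.a ^ p * i * (F.a ^ q * j) * (F.a ^ p * i)⁻¹ * (F.a ^ q * j)⁻¹
      = (F.a ^ p * i * F.a ^ q) * (j * i⁻¹) * (F.a ^ p)⁻¹ * j⁻¹ * (F.a ^ q)⁻¹ := by group
    _ = F.a ^ q * (F.a ^ p * (i * j * i⁻¹) * (F.a ^ p)⁻¹) * j⁻¹ * (F.a ^ q)⁻¹ := by rw [hq.symm.eq]; group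
    _ = F.a ^ q * (i * j * i⁻¹ * j⁻¹) * (F.a ^ q)⁻¹ := by
      rw [(h1 p _ ((Oc F.a).mul_mem ((Oc F.a).mul_mem hi hj) ((Oc F.a).inv_mem hi))).eq]; group
    _ = F.a ^ n := by rw [hn, ((Commute.refl F.a).pow_pow q n).eq, mul_inv_cancel_right]

/-- An inverted element of the centralizer of a conjugate of `a` lies in that odd core. -/
theorem inv_mem_Oc {k e g : G} (hk : Commute k D.z) (he : k * F.a * k⁻¹ = e) (hg : Commute g e)
    (hinv : D.z * g * D.z⁻¹ = g⁻¹) (ho : Odd (orderOf g)) : g ∈ Oc e := by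
  have h : k⁻¹ * g * k ∈ Oc F.a := by
    refine F.inv_mem_Oa ?_ ?_ ?_
    · have := (comm_conj_iff (g := k⁻¹)).2 hg
      rwa [← he, inv_inv, show k⁻¹ * (k * F.a * k⁻¹) * k = F.a by group] at this
    · rw [show D.z * (k⁻¹ * g * k) * D.z⁻¹ = (D.z * k⁻¹ * D.z⁻¹) * (D.z * g * D.z⁻¹) * (D.z * k * D.z⁻¹) by group,
        hinv, hk.inv_left.symm.eq, mul_inv_cancel_right, hk.symm.eq, mul_inv_cancel_right]
      group
    · have := Cov.orderOf_conj k⁻¹ g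
      rw [inv_inv] at this
      rwa [this]
  have := Oc_conj k h
  rwa [he, show k * (k⁻¹ * g * k) * k⁻¹ = g by group] at this

theorem Oc_cent {k e x : G} (hk : Commute k D.z) (he : k * F.a * k⁻¹ = e) (hx : x ∈ Oc e) (hxz : Commute x D.z) :
    ∃ n : ℕ, x = e ^ n := by
  have h := Oc_conj k⁻¹ hx
  rw [← he, inv_inv, show k⁻¹ * (k * F.a * k⁻¹) * k = F.a by group] at h
  obtain ⟨n, hn⟩ := F.Oa_cent h ((hk.inv_left.mul_left hxz).mul_left hk)
  refine ⟨n, ?_⟩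
  rw [← he, conj_pow, ← hn]
  group

theorem inv_mem_Ob {g : G} (hg : Commute g F.b) (hinv : D.z * g * D.z⁻¹ = g⁻¹) (ho : Odd (orderOf g)) : g ∈ Oc F.b :=
  F.inv_mem_Oc F.uz F.ua hg hinv ho

theorem Ob_cent {x : G} (hx : x ∈ Oc F.b) (hxz : Commute x D.z) : ∃ n : ℕ, x = F.b ^ n :=
  F.Oc_cent F.uz F.ua hx hxz

/-- The set of the inverted elements of odd order commuting with `a` and `b`. -/
def JSet : Set G := {x | Commute x F.a ∧ Commute x F.b ∧ D.z * x * D.z⁻¹ = x⁻¹ ∧ Odd (orderOf x)}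

theorem J_comm {i j : G} (hi : i ∈ F.JSet) (hj : j ∈ F.JSet) : Commute i j := by
  have hiO := F.inv_mem_Oa hi.1 hi.2.2.1 hi.2.2.2
  have hjO := F.inv_mem_Oa hj.1 hj.2.2.1 hj.2.2.2
  have hiB := F.inv_mem_Ob hi.2.1 hi.2.2.1 hi.2.2.2
  have hjB := F.inv_mem_Ob hj.2.1 hj.2.2.1 hj.2.2.2
  obtain ⟨n, hn⟩ := F.comm_inverted hiO hjO hi.2.2.1 hj.2.2.1
  obtain ⟨q, hq⟩ := F.Ob_cent ((Oc F.b).mul_mem ((Oc F.b).mul_mem ((Oc F.b).mul_mem hiB hjB) ((Oc F.b).inv_mem hiB))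
    ((Oc F.b).inv_mem hjB)) (by rw [hn]; exact F.az.pow_left n)
  rw [F.pow_inter (hn.symm.trans hq), mul_inv_eq_one, mul_inv_eq_iff_eq_mul] at hn
  exact hn

/-- The inverted elements commuting with `a` and `b`, as a subgroup. -/
def J : Subgroup G where
  carrier := F.JSet
  one_mem' := ⟨Commute.one_left _, Commute.one_left _, by group, by rw [orderOf_one]; decide⟩
  mul_mem' {i j} hi hj := by
    have hc := F.J_comm hi hj
    refine ⟨hi.1.mul_left hj.1, hi.2.1.mul_left hj.2.1, ?_, ?_⟩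
    · rw [show D.z * (i * j) * D.z⁻¹ = (D.z * i * D.z⁻¹) * (D.z * j * D.z⁻¹) by group, hi.2.2.1, hj.2.2.1,
        mul_inv_rev, hc.inv_inv.eq]
    · exact (hi.2.2.2.mul hj.2.2.2).of_dvd_nat hc.orderOf_mul_dvd_mul_orderOf
  inv_mem' {i} hi := ⟨hi.1.inv_left, hi.2.1.inv_left,
    by rw [show D.z * i⁻¹ * D.z⁻¹ = (D.z * i * D.z⁻¹)⁻¹ by group, hi.2.2.1], by rw [orderOf_inv]; exact hi.2.2.2⟩

theorem mem_J {x : G} :
    x ∈ F.J ↔ Commute x F.a ∧ Commute x F.b ∧ D.z * x * D.z⁻¹ = x⁻¹ ∧ Odd (orderOf x) := Iff.rfl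

theorem J_conj {g x : G} (hg : Commute g D.z) (hab : ∀ y, Commute y F.a → Commute y F.b →
    Commute (g * y * g⁻¹) F.a ∧ Commute (g * y * g⁻¹) F.b) (hx : x ∈ F.J) : g * x * g⁻¹ ∈ F.J := by
  refine ⟨(hab x hx.1 hx.2.1).1, (hab x hx.1 hx.2.1).2, ?_, by rw [Cov.orderOf_conj]; exact hx.2.2.2⟩
  rw [show D.z * (g * x * g⁻¹) * D.z⁻¹ = (D.z * g) * x * (D.z * g)⁻¹ by group, hg.symm.eq,
    show g * D.z * x * (g * D.z)⁻¹ = g * (D.z * x * D.z⁻¹) * g⁻¹ by group, hx.2.2.1]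
  group

theorem J_conj_cent {g x : G} (hg : Commute g D.z) (ha : Commute g F.a) (hb : Commute g F.b) (hx : x ∈ F.J) :
    g * x * g⁻¹ ∈ F.J :=
  F.J_conj hg (fun _ h1 h2 => ⟨(ha.mul_left h1).mul_left ha.inv_left, (hb.mul_left h2).mul_left hb.inv_left⟩) hx

theorem J_conj_u {x : G} (hx : x ∈ F.J) : F.u * x * F.u⁻¹ ∈ F.J :=
  F.J_conj F.uz (fun y h1 h2 => ⟨by rw [← F.ub]; exact comm_conj_iff.2 h2, by rw [← F.ua]; exact comm_conj_iff.2 h1⟩) hx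

theorem J_conj_t {x : G} (hx : x ∈ F.J) : F.τ * x * F.τ⁻¹ ∈ F.J :=
  F.J_conj F.tz (fun y h1 h2 => ⟨(Commute.inv_right_iff).1 (by rw [← F.ta]; exact comm_conj_iff.2 h1),
    (Commute.inv_right_iff).1 (by rw [← F.tb]; exact comm_conj_iff.2 h2)⟩) hx

/-- The part of `J` centralized by `u`. -/
def Ju : Subgroup G := F.J ⊓ Subgroup.centralizer {F.u}

theorem mem_Ju {x : G} : x ∈ F.Ju ↔ x ∈ F.J ∧ Commute x F.u := by
  rw [Ju, Subgroup.mem_inf, Subgroup.mem_centralizer_singleton_iff]; exact Iff.rfl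

theorem J_split {x : G} (hx : x ∈ F.J) :
    ∃ p ∈ F.J, ∃ q ∈ F.J, x = p * q ∧ Commute p F.u ∧ F.u * q * F.u⁻¹ = q⁻¹ := by
  have ho : Odd (Nat.card F.J) := by
    rw [Nat.odd_iff]
    by_contra h
    obtain ⟨⟨y, hy⟩, hy2⟩ := exists_prime_orderOf_dvd_card' (G := F.J) 2 (by omega)
    rw [Subgroup.orderOf_mk] at hy2
    have := hy.2.2.2
    rw [hy2] at this
    exact absurd this (by decide)
  obtain ⟨p, hp, q, hq, h1, h2, h3, -⟩ := odd_decomp ho F.u2 (fun y hy => F.J_conj_u hy) hx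
  exact ⟨p, hp, q, hq, h1, h2, h3⟩

theorem t_u_fixed {x : G} (hx : x ∈ F.J) (hu : Commute x F.u) :
    F.u * (F.τ * x * F.τ⁻¹) * F.u⁻¹ = (F.τ * x * F.τ⁻¹)⁻¹ := by
  have h : Commute (F.τ * x * F.τ⁻¹) (F.u * D.z) := by rw [← F.tu]; exact comm_conj_iff.2 hu
  have hz := (F.J_conj_t hx).2.2.1
  set y := F.τ * x * F.τ⁻¹
  calc F.u * y * F.u⁻¹ = (F.u * D.z) * (D.z⁻¹ * y * D.z) * (F.u * D.z)⁻¹ := by group
    _ = (F.u * D.z) * y⁻¹ * (F.u * D.z)⁻¹ := by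
      rw [show D.z⁻¹ = D.z from inv_eq_of_mul_eq_one_right D.zz]
      conv_lhs => rw [show D.z * y * D.z = D.z * y * D.z⁻¹ by rw [inv_eq_of_mul_eq_one_right D.zz], hz]
    _ = y⁻¹ := by rw [h.inv_left.symm.eq, mul_inv_cancel_right]

theorem t_u_inverted {x : G} (hx : x ∈ F.J) (hu : F.u * x * F.u⁻¹ = x⁻¹) : Commute (F.τ * x * F.τ⁻¹) F.u := by
  have hz : Commute x (F.u * D.z) := by
    refine (mul_inv_eq_iff_eq_mul.1 ?_ : F.u * D.z * x = x * (F.u * D.z)).symm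
    rw [show F.u * D.z * x * (F.u * D.z)⁻¹ = F.u * (D.z * x * D.z⁻¹) * F.u⁻¹ by group, hx.2.2.1,
      show F.u * x⁻¹ * F.u⁻¹ = (F.u * x * F.u⁻¹)⁻¹ by group, hu, inv_inv]
  have h : Commute (F.τ * x * F.τ⁻¹) (F.τ * (F.u * D.z) * F.τ⁻¹) := comm_conj_iff.2 hz
  rwa [show F.τ * (F.u * D.z) * F.τ⁻¹ = (F.τ * F.u * F.τ⁻¹) * (F.τ * D.z * F.τ⁻¹) by group, F.tu,
    conj_of_comm F.tz, mul_assoc F.u, D.zz, mul_one] at h

theorem J_odd {x : G} (hx : x ∈ F.J) : Odd (orderOf x) := hx.2.2.2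

theorem eq_one_fixed_inverted {x : G} (ho : Odd (orderOf x)) {v : G} (h1 : Commute v x) (h2 : v * x * v⁻¹ = x⁻¹) :
    x = 1 := by
  rw [h1.eq, mul_inv_cancel_right] at h2
  exact eq_one_of_sq ho (mul_eq_one_iff_eq_inv.2 h2)

theorem card_J : Nat.card F.J = Nat.card F.Ju * Nat.card F.Ju := by
  rw [← Nat.card_prod]
  refine (Nat.card_congr (Equiv.ofBijective (fun pq : F.Ju × F.Ju =>
    (⟨(pq.1 : G) * (F.τ * (pq.2 : G) * F.τ⁻¹), F.J.mul_mem (F.mem_Ju.1 pq.1.2).1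
      (F.J_conj_t (F.mem_Ju.1 pq.2.2).1)⟩ : F.J)) ⟨?_, ?_⟩)).symm
  · rintro ⟨⟨p, hp⟩, ⟨q, hq⟩⟩ ⟨⟨p', hp'⟩, ⟨q', hq'⟩⟩ h
    have h' : p * (F.τ * q * F.τ⁻¹) = p' * (F.τ * q' * F.τ⁻¹) := congrArg Subtype.val h
    have e : p'⁻¹ * p = F.τ * (q' * q⁻¹) * F.τ⁻¹ := by
      rw [inv_mul_eq_iff_eq_mul, show p' * (F.τ * (q' * q⁻¹) * F.τ⁻¹) =
        p' * (F.τ * q' * F.τ⁻¹) * (F.τ * q * F.τ⁻¹)⁻¹ by group, ← h', mul_inv_cancel_right]
    have hqq := F.mem_Ju.1 (F.Ju.mul_mem hq' (F.Ju.inv_mem hq))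
    have hpp := F.mem_Ju.1 (F.Ju.mul_mem (F.Ju.inv_mem hp') hp)
    have h1 : p'⁻¹ * p = 1 := eq_one_fixed_inverted (F.J_odd hpp.1) hpp.2.symm
      (by rw [e]; exact F.t_u_fixed hqq.1 hqq.2)
    rw [h1] at e
    have h2 : q' * q⁻¹ = 1 := by
      rw [show q' * q⁻¹ = F.τ⁻¹ * (F.τ * (q' * q⁻¹) * F.τ⁻¹) * F.τ by group, ← e]; group
    rw [inv_mul_eq_one] at h1
    rw [mul_inv_eq_one] at h2
    subst h1 h2
    rfl
  · rintro ⟨x, hx⟩
    obtain ⟨p, hp, q, hq, rfl, hpu, hqu⟩ := F.J_split hx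
    have hq' := F.t_u_inverted hq hqu
    have ht2 : F.τ * (F.τ * q * F.τ⁻¹) * F.τ⁻¹ = q⁻¹ := by
      rw [show F.τ * (F.τ * q * F.τ⁻¹) * F.τ⁻¹ = (F.τ * F.τ) * q * (F.τ * F.τ)⁻¹ by group, F.t2, hq.2.2.1]
    refine ⟨(⟨p, F.mem_Ju.2 ⟨hp, hpu⟩⟩, ⟨(F.τ * q * F.τ⁻¹)⁻¹,
      F.Ju.inv_mem (F.mem_Ju.2 ⟨F.J_conj_t hq, hq'⟩)⟩), Subtype.ext ?_⟩
    show p * (F.τ * (F.τ * q * F.τ⁻¹)⁻¹ * F.τ⁻¹) = p * q
    rw [← conj_inv, ht2, inv_inv]

/-- An odd subgroup of the centralizer of `ab` inside that of `z` has order dividing 27. -/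
theorem card_dvd_27 (H : Subgroup G) (hz : ∀ x ∈ H, Commute x D.z) (hab : ∀ x ∈ H, Commute x (F.a * F.b))
    (ho : Odd (Nat.card H)) : Nat.card H ∣ 27 := by
  let φ : H →* Perm (Fin (m + 9)) :=
    { toFun := fun g => D.pm (g : G)
      map_one' := D.pm_one
      map_mul' := fun g g' => D.pm_mul (hz _ g.2) (hz _ g'.2) }
  have hinj : Function.Injective φ := (injective_iff_map_eq_one φ).2 fun g hg =>
    Subtype.ext (D.odd_one (hz _ g.2) (odd_orderOf_of_mem ho g.2) hg)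
  have h432 : Nat.card H ∣ 16 * 27 := by
    rw [Nat.card_congr (MonoidHom.ofInjective hinj).toEquiv]
    refine (Subgroup.card_dvd_of_le (show φ.range ≤ Subgroup.centralizer {P9.pa m * P9.pb m} by
      rintro _ ⟨g, rfl⟩
      rw [Subgroup.mem_centralizer_singleton_iff, ← F.pmab]
      exact D.comm_pm (hz _ g.2) F.abz (hab _ g.2))).trans (P9.card_centralizer_ab F.hm)
  have hc : Nat.Coprime (Nat.card H) (2 ^ 4) := Nat.Coprime.pow_right 4 ho.coprime_two_right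
  exact Nat.Coprime.dvd_of_dvd_mul_left hc h432

/-- The same bound inside the centralizer of `u`. -/
theorem card_dvd_27_u (H : Subgroup G) (hu : ∀ x ∈ H, Commute x F.u) (hab : ∀ x ∈ H, Commute x (F.a * F.b))
    (ho : Odd (Nat.card H)) : Nat.card H ∣ 27 := by
  have hc : Nat.card (H.map (MulAut.conj F.h).toMonoidHom) = Nat.card H :=
    Subgroup.card_map_of_injective (MulAut.conj F.h).injective
  rw [← hc]
  refine F.card_dvd_27 _ ?_ ?_ (hc ▸ ho)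
  · rintro _ ⟨x, hx, rfl⟩
    exact F.comm_h_u.2 (hu x hx)
  · rintro _ ⟨x, hx, rfl⟩
    exact F.comm_h_ab.2 (hab x hx)

theorem ab_ne_one : F.a * F.b ≠ 1 := fun h => by
  have := F.pmab
  rw [h, D.pm_one] at this
  revert this
  rcases F.hm with rfl | rfl <;> decide +kernel

/-- Extending an inverted set by the powers of `ab` triples it. -/
theorem three_mul_ncard_le {S T : Set G} (hST : ∀ x ∈ S, ∀ k : ℕ, x * (F.a * F.b) ^ k ∈ T)
    (hinv : ∀ x ∈ S, D.z * x * D.z⁻¹ = x⁻¹) (hodd : ∀ x ∈ S, Odd (orderOf x))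
    (hab : ∀ x ∈ S, Commute x (F.a * F.b)) : 3 * S.ncard ≤ T.ncard := by
  have hf : Function.Injective (fun p : Fin 3 × S =>
      (⟨(p.2 : G) * (F.a * F.b) ^ (p.1 : ℕ), hST _ p.2.2 _⟩ : T)) := by
    rintro ⟨i, x, hx⟩ ⟨j, y, hy⟩ h
    have h' : x * (F.a * F.b) ^ (i : ℕ) = y * (F.a * F.b) ^ (j : ℕ) := congrArg Subtype.val h
    have hz : D.z * (x * (F.a * F.b) ^ (i : ℕ)) * D.z⁻¹ = D.z * (y * (F.a * F.b) ^ (j : ℕ)) * D.z⁻¹ :=
      congrArg (fun w => D.z * w * D.z⁻¹) h'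
    have e : ∀ (w : G) (n : ℕ), D.z * (w * (F.a * F.b) ^ n) * D.z⁻¹ = D.z * w * D.z⁻¹ * (F.a * F.b) ^ n := by
      intro w n
      rw [show D.z * (w * (F.a * F.b) ^ n) * D.z⁻¹ = D.z * w * D.z⁻¹ * (D.z * (F.a * F.b) ^ n * D.z⁻¹) by group,
        conj_of_comm (F.abz.pow_left n).symm]
    rw [e, e, hinv x hx, hinv y hy] at hz
    have hxy : x = y := by
      refine sq_inj (hodd x hx) (hodd y hy) ?_
      have e1 : y⁻¹ * x = (F.a * F.b) ^ (j : ℕ) * ((F.a * F.b) ^ (i : ℕ))⁻¹ := by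
        rw [inv_mul_eq_iff_eq_mul, ← mul_assoc, eq_mul_inv_iff_mul_eq, h']
      have e2 : y * x⁻¹ = (F.a * F.b) ^ (j : ℕ) * ((F.a * F.b) ^ (i : ℕ))⁻¹ := by
        rw [eq_mul_inv_iff_mul_eq, mul_assoc, hz, mul_inv_cancel_left]
      have e3 := e1.trans e2.symm
      rw [inv_mul_eq_iff_eq_mul, eq_comm, ← mul_assoc, mul_inv_eq_iff_eq_mul] at e3
      exact e3.symm
    subst hxy
    have hij : (F.a * F.b) ^ (i : ℕ) = (F.a * F.b) ^ (j : ℕ) := mul_left_cancel h'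
    rw [pow_inj_mod, orderOf_eq_three F.ab3 F.ab_ne_one, Nat.mod_eq_of_lt i.2, Nat.mod_eq_of_lt j.2] at hij
    rw [Fin.ext hij]
  have := Nat.card_le_card_of_injective _ hf
  rwa [Nat.card_prod, Nat.card_fin, Nat.card_coe_set_eq, Nat.card_coe_set_eq] at this

theorem card_Ju_le : Nat.card F.Ju ≤ 9 := by
  set K := F.Ju ⊔ Subgroup.zpowers (F.a * F.b) with hK
  have hu : K ≤ Subgroup.centralizer {F.u} := sup_le inf_le_right
    (Subgroup.zpowers_le.2 (Subgroup.mem_centralizer_singleton_iff.2 F.u_ab.symm))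
  have hab : K ≤ Subgroup.centralizer {F.a * F.b} := sup_le
    (fun x hx => Subgroup.mem_centralizer_singleton_iff.2 ((F.mem_Ju.1 hx).1.1.mul_right (F.mem_Ju.1 hx).1.2.1))
    (Subgroup.zpowers_le.2 (Subgroup.mem_centralizer_singleton_iff.2 rfl))
  have hodd : Odd (Nat.card K) := by
    rw [Nat.odd_iff]
    by_contra h
    obtain ⟨⟨y, hy⟩, hy2⟩ := exists_prime_orderOf_dvd_card' (G := K) 2 (by omega)
    rw [Subgroup.orderOf_mk] at hy2
    have hnorm : Subgroup.zpowers (F.a * F.b) ≤ Subgroup.normalizer (F.Ju : Set G) :=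
      Subgroup.zpowers_le.2 (Cfsg.Lib.ZStarApps.mem_normalizer_of_maps fun p hp => by
        rw [conj_of_comm ((F.mem_Ju.1 hp).1.1.mul_right (F.mem_Ju.1 hp).1.2.1).symm]; exact hp)
    rw [hK, ← SetLike.mem_coe, Subgroup.coe_mul_of_right_le_normalizer_left _ _ hnorm] at hy
    obtain ⟨p, hp, q, hq, rfl⟩ := hy
    have hc : Commute p q := by
      obtain ⟨k, rfl⟩ := hq
      exact ((F.mem_Ju.1 hp).1.1.mul_right (F.mem_Ju.1 hp).1.2.1).zpow_right k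
    have hqo : Odd (orderOf q) := by
      obtain ⟨k, rfl⟩ := hq
      exact (Cov.odd_of_cube F.ab3).of_dvd_nat (orderOf_dvd_of_mem_zpowers ⟨k, rfl⟩)
    have := ((F.J_odd (F.mem_Ju.1 hp).1).mul hqo).of_dvd_nat hc.orderOf_mul_dvd_mul_orderOf
    rw [hy2] at this
    exact absurd this (by decide)
  have h27 := Nat.le_of_dvd (by norm_num) (F.card_dvd_27_u K (fun x hx => Subgroup.mem_centralizer_singleton_iff.1 (hu hx))
    (fun x hx => Subgroup.mem_centralizer_singleton_iff.1 (hab hx)) hodd)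
  have h3 := F.three_mul_ncard_le (S := (F.Ju : Set G)) (T := (K : Set G))
    (fun x hx k => K.mul_mem (Subgroup.mem_sup_left hx) (K.pow_mem (Subgroup.mem_sup_right (Subgroup.mem_zpowers _)) k))
    (fun x hx => (F.mem_Ju.1 hx).1.2.2.1) (fun x hx => F.J_odd (F.mem_Ju.1 hx).1)
    (fun x hx => (F.mem_Ju.1 hx).1.1.mul_right (F.mem_Ju.1 hx).1.2.1)
  rw [← Nat.card_coe_set_eq, ← Nat.card_coe_set_eq] at h3
  change 3 * Nat.card F.Ju ≤ Nat.card K at h3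
  omega

theorem card_Ju_dvd : Nat.card F.Ju ∣ 27 := by
  refine F.card_dvd_27_u F.Ju (fun x hx => (F.mem_Ju.1 hx).2)
    (fun x hx => (F.mem_Ju.1 hx).1.1.mul_right (F.mem_Ju.1 hx).1.2.1) ?_
  rw [Nat.odd_iff]
  by_contra h
  obtain ⟨⟨y, hy⟩, hy2⟩ := exists_prime_orderOf_dvd_card' (G := F.Ju) 2 (by omega)
  rw [Subgroup.orderOf_mk] at hy2
  have := F.J_odd (F.mem_Ju.1 hy).1
  rw [hy2] at this
  exact absurd this (by decide)

theorem card_Ju_cases : Nat.card F.Ju = 1 ∨ Nat.card F.Ju = 3 ∨ Nat.card F.Ju = 9 := by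
  have h1 := F.card_Ju_le
  have h2 := F.card_Ju_dvd
  have h3 : ∀ k, k ≤ 9 → k ∣ 27 → k = 1 ∨ k = 3 ∨ k = 9 := by decide +kernel
  exact h3 _ h1 h2

/-- The centralizer of `b` in the odd core of that of `a` is small. -/
theorem card_Oa_b : {x | x ∈ Oc F.a ∧ Commute x F.b}.ncard ≤ 3 * Nat.card F.J := by
  have hsub : {x | x ∈ Oc F.a ∧ Commute x F.b} ⊆
      (fun p : Fin 3 × F.J => F.a ^ (p.1 : ℕ) * (p.2 : G)) '' Set.univ := by
    rintro x ⟨hx, hxb⟩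
    obtain ⟨n, i, hi, rfl, hiz⟩ := F.Oa_decomp hx
    have hib : Commute i F.b := by
      have := (F.ab.pow_left n).inv_left.mul_left hxb
      rwa [inv_mul_cancel_left] at this
    refine ⟨(⟨n % 3, Nat.mod_lt _ (by norm_num)⟩, ⟨i, Oc_comm hi, hib, hiz, Oc_orderOf hi⟩), Set.mem_univ _, ?_⟩
    show F.a ^ (n % 3) * i = _
    rw [← pow_mod_three F.a3]
  refine (Set.ncard_le_ncard hsub (Set.toFinite _)).trans ((Set.ncard_image_le (Set.toFinite _)).trans ?_)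
  rw [Set.ncard_univ, Nat.card_prod, Nat.card_fin]

theorem card_Oa_b_le : {x | x ∈ Oc F.a ∧ Commute x F.b}.ncard ≤ 243 := by
  refine F.card_Oa_b.trans ?_
  rw [F.card_J]
  have := Nat.mul_le_mul F.card_Ju_le F.card_Ju_le
  omega

theorem conj_a_pow {k : G} (hk : k * F.c * k⁻¹ = F.c⁻¹ ∨ k * F.c * k⁻¹ = F.c) {x : G} (hx : x ∈ Oc F.c) :
    k * x * k⁻¹ ∈ Oc F.c := by
  have h := Oc_conj k hx
  rcases hk with e | e <;> rw [e] at h
  · refine le_Oc (Oc F.c⁻¹) (fun y hy => Commute.inv_right_iff.1 (Oc_comm hy)) (Oc_odd _)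
      (fun g hg y hy => Oc_normal hg.inv_right hy) h
  · exact h

theorem ab_not_mem_Oc {n : ℕ} : F.a * F.b ≠ F.c ^ n := fun h => by
  have h' := congrArg D.pm h
  rw [F.pmab, D.pm_pow F.cz, F.pmc] at h'
  have h0 : (P9.pa m * P9.pb m) 0 = (P9.pc m ^ n) 0 := congrArg (fun σ : Perm (Fin (m + 9)) => σ 0) h'
  have e : (P9.pc m ^ n) 0 = 0 := by
    refine Equiv.Perm.pow_apply_eq_self_of_apply_eq_self ?_ n
    rcases F.hm with rfl | rfl <;> decide +kernel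
  rw [e] at h0
  revert h0
  rcases F.hm with rfl | rfl <;> decide +kernel

/-- The centralizer of `ab` in the odd core of that of `c` is small. -/
theorem card_Oc_ab : {x | x ∈ Oc F.c ∧ Commute x (F.a * F.b)}.ncard ≤ 243 := by
  set S : Subgroup G := Oc F.c ⊓ Subgroup.centralizer {F.a * F.b} with hS
  have memS : ∀ x, x ∈ S ↔ x ∈ Oc F.c ∧ Commute x (F.a * F.b) := fun x => by
    rw [hS, Subgroup.mem_inf, Subgroup.mem_centralizer_singleton_iff]; exact Iff.rfl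
  set R := S ⊔ Subgroup.zpowers (F.a * F.b) with hR
  have hcab : Commute (F.a * F.b) F.c := F.ac.mul_left F.bc
  have hnorm : Subgroup.zpowers (F.a * F.b) ≤ Subgroup.normalizer (S : Set G) :=
    Subgroup.zpowers_le.2 (Cfsg.Lib.ZStarApps.mem_normalizer_of_maps fun x hx => by
      rw [conj_of_comm ((memS x).1 hx).2.symm]; exact hx)
  have memR : ∀ x, x ∈ R ↔ ∃ s ∈ S, ∃ k : ℤ, x = s * (F.a * F.b) ^ k := fun x => by
    rw [hR, ← SetLike.mem_coe, Subgroup.coe_mul_of_right_le_normalizer_left _ _ hnorm]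
    constructor
    · rintro ⟨s, hs, _, ⟨k, rfl⟩, rfl⟩; exact ⟨s, hs, k, rfl⟩
    · rintro ⟨s, hs, k, rfl⟩; exact ⟨s, hs, _, ⟨k, rfl⟩, rfl⟩
  have hRab : ∀ x ∈ R, Commute x (F.a * F.b) := fun x hx => by
    obtain ⟨s, hs, k, rfl⟩ := (memR x).1 hx
    exact ((memS s).1 hs).2.mul_left ((Commute.refl _).zpow_left k)
  have hkodd : ∀ k : ℤ, Odd (orderOf ((F.a * F.b) ^ k)) := fun k =>
    (Cov.odd_of_cube F.ab3).of_dvd_nat (orderOf_dvd_of_mem_zpowers ⟨k, rfl⟩)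
  have hRodd : Odd (Nat.card R) := by
    rw [Nat.odd_iff]
    by_contra h
    obtain ⟨⟨y, hy⟩, hy2⟩ := exists_prime_orderOf_dvd_card' (G := R) 2 (by omega)
    rw [Subgroup.orderOf_mk] at hy2
    obtain ⟨s, hs, k, rfl⟩ := (memR y).1 hy
    have := ((Oc_orderOf ((memS s).1 hs).1).mul (hkodd k)).of_dvd_nat
      (((memS s).1 hs).2.zpow_right k).orderOf_mul_dvd_mul_orderOf
    rw [hy2] at this
    exact absurd this (by decide)
  have hconjR : ∀ g, (g * F.c * g⁻¹ = F.c⁻¹ ∨ g * F.c * g⁻¹ = F.c) →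
      (g * (F.a * F.b) * g⁻¹ = F.a * F.b ∨ g * (F.a * F.b) * g⁻¹ = (F.a * F.b)⁻¹) → ∀ x ∈ R, g * x * g⁻¹ ∈ R := by
    intro g hgc hgab x hx
    obtain ⟨s, hs, k, rfl⟩ := (memR x).1 hx
    rw [show g * (s * (F.a * F.b) ^ k) * g⁻¹ = (g * s * g⁻¹) * (g * (F.a * F.b) ^ k * g⁻¹) by group]
    refine R.mul_mem (Subgroup.mem_sup_left ((memS _).2 ⟨F.conj_a_pow hgc ((memS s).1 hs).1, ?_⟩)) ?_
    · have := (comm_conj_iff (g := g)).2 ((memS s).1 hs).2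
      rcases hgab with e | e <;> rw [e] at this
      · exact this
      · exact Commute.inv_right_iff.1 this
    · rw [← conj_zpow]
      refine Subgroup.mem_sup_right ?_
      rcases hgab with e | e <;> rw [e]
      · exact ⟨k, rfl⟩
      · exact ⟨-k, (zpow_neg _ k).trans (inv_zpow _ k).symm⟩
  have hzc : D.z * F.c * D.z⁻¹ = F.c := conj_of_comm F.cz.symm
  have hzab : D.z * (F.a * F.b) * D.z⁻¹ = F.a * F.b := conj_of_comm F.abz.symm
  have htab : F.τ * (F.a * F.b) * F.τ⁻¹ = (F.a * F.b)⁻¹ := by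
    rw [show F.τ * (F.a * F.b) * F.τ⁻¹ = (F.τ * F.a * F.τ⁻¹) * (F.τ * F.b * F.τ⁻¹) by group, F.ta, F.tb, mul_inv_rev,
      F.ab.inv_inv.eq]
  -- elements fixed by `z`
  have hfix : ∀ x ∈ R, Commute x D.z → ∃ i k : ℕ, i < 3 ∧ k < 3 ∧ x = F.c ^ i * (F.a * F.b) ^ k := by
    intro x hx hxz
    obtain ⟨s, hs, k, rfl⟩ := (memR x).1 hx
    have hsz : Commute s D.z := by
      have := hxz.mul_left (F.abz.zpow_left (-k))
      rwa [mul_assoc, zpow_neg, mul_inv_cancel, mul_one] at this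
    obtain ⟨i, hi⟩ := F.Oc_cent (k := F.κ * F.κ) (D.comm_mul F.kz F.kz)
      (by rw [show F.κ * F.κ * F.a * (F.κ * F.κ)⁻¹ = F.κ * (F.κ * F.a * F.κ⁻¹) * F.κ⁻¹ by group, F.ka, F.kb])
      ((memS s).1 hs).1 hsz
    obtain ⟨l, hl⟩ : ∃ l : ℕ, (F.a * F.b) ^ k = (F.a * F.b) ^ l := by
      have : (F.a * F.b) ^ k ∈ Subgroup.zpowers (F.a * F.b) := ⟨k, rfl⟩
      rw [← mem_powers_iff_mem_zpowers, Submonoid.mem_powers_iff] at this
      obtain ⟨l, hl⟩ := this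
      exact ⟨l, hl.symm⟩
    exact ⟨i % 3, l % 3, Nat.mod_lt _ (by norm_num), Nat.mod_lt _ (by norm_num),
      by rw [hi, hl, pow_mod_three F.c3, pow_mod_three F.ab3]⟩
  have hbound := card_le_of_two_invol R hRodd D.zz F.u2 F.uz.symm (hconjR D.z (Or.inr hzc) (Or.inl hzab))
    (hconjR F.u (Or.inl F.uc) (Or.inl (conj_of_comm F.u_ab))) ?_
  · have hF : {x | x ∈ R ∧ Commute x D.z}.ncard ≤ 9 := by
      have hsub : {x | x ∈ R ∧ Commute x D.z} ⊆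
          (fun p : Fin 3 × Fin 3 => F.c ^ (p.1 : ℕ) * (F.a * F.b) ^ (p.2 : ℕ)) '' Set.univ := by
        rintro x ⟨hx, hxz⟩
        obtain ⟨i, k, hi, hk, rfl⟩ := hfix x hx hxz
        exact ⟨(⟨i, hi⟩, ⟨k, hk⟩), Set.mem_univ _, rfl⟩
      refine (Set.ncard_le_ncard hsub (Set.toFinite _)).trans ((Set.ncard_image_le (Set.toFinite _)).trans ?_)
      rw [Set.ncard_univ, Nat.card_prod, Nat.card_fin]
    set B := {x | x ∈ R ∧ D.z * x * D.z⁻¹ = x⁻¹ ∧ Commute x F.u}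
    set C := {x | x ∈ R ∧ D.z * x * D.z⁻¹ = x⁻¹ ∧ F.u * x * F.u⁻¹ = x⁻¹}
    have hB : B.ncard ≤ 9 := by
      set K := R ⊓ Subgroup.centralizer {F.u} with hK
      have hKodd : Odd (Nat.card K) := hRodd.of_dvd_nat (Subgroup.card_dvd_of_le inf_le_left)
      have h27 := Nat.le_of_dvd (by norm_num) (F.card_dvd_27_u K
        (fun x hx => Subgroup.mem_centralizer_singleton_iff.1 hx.2) (fun x hx => hRab x hx.1) hKodd)
      have h3 := F.three_mul_ncard_le (S := B) (T := (K : Set G)) (fun x hx k => by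
          refine ⟨R.mul_mem hx.1 (R.pow_mem (Subgroup.mem_sup_right (Subgroup.mem_zpowers _)) k), ?_⟩
          exact Subgroup.mem_centralizer_singleton_iff.2 (hx.2.2.mul_left (F.u_ab.symm.pow_left k)))
        (fun x hx => hx.2.1) (fun x hx => odd_orderOf_of_mem hRodd hx.1) (fun x hx => hRab x hx.1)
      rw [← Nat.card_coe_set_eq (K : Set G)] at h3
      change 3 * B.ncard ≤ Nat.card K at h3
      omega
    have hC : C.ncard ≤ 9 := by
      refine le_trans ?_ hB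
      refine Set.ncard_le_ncard_of_injOn (fun x => F.τ * x * F.τ⁻¹) ?_ (fun x _ y _ h => ?_) (Set.toFinite _)
      · rintro x ⟨hx, hxz, hxu⟩
        refine ⟨hconjR F.τ (Or.inr (conj_of_comm F.tc)) (Or.inr htab) x hx, ?_, ?_⟩
        · rw [show D.z * (F.τ * x * F.τ⁻¹) * D.z⁻¹ = (D.z * F.τ) * x * (D.z * F.τ)⁻¹ by group, F.tz.symm.eq,
            show F.τ * D.z * x * (F.τ * D.z)⁻¹ = F.τ * (D.z * x * D.z⁻¹) * F.τ⁻¹ by group, hxz]
          group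
        · have hz : Commute x (F.u * D.z) := by
            refine (mul_inv_eq_iff_eq_mul.1 ?_ : F.u * D.z * x = x * (F.u * D.z)).symm
            rw [show F.u * D.z * x * (F.u * D.z)⁻¹ = F.u * (D.z * x * D.z⁻¹) * F.u⁻¹ by group, hxz,
              show F.u * x⁻¹ * F.u⁻¹ = (F.u * x * F.u⁻¹)⁻¹ by group, hxu, inv_inv]
          have h : Commute (F.τ * x * F.τ⁻¹) (F.τ * (F.u * D.z) * F.τ⁻¹) := comm_conj_iff.2 hz
          rwa [show F.τ * (F.u * D.z) * F.τ⁻¹ = (F.τ * F.u * F.τ⁻¹) * (F.τ * D.z * F.τ⁻¹) by group, F.tu,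
            conj_of_comm F.tz, mul_assoc F.u, D.zz, mul_one] at h
      · exact mul_left_cancel (mul_right_cancel h)
    have hR729 : Nat.card R ≤ 729 :=
      hbound.trans ((Nat.mul_le_mul (Nat.mul_le_mul hF hB) hC).trans (by norm_num))
    have hf : Function.Injective (fun p : Fin 3 × S => (⟨(p.2 : G) * (F.a * F.b) ^ (p.1 : ℕ),
        R.mul_mem (Subgroup.mem_sup_left p.2.2) (R.pow_mem (Subgroup.mem_sup_right (Subgroup.mem_zpowers _)) _)⟩ : R)) := by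
      rintro ⟨i, s, hs⟩ ⟨j, s', hs'⟩ h
      have h' : s * (F.a * F.b) ^ (i : ℕ) = s' * (F.a * F.b) ^ (j : ℕ) := congrArg Subtype.val h
      have hmem : ((F.a * F.b) ^ (j : ℕ) * ((F.a * F.b) ^ (i : ℕ))⁻¹) ∈ Oc F.c := by
        rw [show (F.a * F.b) ^ (j : ℕ) * ((F.a * F.b) ^ (i : ℕ))⁻¹ = s'⁻¹ * s by
          rw [eq_inv_mul_iff_mul_eq, ← mul_assoc, ← h', mul_inv_cancel_right]]
        exact (Oc F.c).mul_mem ((Oc F.c).inv_mem ((memS _).1 hs').1) ((memS _).1 hs).1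
      have hij : i = j := by
        by_contra hne
        have hno : ∀ l : ℕ, l = 1 ∨ l = 2 → (F.a * F.b) ^ l ∉ Oc F.c := by
          intro l hl hmem
          have hab : F.a * F.b ∈ Oc F.c := by
            rcases hl with rfl | rfl
            · rwa [pow_one] at hmem
            · exact mem_of_sq_mem (Cov.odd_of_cube F.ab3) (by rwa [pow_two] at hmem)
          obtain ⟨n, hn⟩ := F.Oc_cent (k := F.κ * F.κ) (D.comm_mul F.kz F.kz)
            (by rw [show F.κ * F.κ * F.a * (F.κ * F.κ)⁻¹ = F.κ * (F.κ * F.a * F.κ⁻¹) * F.κ⁻¹ by group, F.ka, F.kb])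
            hab F.abz
          exact F.ab_not_mem_Oc hn
        have hl : (F.a * F.b) ^ (j : ℕ) * ((F.a * F.b) ^ (i : ℕ))⁻¹ = (F.a * F.b) ^ (((j : ℕ) + 3 - (i : ℕ)) % 3) := by
          rw [← pow_mod_three F.ab3, mul_inv_eq_iff_eq_mul, ← pow_add,
            show (j : ℕ) + 3 - (i : ℕ) + (i : ℕ) = (j : ℕ) + 3 by omega, pow_add,
            pow_succ _ 2, pow_two, F.ab3, mul_one]
        rw [hl] at hmem
        exact hno _ (by have := Fin.val_ne_of_ne hne; omega) hmem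
      subst hij
      have : s = s' := mul_right_cancel h'
      subst this
      rfl
    have h3 := Nat.card_le_card_of_injective _ hf
    rw [Nat.card_prod, Nat.card_fin] at h3
    have hSe : {x | x ∈ Oc F.c ∧ Commute x (F.a * F.b)}.ncard = Nat.card S := by
      rw [← Nat.card_coe_set_eq]
      exact Nat.card_congr (Equiv.setCongr (Set.ext fun x => (memS x).symm))
    omega
  · intro x hx hxz hxu y hy
    obtain ⟨i, k, hi, hk, rfl⟩ := hfix x hx hxz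
    have hci : Commute (F.c ^ i) F.u := by
      have := hxu.mul_left (F.u_ab.symm.pow_left k).inv_left
      rwa [mul_inv_cancel_right] at this
    have h1 : F.c ^ i = 1 := by
      refine eq_one_fixed_inverted ((Cov.odd_of_cube F.c3).of_dvd_nat (orderOf_pow_dvd _)) hci.symm ?_
      rw [← conj_pow, F.uc, inv_pow]
    rw [h1, one_mul]
    exact (hRab y hy).symm.pow_left k

end Frame

end Cfsg.Lib.DoubleCoverAlt
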