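import Mathlib
import Cfsg.Agent.DoubleCoverAlt.JSub

/-!
# Bounding the odd core of the centralizer of a three-cycle
-/

set_option autoImplicit false
set_option linter.unusedSectionVars false
set_option linter.unusedSimpArgs false
set_option linter.style.haveILetI false

namespace Cfsg.Lib.DoubleCoverAlt

open Equiv

universe u

variable {G : Type u} [Group G] [Finite G]

theorem sup_Oc_odd (x : G) (H : Subgroup G) (hH : ∀ g ∈ H, Commute g x) (ho : Odd (Nat.card H)) :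
    Odd (Nat.card (H ⊔ Oc x : Subgroup G)) := by
  set C := Subgroup.centralizer ({x} : Set G)
  set O' := Cfsg.pPrimeCore 2 C
  haveI : O'.Normal := by
    show (Cfsg.pPrimeCore 2 C).Normal
    unfold Cfsg.pPrimeCore
    exact Cfsg.Lib.Components.normal_of_mem_sSup_normal fun N hN => hN.1
  have hle : H ≤ C := fun g hg => Subgroup.mem_centralizer_singleton_iff.2 (hH g hg)
  have he : H ⊔ Oc x = (O' ⊔ H.subgroupOf C).map C.subtype := by
    rw [Subgroup.map_sup, Subgroup.map_subgroupOf_eq_of_le hle, sup_comm]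
    rfl
  rw [he, Subgroup.card_map_of_injective C.subtype_injective]
  refine Odd.of_dvd_nat ?_ (Cfsg.Lib.Components.card_sup_dvd_mul O' (H.subgroupOf C))
  refine Cfsg.Lib.ZStarApps.odd_card_pPrimeCore.mul ?_
  rwa [Nat.card_congr (Subgroup.subgroupOfEquivOfLe hle).toEquiv]

namespace Frame

variable {m : ℕ} {D : Cov G (m + 9)} (F : Frame D)
include F

theorem pa_pow_apply (k : ℕ) (p : Fin (m + 9)) (hp : P9.pa m p ≠ p) (h : (P9.pa m ^ k) p = p) : k % 3 = 0 := by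
  have hk : P9.pa m ^ k = P9.pa m ^ (k % 3) := pow_mod_three (P9.pa3 F.hm) k
  rw [hk] at h
  obtain h' | h' | h' : k % 3 = 0 ∨ k % 3 = 1 ∨ k % 3 = 2 := by omega
  · exact h'
  · rw [h', pow_one] at h
    exact absurd h hp
  · rw [h', pow_two, Perm.mul_apply] at h
    have h3 : P9.pa m (P9.pa m (P9.pa m p)) = p := by
      rw [← Perm.mul_apply, ← Perm.mul_apply, P9.pa3 F.hm, Perm.one_apply]
    rw [h] at h3
    exact absurd h3 hp

theorem orbit_a {p : Fin (m + 9)} (hp : P9.pa m p ≠ p) :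
    ∃ i : Fin 3, p = (P9.pa m ^ (i : ℕ)) 0 := by
  revert hp
  revert p
  rcases F.hm with rfl | rfl <;> decide +kernel

/-- The part of a permutation commuting with `a` on the moved points. -/
theorem split_a {σ : Perm (Fin (m + 9))} (hc : Commute σ (P9.pa m)) :
    ∃ i : ℕ, ∀ p, P9.pa m p ≠ p → σ p = (P9.pa m ^ i) p := by
  have h0 : P9.pa m (σ 0) ≠ σ 0 := fun h => by
    rw [← apply_comm hc, σ.injective.eq_iff] at h
    revert h
    rcases F.hm with rfl | rfl <;> decide +kernel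
  obtain ⟨i, hi⟩ := F.orbit_a h0
  refine ⟨i, fun p hp => ?_⟩
  obtain ⟨j, rfl⟩ := F.orbit_a hp
  rw [apply_comm (hc.pow_right _), hi, ← Perm.mul_apply, ← Perm.mul_apply,
    ((Commute.refl (P9.pa m)).pow_pow _ _).eq]

/-- Normal form of an element of order three of the centralizer of `a`. -/
theorem normal_form {y : G} (hyz : Commute y D.z) (hya : Commute y F.a) (hy3 : y * y * y = 1)
    (hne : ∀ i : ℕ, D.pm y ≠ P9.pa m ^ i) :
    ∃ k i, Commute k D.z ∧ Commute k F.a ∧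
      (k * y * k⁻¹ = F.a ^ (i : ℕ) * F.b ∨ k * y * k⁻¹ = F.a ^ (i : ℕ) * (F.b * F.c)) := by
  haveI : Fact (Nat.Prime 3) := ⟨Nat.prime_three⟩
  set σ := D.pm y with hσ
  have hσc : Commute σ (P9.pa m) := by rw [← F.pma]; exact D.comm_pm hyz F.az hya
  obtain ⟨i, hi⟩ := F.split_a hσc
  set ρ := (P9.pa m ^ i)⁻¹ * σ with hρ
  have hρc : Commute ρ (P9.pa m) := ((Commute.refl _).pow_left _).inv_left.mul_left hσc
  have hρfix : ∀ p, P9.pa m p ≠ p → ρ p = p := fun p hp => by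
    rw [hρ, Perm.mul_apply, hi p hp, Perm.inv_def, Equiv.symm_apply_apply]
  have hσ3 : σ * σ * σ = 1 := by
    rw [hσ, ← D.pm_mul hyz hyz, ← D.pm_mul (D.comm_mul hyz hyz) hyz, hy3, D.pm_one]
  have hρ3 : ρ * ρ * ρ = 1 := by
    refine cube_mul (hσc.pow_right i).inv_right.symm ?_ hσ3
    have h := pow_mod_three (P9.pa3 F.hm) i
    have : (P9.pa m ^ i) ^ 3 = 1 := by rw [← pow_mul, pow_mod_three (P9.pa3 F.hm), Nat.mul_mod_left, pow_zero]
    rw [← pow_two, ← pow_succ, inv_pow, this, inv_one]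
  have hρ1 : ρ ≠ 1 := fun h => hne i (by rw [hρ, inv_mul_eq_one] at h; exact h.symm)
  have hρo : orderOf ρ = 3 := orderOf_eq_prime (by rw [pow_succ, pow_two, hρ3]) hρ1
  obtain ⟨l, hl⟩ := Perm.cycleType_prime_order (σ := ρ) (by rw [hρo]; exact Nat.prime_three)
  rw [hρo] at hl
  have hl2 : l = 0 ∨ l = 1 := by
    have h1 := card_support_le_fixed (σ := ρ) (a := P9.pa m) hρfix
    have h7 : (Finset.univ.filter fun p => P9.pa m p = p).card ≤ 7 := by
      rcases F.hm with rfl | rfl <;> decide +kernel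
    have h2 := Perm.sum_cycleType ρ
    rw [hl, Multiset.sum_replicate, smul_eq_mul] at h2
    omega
  -- the target, a correcting transposition product
  obtain ⟨T, tg, s, hTt, hTfix, hTc, hsa, hsT, hss, hsfix, hTtype, hTz, hTg⟩ :
      ∃ (T : Perm (Fin (m + 9))) (tg : G) (s : Perm (Fin (m + 9))), (tg = F.b ∨ tg = F.b * F.c) ∧
        (∀ p, P9.pa m p ≠ p → T p = p) ∧ Commute T (P9.pa m) ∧ Commute s (P9.pa m) ∧ Commute s T ∧
        Perm.sign s = -1 ∧ (∀ p, P9.pa m p ≠ p → s p = p) ∧ T.cycleType = ρ.cycleType ∧ Commute tg D.z ∧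
        D.pm tg = T := by
    rcases hl2 with rfl | rfl
    · refine ⟨P9.pb m, F.b, swap 6 7, Or.inl rfl, by rcases F.hm with rfl | rfl <;> decide +kernel, (P9.comm_ab F.hm).symm,
        by show _ = _; rcases F.hm with rfl | rfl <;> decide +kernel,
        by show _ = _; rcases F.hm with rfl | rfl <;> decide +kernel,
        by rcases F.hm with rfl | rfl <;> decide +kernel, by rcases F.hm with rfl | rfl <;> decide +kernel, ?_, F.bz, F.pmb⟩
      rw [hl]
      have : (P9.pb m).IsThreeCycle := by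
        refine isThreeCycle_of_small (P9.pb3 F.hm) ?_ ?_ <;> rcases F.hm with rfl | rfl <;> decide +kernel
      rw [this]
      rfl
    · refine ⟨P9.pb m * P9.pc m, F.b * F.c, swap 3 6 * swap 4 7 * swap 5 8, Or.inr rfl,
        by rcases F.hm with rfl | rfl <;> decide +kernel,
        (P9.comm_ab F.hm).symm.mul_left (P9.comm_ac F.hm).symm,
        by show _ = _; rcases F.hm with rfl | rfl <;> decide +kernel,
        by show _ = _; rcases F.hm with rfl | rfl <;> decide +kernel,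
        by rcases F.hm with rfl | rfl <;> decide +kernel, by rcases F.hm with rfl | rfl <;> decide +kernel, ?_,
        F.bz.mul_left F.cz, by rw [D.pm_mul F.bz F.cz, F.pmb, F.pmc]⟩
      have ho : orderOf (P9.pb m * P9.pc m) = 3 := orderOf_eq_prime
        (by rcases F.hm with rfl | rfl <;> decide +kernel) (by rcases F.hm with rfl | rfl <;> decide +kernel)
      obtain ⟨r, hr⟩ := Perm.cycleType_prime_order (σ := P9.pb m * P9.pc m) (by rw [ho]; exact Nat.prime_three)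
      rw [ho] at hr
      have h6 : (P9.pb m * P9.pc m).support.card = 6 := by rcases F.hm with rfl | rfl <;> decide +kernel
      have h2 := Perm.sum_cycleType (P9.pb m * P9.pc m)
      rw [hr, Multiset.sum_replicate, smul_eq_mul, h6] at h2
      rw [hr, hl, show r = 1 by omega]
  set S := {p : Fin (m + 9) // P9.pa m p = p}
  have hiffρ : ∀ p, (fun q => P9.pa m q = q) (ρ p) ↔ (fun q => P9.pa m q = q) p := fun p => by
    show P9.pa m (ρ p) = ρ p ↔ P9.pa m p = p
    rw [← apply_comm hρc, ρ.injective.eq_iff]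
  have hiffT : ∀ p, (fun q => P9.pa m q = q) (T p) ↔ (fun q => P9.pa m q = q) p := fun p => by
    show P9.pa m (T p) = T p ↔ P9.pa m p = p
    rw [← apply_comm hTc, T.injective.eq_iff]
  set ρ' : Perm S := Perm.subtypePerm (p := fun q => P9.pa m q = q) ρ hiffρ
  set T' : Perm S := Perm.subtypePerm (p := fun q => P9.pa m q = q) T hiffT
  have eρ : Perm.ofSubtype ρ' = ρ := Perm.ofSubtype_subtypePerm _ fun p hp => by_contra fun h => hp (hρfix p h)
  have eT : Perm.ofSubtype T' = T := Perm.ofSubtype_subtypePerm _ fun p hp => by_contra fun h => hp (hTfix p h)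
  have hct : ρ'.cycleType = T'.cycleType := by
    rw [← Perm.cycleType_ofSubtype (g := ρ'), ← Perm.cycleType_ofSubtype (g := T'), eρ, eT, hTtype]
  obtain ⟨q₀, hq₀⟩ := isConj_iff.1 (Perm.isConj_iff_cycleType_eq.2 hct)
  obtain ⟨q, hqa, hqT, hqs⟩ : ∃ q : Perm (Fin (m + 9)), Commute q (P9.pa m) ∧ q * ρ * q⁻¹ = T ∧ Perm.sign q = 1 := by
    have hc : Commute (Perm.ofSubtype q₀) (P9.pa m) := Perm.Disjoint.commute fun p => by
      by_cases hp : P9.pa m p = p
      · exact Or.inr hp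
      · exact Or.inl (Perm.ofSubtype_apply_of_not_mem _ hp)
    have he : Perm.ofSubtype q₀ * ρ * (Perm.ofSubtype q₀)⁻¹ = T := by
      rw [← eρ, ← eT, ← map_inv, ← map_mul, ← map_mul, hq₀]
    rcases Int.units_eq_one_or (Perm.sign (Perm.ofSubtype q₀)) with h | h
    · exact ⟨_, hc, he, h⟩
    · refine ⟨s * Perm.ofSubtype q₀, hsa.mul_left hc, ?_, by rw [map_mul, hss, h]; rfl⟩
      rw [mul_inv_rev, show s * Perm.ofSubtype q₀ * ρ * ((Perm.ofSubtype q₀)⁻¹ * s⁻¹) =
        s * (Perm.ofSubtype q₀ * ρ * (Perm.ofSubtype q₀)⁻¹) * s⁻¹ by group, he, conj_of_comm hsT]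
  obtain ⟨k, hk, hkp⟩ := D.exists_lift hqs
  have hka : Commute k F.a := D.odd_comm hk F.az (Cov.odd_of_cube F.a3) (by rw [hkp, F.pma]; exact hqa)
  have htg3 : Odd (orderOf (F.a ^ i * tg)) := by
    have hab : Commute F.a tg ∧ tg * tg * tg = 1 := by
      rcases hTt with rfl | rfl
      · exact ⟨F.ab, F.b3⟩
      · exact ⟨F.ab.mul_right F.ac, cube_mul F.bc F.b3 F.c3⟩
    exact (((Cov.odd_of_cube F.a3).of_dvd_nat (orderOf_pow_dvd i)).mul (Cov.odd_of_cube hab.2)).of_dvd_nat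
      (hab.1.pow_left i).orderOf_mul_dvd_mul_orderOf
  have he : k * y * k⁻¹ = F.a ^ i * tg := by
    refine D.odd_conj hk hyz ((F.az.pow_left i).mul_left hTz) (Cov.odd_of_cube hy3) htg3 ?_
    have hσρ : σ = P9.pa m ^ i * ρ := by rw [hρ, mul_inv_cancel_left]
    rw [hkp, ← hσ, D.pm_mul (F.az.pow_left i) hTz, D.pm_pow F.az, F.pma, hTg, hσρ,
      show q * (P9.pa m ^ i * ρ) * q⁻¹ = (q * P9.pa m ^ i * q⁻¹) * (q * ρ * q⁻¹) by group,
      conj_of_comm (hqa.pow_right i), hqT]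
  refine ⟨k, i, hk, hka, ?_⟩
  rcases hTt with rfl | rfl
  · exact Or.inl he
  · exact Or.inr he

theorem kbc : F.κ⁻¹ * (F.b * F.c) * F.κ = F.a * F.b := by
  have h1 : F.κ⁻¹ * F.b * F.κ = F.a := by rw [← F.ka]; group
  have h2 : F.κ⁻¹ * F.c * F.κ = F.b := by rw [← F.kb]; group
  rw [show F.κ⁻¹ * (F.b * F.c) * F.κ = (F.κ⁻¹ * F.b * F.κ) * (F.κ⁻¹ * F.c * F.κ) by group, h1, h2]

theorem card_Oa_bc : {x | x ∈ Oc F.a ∧ Commute x (F.b * F.c)}.ncard ≤ 243 := by
  refine le_trans (Set.ncard_le_ncard_of_injOn (fun x => F.κ⁻¹ * x * F.κ) ?_ (fun x _ y _ h => ?_) (Set.toFinite _))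
    F.card_Oc_ab
  · rintro x ⟨hx, hxc⟩
    have h := Oc_conj F.κ⁻¹ hx
    rw [inv_inv, show F.κ⁻¹ * F.a * F.κ = F.c by rw [← F.kc]; group] at h
    refine ⟨h, ?_⟩
    have := (comm_conj_iff (g := F.κ⁻¹)).2 hxc
    rwa [inv_inv, F.kbc] at this
  · exact mul_left_cancel (mul_right_cancel h)

/-- The centralizer in the odd core of a commuting element of order three is small. -/
theorem card_Oa_y {y : G} (hyz : Commute y D.z) (hya : Commute y F.a) (hy3 : y * y * y = 1)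
    (hne : ∀ i : ℕ, D.pm y ≠ P9.pa m ^ i) :
    {x | x ∈ Oc F.a ∧ Commute x y}.ncard ≤ 243 ∧
      ∀ K : Subgroup G, (∀ x ∈ K, Commute x D.z) → (∀ x ∈ K, Commute x F.a) → (∀ x ∈ K, Commute x y) →
        Odd (Nat.card K) → Nat.card K ≤ 27 := by
  obtain ⟨k, i, hk, hka, he⟩ := F.normal_form hyz hya hy3 hne
  have trans : ∀ tg, k * y * k⁻¹ = F.a ^ i * tg → ∀ x, Commute x F.a → Commute x y → Commute (k * x * k⁻¹) tg := by
    intro tg e x hxa hxy
    have h1 : Commute (k * x * k⁻¹) (F.a ^ i * tg) := e ▸ comm_conj_iff.2 hxy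
    have h2 : Commute (k * x * k⁻¹) (F.a ^ i) := ((hka.mul_left hxa).mul_left hka.inv_left).pow_right i
    have := h2.inv_right.mul_right h1
    rwa [inv_mul_cancel_left] at this
  constructor
  · rcases he with e | e
    · refine le_trans (Set.ncard_le_ncard_of_injOn (fun x => k * x * k⁻¹) ?_ (fun x _ y _ h => ?_) (Set.toFinite _))
        F.card_Oa_b_le
      · exact fun x hx => ⟨Oc_normal hka hx.1, trans _ e x (Oc_comm hx.1) hx.2⟩
      · exact mul_left_cancel (mul_right_cancel h)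
    · refine le_trans (Set.ncard_le_ncard_of_injOn (fun x => k * x * k⁻¹) ?_ (fun x _ y _ h => ?_) (Set.toFinite _))
        F.card_Oa_bc
      · exact fun x hx => ⟨Oc_normal hka hx.1, trans _ e x (Oc_comm hx.1) hx.2⟩
      · exact mul_left_cancel (mul_right_cancel h)
  · intro K hKz hKa hKy hKo
    rcases he with e | e
    · have hc : Nat.card (K.map (MulAut.conj k).toMonoidHom) = Nat.card K :=
        Subgroup.card_map_of_injective (MulAut.conj k).injective
      rw [← hc] at hKo ⊢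
      refine Nat.le_of_dvd (by norm_num) (F.card_dvd_27 _ ?_ ?_ hKo)
      · rintro _ ⟨x, hx, rfl⟩
        exact D.comm_conj hk (hKz x hx)
      · rintro _ ⟨x, hx, rfl⟩
        exact ((hka.mul_left (hKa x hx)).mul_left hka.inv_left).mul_right (trans _ e x (hKa x hx) (hKy x hx))
    · have hc : Nat.card (K.map (MulAut.conj (F.κ⁻¹ * k)).toMonoidHom) = Nat.card K :=
        Subgroup.card_map_of_injective (MulAut.conj (F.κ⁻¹ * k)).injective
      rw [← hc] at hKo ⊢
      refine Nat.le_of_dvd (by norm_num) (F.card_dvd_27 _ ?_ ?_ hKo)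
      · rintro _ ⟨x, hx, rfl⟩
        exact D.comm_conj (F.kz.inv_left.mul_left hk) (hKz x hx)
      · rintro _ ⟨x, hx, rfl⟩
        have h := (comm_conj_iff (g := F.κ⁻¹)).2 (trans _ e x (hKa x hx) (hKy x hx))
        rw [inv_inv, F.kbc] at h
        rw [show (MulAut.conj (F.κ⁻¹ * k)).toMonoidHom x = F.κ⁻¹ * (k * x * k⁻¹) * F.κ from
          show F.κ⁻¹ * k * x * (F.κ⁻¹ * k)⁻¹ = _ by group]
        exact h

/-- An odd group centralizing `a` and an element `o * y` of its centralizer has bounded order. -/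
theorem card_cent_pair (H : Subgroup G) (hHo : Odd (Nat.card H)) (hHa : ∀ g ∈ H, Commute g F.a) {o y : G}
    (ho : o ∈ Oc F.a) (hHy : ∀ g ∈ H, Commute g (o * y)) (hyz : Commute y D.z) (hya : Commute y F.a)
    (hy3 : y * y * y = 1) (hne : ∀ i : ℕ, D.pm y ≠ P9.pa m ^ i) : Nat.card H ≤ 9 * 243 := by
  obtain ⟨hS, hK27⟩ := F.card_Oa_y hyz hya hy3 hne
  set R := H ⊔ Oc F.a
  have hRo : Odd (Nat.card R) := sup_Oc_odd F.a H hHa hHo
  have hRa : R ≤ Subgroup.centralizer {F.a} := sup_le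
    (fun g hg => Subgroup.mem_centralizer_singleton_iff.2 (hHa g hg))
    (fun g hg => Subgroup.mem_centralizer_singleton_iff.2 (Oc_comm hg))
  set K := R ⊓ Subgroup.centralizer {D.z} with hK
  have hnormal : ∀ g, Commute g F.a → ∀ w ∈ Oc F.a, g * w * g⁻¹ ∈ Oc F.a := fun g hg w hw => Oc_normal hg hw
  -- every element of `R` commutes with `y` modulo the core
  have hmod : ∀ g ∈ R, g * y * g⁻¹ * y⁻¹ ∈ Oc F.a := by
    intro g hg
    refine Subgroup.closure_induction (p := fun g _ => g * y * g⁻¹ * y⁻¹ ∈ Oc F.a ∧ Commute g F.a) ?_ ?_ ?_ ?_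
      (show g ∈ Subgroup.closure ((H : Set G) ∪ (Oc F.a : Set G)) by rwa [← Subgroup.sup_eq_closure]) |>.1
    · rintro w (hw | hw)
      · refine ⟨?_, hHa w hw⟩
        have e := conj_of_comm (hHy w hw)
        have h : w * o * w⁻¹ * (w * y * w⁻¹) = o * y := by
          rw [show w * o * w⁻¹ * (w * y * w⁻¹) = w * (o * y) * w⁻¹ by group, e]
        rw [← eq_inv_mul_iff_mul_eq] at h
        rw [h, show (w * o * w⁻¹)⁻¹ * (o * y) * y⁻¹ = (w * o * w⁻¹)⁻¹ * o by group]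
        exact (Oc F.a).mul_mem ((Oc F.a).inv_mem (hnormal w (hHa w hw) o ho)) ho
      · refine ⟨?_, Oc_comm hw⟩
        rw [show w * y * w⁻¹ * y⁻¹ = w * (y * w⁻¹ * y⁻¹) by group]
        exact (Oc F.a).mul_mem hw (hnormal y hya _ ((Oc F.a).inv_mem hw))
    · exact ⟨by simp, Commute.one_left _⟩
    · rintro p q - - ⟨hp, hpa⟩ ⟨hq, hqa⟩
      refine ⟨?_, hpa.mul_left hqa⟩
      rw [show p * q * y * (p * q)⁻¹ * y⁻¹ = p * (q * y * q⁻¹ * y⁻¹) * p⁻¹ * (p * y * p⁻¹ * y⁻¹) by group]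
      exact (Oc F.a).mul_mem (hnormal p hpa _ hq) hp
    · rintro p - ⟨hp, hpa⟩
      refine ⟨?_, hpa.inv_left⟩
      rw [show p⁻¹ * y * p⁻¹⁻¹ * y⁻¹ = p⁻¹ * (p * y * p⁻¹ * y⁻¹)⁻¹ * p⁻¹⁻¹ by group]
      exact hnormal _ hpa.inv_left _ ((Oc F.a).inv_mem hp)
  have hKy : ∀ k ∈ K, Commute k y := by
    intro k hk
    have hkz : Commute k D.z := Subgroup.mem_centralizer_singleton_iff.1 hk.2
    have hka : Commute k F.a := Subgroup.mem_centralizer_singleton_iff.1 (hRa hk.1)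
    obtain ⟨n, hn⟩ := F.Oa_cent (hmod k hk.1) (((hkz.mul_left hyz).mul_left hkz.inv_left).mul_left hyz.inv_left)
    rw [mul_inv_eq_iff_eq_mul] at hn
    set σ := D.pm k
    have hσ : Commute σ (P9.pa m) := by rw [← F.pma]; exact D.comm_pm hkz F.az hka
    have hyσ : Commute (D.pm y) (P9.pa m) := by rw [← F.pma]; exact D.comm_pm hyz F.az hya
    obtain ⟨i, hi⟩ := F.split_a hyσ
    have hp := congrArg D.pm hn
    rw [D.pm_conj hkz hyz, D.pm_mul (F.az.pow_left n) hyz, D.pm_pow F.az, F.pma] at hp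
    have hp0 := congrArg (fun π : Perm (Fin (m + 9)) => π 0) hp
    have h0 : P9.pa m 0 ≠ 0 := by rcases F.hm with rfl | rfl <;> decide +kernel
    have hmv : P9.pa m (σ⁻¹ 0) ≠ σ⁻¹ 0 := fun h => h0 (by
      rw [← apply_comm hσ.inv_left, σ⁻¹.injective.eq_iff] at h; exact h)
    have e1 : (σ * D.pm y * σ⁻¹) 0 = (P9.pa m ^ i) 0 := by
      rw [Perm.mul_apply, Perm.mul_apply, hi _ hmv, apply_comm (hσ.pow_right i), Perm.inv_def, Equiv.apply_symm_apply]
    have e2 : (P9.pa m ^ n * D.pm y) 0 = (P9.pa m ^ n) ((P9.pa m ^ i) 0) := by rw [Perm.mul_apply, hi 0 h0]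
    change (σ * D.pm y * σ⁻¹) 0 = (P9.pa m ^ n * D.pm y) 0 at hp0
    rw [e1, e2] at hp0
    have hmv2 : P9.pa m ((P9.pa m ^ i) 0) ≠ (P9.pa m ^ i) 0 := fun h => h0 (by
      rw [apply_comm ((Commute.refl (P9.pa m)).pow_right i), (P9.pa m ^ i).injective.eq_iff] at h; exact h)
    rw [pow_mod_three F.a3, F.pa_pow_apply n _ hmv2 hp0.symm, pow_zero, one_mul] at hn
    exact comm_of_conj_eq hn
  have hKle : Nat.card K ≤ 27 := hK27 K (fun x hx => Subgroup.mem_centralizer_singleton_iff.1 hx.2)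
    (fun x hx => Subgroup.mem_centralizer_singleton_iff.1 (hRa hx.1)) hKy
    (hRo.of_dvd_nat (Subgroup.card_dvd_of_le inf_le_left))
  -- decomposition of the members of `H`
  have hdec : ∀ g : H, ∃ k ∈ K, (g : G) * k⁻¹ ∈ Oc F.a := by
    rintro ⟨g, hg⟩
    have hw := F.zstar_a (hHa g hg)
    set w := (D.z * g * D.z⁻¹ * g⁻¹)⁻¹ with hwdef
    have hwO : w ∈ Oc F.a := (Oc F.a).inv_mem hw
    have hzi : D.z⁻¹ = D.z := inv_eq_of_mul_eq_one_right D.zz
    have hwi : D.z * w * D.z⁻¹ = w⁻¹ := by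
      calc D.z * w * D.z⁻¹ = (D.z * g * D.z⁻¹) * ((D.z * D.z) * g * (D.z * D.z)⁻¹)⁻¹ := by rw [hwdef]; group
        _ = w⁻¹ := by rw [D.zz, hwdef]; group
    have hri := rt_conj_inv hwi
    have hrs := rt_mul_rt (Oc_orderOf hwO)
    refine ⟨(rt w)⁻¹ * g, ⟨R.mul_mem (R.inv_mem (Subgroup.mem_sup_right (rt_mem hwO))) (Subgroup.mem_sup_left hg),
      Subgroup.mem_centralizer_singleton_iff.2 ?_⟩, by rw [mul_inv_rev, inv_inv, mul_inv_cancel_left]; exact rt_mem hwO⟩
    refine (mul_inv_eq_iff_eq_mul.1 ?_ : D.z * ((rt w)⁻¹ * g) = (rt w)⁻¹ * g * D.z).symm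
    calc D.z * ((rt w)⁻¹ * g) * D.z⁻¹ = (D.z * rt w * D.z⁻¹)⁻¹ * (D.z * g * D.z⁻¹) := by group
      _ = rt w * (w⁻¹ * g) := by rw [hri, inv_inv, hwdef]; group
      _ = (rt w)⁻¹ * g := by rw [← mul_assoc]; nth_rw 2 [← hrs]; group
  choose kf hkf hkO using hdec
  classical
  set P : K → H → Prop := fun κ' g => ∃ j : ℕ, (κ' : G) = kf g * F.a ^ j
  let rep : K → H := fun κ' => if h : ∃ g, P κ' g then h.choose else 1
  have hdiff : ∀ g g' : H, ∀ κ' : K, P κ' g → P κ' g' → (g' : G)⁻¹ * g ∈ Oc F.a := by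
    rintro g g' κ' ⟨j, hj⟩ ⟨j', hj'⟩
    have hka : Commute (kf g') F.a := Subgroup.mem_centralizer_singleton_iff.1 (hRa (hkf g').1)
    have haO : ∀ r : ℕ, F.a ^ r ∈ Oc F.a := fun r => (Oc F.a).pow_mem (self_mem_Oc (Cov.odd_of_cube F.a3)) r
    have e : (g' : G)⁻¹ * g = (kf g')⁻¹ * (((g' : G) * (kf g')⁻¹)⁻¹ * ((g : G) * (kf g)⁻¹)) * kf g' *
        ((kf g')⁻¹ * kf g) := by group
    rw [e]
    refine (Oc F.a).mul_mem ?_ ?_
    · have := hnormal _ hka.inv_left _ ((Oc F.a).mul_mem ((Oc F.a).inv_mem (hkO g')) (hkO g))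
      rwa [inv_inv] at this
    · have : (kf g')⁻¹ * kf g = F.a ^ j' * (F.a ^ j)⁻¹ := by
        rw [inv_mul_eq_iff_eq_mul, ← mul_assoc, eq_mul_inv_iff_mul_eq, ← hj, hj']
      rw [this]
      exact (Oc F.a).mul_mem (haO _) ((Oc F.a).inv_mem (haO _))
  have haK : F.a ∈ K := ⟨Subgroup.mem_sup_right (self_mem_Oc (Cov.odd_of_cube F.a3)),
    Subgroup.mem_centralizer_singleton_iff.2 F.az⟩
  let kap : H × Fin 3 → K := fun p => ⟨kf p.1 * F.a ^ (p.2 : ℕ), K.mul_mem (hkf p.1) (K.pow_mem haK _)⟩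
  set T : Subgroup G := H ⊓ Oc F.a
  have hrep : ∀ p, (rep (kap p) : G)⁻¹ * p.1 ∈ T := by
    intro p
    have hex : ∃ g, P (kap p) g := ⟨p.1, (p.2 : ℕ), rfl⟩
    refine ⟨H.mul_mem (H.inv_mem (rep (kap p)).2) p.1.2, hdiff p.1 _ (kap p) ⟨(p.2 : ℕ), rfl⟩ ?_⟩
    simp only [rep, dif_pos hex]
    exact hex.choose_spec
  let f : H × Fin 3 → K × T := fun p => (kap p, ⟨(rep (kap p) : G)⁻¹ * p.1, hrep p⟩)
  have hf : Function.Injective f := by
    rintro ⟨g, i⟩ ⟨g', i'⟩ e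
    simp only [f, Prod.mk.injEq] at e
    obtain ⟨e1, e2⟩ := e
    have e2' := congrArg Subtype.val e2
    simp only [e1, mul_right_inj] at e2'
    have hg : g = g' := Subtype.ext e2'
    subst hg
    have e1' : kf g * F.a ^ (i : ℕ) = kf g * F.a ^ (i' : ℕ) := congrArg Subtype.val e1
    rw [mul_right_inj, pow_inj_mod, orderOf_eq_three F.a3 (fun h => by
      have := F.pma; rw [h, D.pm_one] at this; revert this; rcases F.hm with rfl | rfl <;> decide +kernel),
      Nat.mod_eq_of_lt i.2, Nat.mod_eq_of_lt i'.2] at e1'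
    rw [Fin.ext e1']
  have hT : Nat.card T ≤ 243 := by
    refine le_trans ?_ hS
    rw [← Nat.card_coe_set_eq]
    refine Nat.card_le_card_of_injective (fun x : T => ⟨(x : G), x.2.2, ?_⟩) fun x x' e => Subtype.ext ?_
    · obtain ⟨hxH, hxO⟩ := x.2
      obtain ⟨j, hj⟩ := F.Oa_comm ((Oc F.a).inv_mem ho) hxO
      have hyx : y * (x : G) * y⁻¹ = F.a ^ j * x := by
        have e := conj_of_comm (hHy x hxH).symm
        rw [← hj]
        conv_rhs => rw [← e]
        group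
      obtain ⟨f', i0, hi0, he, hiz⟩ := F.Oa_decomp hxO
      have hcy : Commute y (F.a ^ f') := hya.pow_right f'
      have hi' : y * i0 * y⁻¹ = F.a ^ j * i0 := by
        rw [he, show y * (F.a ^ f' * i0) * y⁻¹ = y * F.a ^ f' * y⁻¹ * (y * i0 * y⁻¹) by group, conj_of_comm hcy,
          ← mul_assoc (F.a ^ j), ((Commute.refl F.a).pow_pow j f').eq, mul_assoc (F.a ^ f') (F.a ^ j), mul_right_inj] at hyx
        exact hyx
      have hz' : D.z * (y * i0 * y⁻¹) * D.z⁻¹ = (y * i0 * y⁻¹)⁻¹ := by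
        rw [show D.z * (y * i0 * y⁻¹) * D.z⁻¹ = (D.z * y) * i0 * (D.z * y)⁻¹ by group, hyz.symm.eq,
          show y * D.z * i0 * (y * D.z)⁻¹ = y * (D.z * i0 * D.z⁻¹) * y⁻¹ by group, hiz]
        group
      have haj : Commute (F.a ^ j) i0 := ((Oc_comm hi0).pow_right j).symm
      rw [hi', show D.z * (F.a ^ j * i0) * D.z⁻¹ = (D.z * F.a ^ j * D.z⁻¹) * (D.z * i0 * D.z⁻¹) by group,
        F.z_conj_a_pow, hiz, mul_inv_rev, haj.inv_right.eq, mul_right_inj] at hz'
      have h1 : F.a ^ j = 1 := eq_one_of_sq ((Cov.odd_of_cube F.a3).of_dvd_nat (orderOf_pow_dvd j))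
        (by rw [mul_eq_one_iff_eq_inv]; exact hz')
      rw [h1, one_mul] at hyx
      exact (comm_of_conj_eq hyx).symm
    · exact congrArg (fun t : {x | x ∈ Oc F.a ∧ Commute x y} => (t : G)) e
  have h3 := Nat.card_le_card_of_injective f hf
  rw [Nat.card_prod, Nat.card_prod, Nat.card_fin] at h3
  have := Nat.mul_le_mul hKle hT
  omega

/-- A transported three-cycle commuting with `a` bounds the odd core. -/
theorem no_three {e : G} (hez : Commute e D.z) (he3 : e * e * e = 1) (hec : (D.pm e).IsThreeCycle)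
    (heab : Commute e (F.a * F.b)) (heu : F.u * e * F.u⁻¹ = e⁻¹) (hea : Commute (F.h * e * F.h⁻¹) F.a) :
    Nat.card (Oc F.a) ≤ 6561 := by
  obtain ⟨k₀, hk₀, hk₀e⟩ := F.conj_a hez (Cov.odd_of_cube he3) hec
  set e' := F.h * e * F.h⁻¹ with he'
  have he'z : D.z * e' * D.z⁻¹ = e'⁻¹ := by
    rw [he', ← F.hu, show F.h * F.u * F.h⁻¹ * (F.h * e * F.h⁻¹) * (F.h * F.u * F.h⁻¹)⁻¹ =
      F.h * (F.u * e * F.u⁻¹) * F.h⁻¹ by group, heu]
    group
  have he'O : e' ∈ Oc F.a := F.inv_mem_Oa hea he'z (Cov.odd_of_cube (cube_conj he3))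
  set S : Subgroup G := Oc F.a ⊓ Subgroup.centralizer {e'} with hS
  have memS : ∀ x, x ∈ S ↔ x ∈ Oc F.a ∧ Commute x e' := fun x => by
    rw [hS, Subgroup.mem_inf, Subgroup.mem_centralizer_singleton_iff]; exact Iff.rfl
  -- first, the commutator map with `e'`
  have h3S : Nat.card (Oc F.a) ≤ 3 * Nat.card S := by
    classical
    have hn : ∀ q : Oc F.a, ∃ n : Fin 3, (q : G) * e' * (q : G)⁻¹ * e'⁻¹ = F.a ^ (n : ℕ) := fun q => by
      obtain ⟨n, hn⟩ := F.Oa_comm q.2 he'O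
      exact ⟨⟨n % 3, Nat.mod_lt _ (by norm_num)⟩, by rw [hn]; exact pow_mod_three F.a3 n⟩
    choose nf hnf using hn
    let rep : Fin 3 → Oc F.a := fun i => if h : ∃ q, nf q = i then h.choose else 1
    have hr : ∀ q, (rep (nf q) : G)⁻¹ * q ∈ S := fun q => by
      have hex : ∃ q', nf q' = nf q := ⟨q, rfl⟩
      have h1 : nf (rep (nf q)) = nf q := by simp only [rep, dif_pos hex]; exact hex.choose_spec
      refine (memS _).2 ⟨(Oc F.a).mul_mem ((Oc F.a).inv_mem (rep (nf q)).2) q.2, ?_⟩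
      have e1 := hnf q
      rw [← h1, ← hnf (rep (nf q)), mul_left_inj] at e1
      refine comm_of_conj_eq ?_
      rw [show (rep (nf q) : G)⁻¹ * q * e' * ((rep (nf q) : G)⁻¹ * q)⁻¹ =
        (rep (nf q) : G)⁻¹ * ((q : G) * e' * (q : G)⁻¹) * (rep (nf q) : G) by group, e1]
      group
    have hf : Function.Injective (fun q : Oc F.a => (nf q, (⟨_, hr q⟩ : S))) := by
      intro q q' e
      simp only [Prod.mk.injEq] at e
      obtain ⟨e1, e2⟩ := e
      have e2' := congrArg Subtype.val e2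
      simp only [e1, mul_right_inj] at e2'
      exact Subtype.ext e2'
    have := Nat.card_le_card_of_injective _ hf
    rwa [Nat.card_prod, Nat.card_fin] at this
  set g := F.h * k₀ with hg
  have hga : g * F.a * g⁻¹ = e' := by
    rw [he', ← hk₀e, hg]; group
  set a₀ := g⁻¹ * F.a * g with ha₀
  have ha₀a : Commute a₀ F.a := by
    have := (comm_conj_iff (g := g⁻¹)).2 hea.symm
    rwa [← hga, inv_inv, show g⁻¹ * (g * F.a * g⁻¹) * g = F.a by group] at this
  have ha₀3 : a₀ * a₀ * a₀ = 1 := by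
    have := cube_conj (g := g⁻¹) F.a3
    rwa [inv_inv] at this
  -- decompose
  set w := (D.z * a₀ * D.z⁻¹ * a₀⁻¹)⁻¹ with hwdef
  have hwO : w ∈ Oc F.a := (Oc F.a).inv_mem (F.zstar_a ha₀a)
  have hwi : D.z * w * D.z⁻¹ = w⁻¹ := by
    calc D.z * w * D.z⁻¹ = (D.z * a₀ * D.z⁻¹) * ((D.z * D.z) * a₀ * (D.z * D.z)⁻¹)⁻¹ := by rw [hwdef]; group
      _ = w⁻¹ := by rw [D.zz, hwdef]; group
  have hri := rt_conj_inv hwi
  have hrs := rt_mul_rt (Oc_orderOf hwO)
  set o := rt w with ho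
  have hoO : o ∈ Oc F.a := rt_mem hwO
  set y := o⁻¹ * a₀ with hy
  have hoy : o * y = a₀ := by rw [hy, mul_inv_cancel_left]
  have hyz : Commute y D.z := by
    refine (mul_inv_eq_iff_eq_mul.1 ?_ : D.z * y = y * D.z).symm
    calc D.z * y * D.z⁻¹ = (D.z * o * D.z⁻¹)⁻¹ * (D.z * a₀ * D.z⁻¹) := by rw [hy]; group
      _ = o * (w⁻¹ * a₀) := by rw [hri, inv_inv, hwdef]; group
      _ = y := by rw [← hrs, hy]; group
  have hya : Commute y F.a := (Oc_comm hoO).inv_left.mul_left ha₀a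
  have hyo : Odd (orderOf y) := by
    refine odd_orderOf_of_mem (sup_Oc_odd F.a (Subgroup.zpowers a₀) ?_ ?_)
      (Subgroup.mul_mem _ (Subgroup.mem_sup_right ((Oc F.a).inv_mem hoO)) (Subgroup.mem_sup_left (Subgroup.mem_zpowers _)))
    · rintro _ ⟨k, rfl⟩
      exact ha₀a.zpow_left k
    · rw [Nat.card_zpowers]; exact Cov.odd_of_cube ha₀3
  have hy3 : y * y * y = 1 := by
    have hmem : y * y * y ∈ Oc F.a := by
      have e : y * y * y = (o * (y * o * y⁻¹) * (y * y * o * (y * y)⁻¹))⁻¹ * (o * y * (o * y) * (o * y)) := by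
        rw [eq_inv_mul_iff_mul_eq]
        simp only [mul_assoc, mul_inv_rev, inv_mul_cancel_left]
      rw [e, hoy, ha₀3, mul_one]
      exact (Oc F.a).inv_mem ((Oc F.a).mul_mem ((Oc F.a).mul_mem hoO (Oc_normal hya hoO))
        (Oc_normal (hya.mul_left hya) hoO))
    obtain ⟨n, hn⟩ := F.Oa_cent hmem ((hyz.mul_left hyz).mul_left hyz)
    have hσc : Commute (D.pm y) (P9.pa m) := by rw [← F.pma]; exact D.comm_pm hyz F.az hya
    obtain ⟨i, hi⟩ := F.split_a hσc
    have hp := congrArg D.pm hn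
    rw [D.pm_mul (D.comm_mul hyz hyz) hyz, D.pm_mul hyz hyz, D.pm_pow F.az, F.pma] at hp
    have h0 : P9.pa m 0 ≠ 0 := by rcases F.hm with rfl | rfl <;> decide +kernel
    have hp0 := congrArg (fun π : Perm (Fin (m + 9)) => π 0) hp
    change (D.pm y * D.pm y * D.pm y) 0 = (P9.pa m ^ n) 0 at hp0
    have e3 : (D.pm y * D.pm y * D.pm y) 0 = 0 := by
      rw [Perm.mul_apply, Perm.mul_apply, hi 0 h0, apply_comm (hσc.pow_right i),
        apply_comm (hσc.pow_right i), hi 0 h0, apply_comm (hσc.pow_right i), hi 0 h0, ← Perm.mul_apply,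
        ← Perm.mul_apply, ← pow_add, ← pow_add, pow_mod_three (P9.pa3 F.hm),
        show (i + i + i) % 3 = 0 by omega, pow_zero, Perm.one_apply]
    rw [e3] at hp0
    rw [hn, pow_mod_three F.a3, F.pa_pow_apply n 0 h0 hp0.symm, pow_zero]
  have hne : ∀ i : ℕ, D.pm y ≠ P9.pa m ^ i := by
    intro i hi
    have hyi : y = F.a ^ i := D.odd_ext (F.az.pow_left i) hyz
      ((Cov.odd_of_cube F.a3).of_dvd_nat (orderOf_pow_dvd i)) hyo (by rw [D.pm_pow F.az, F.pma, hi])
    have ha0O : a₀ ∈ Oc F.a := by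
      rw [← hoy, hyi]
      exact (Oc F.a).mul_mem hoO ((Oc F.a).pow_mem (self_mem_Oc (Cov.odd_of_cube F.a3)) i)
    have haE : F.a ∈ Oc e' := by
      have := Oc_conj g ha0O
      rwa [hga, ha₀, show g * (g⁻¹ * F.a * g) * g⁻¹ = F.a by group] at this
    have hue : Commute F.u e' := (F.comm_h_z.2 hez).symm
    have hbE : F.b ∈ Oc e' := by rw [← F.ua]; exact Oc_normal hue haE
    have habE := Oc_conj F.h⁻¹ ((Oc e').mul_mem haE hbE)
    rw [he', show F.h⁻¹ * (F.h * e * F.h⁻¹) * F.h⁻¹⁻¹ = e by group, inv_inv] at habE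
    have habe : F.a * F.b ∈ Oc e := by
      rcases F.hab with h | h
      · rwa [show F.h⁻¹ * (F.a * F.b) * F.h = F.a * F.b by
          conv_lhs => rw [← h]
          group] at habE
      · have h2 : F.h * (F.a * F.b)⁻¹ * F.h⁻¹ = F.a * F.b := by rw [← conj_inv, h, inv_inv]
        rw [show F.h⁻¹ * (F.a * F.b) * F.h = (F.a * F.b)⁻¹ from
          calc F.h⁻¹ * (F.a * F.b) * F.h = F.h⁻¹ * (F.h * (F.a * F.b)⁻¹ * F.h⁻¹) * F.h := by rw [h2]
            _ = (F.a * F.b)⁻¹ := by group] at habE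
        simpa using (Oc e).inv_mem habE
    obtain ⟨n, hn⟩ := F.Oc_cent hk₀ hk₀e habe F.abz
    have hp := congrArg D.pm hn
    rw [F.pmab, D.pm_pow hez] at hp
    have h1 := Finset.card_le_card (Perm.support_pow_le (D.pm e) n)
    rw [← hp, hec.card_support] at h1
    have h6 : (P9.pa m * P9.pb m).support.card = 6 := by rcases F.hm with rfl | rfl <;> decide +kernel
    omega
  set H := S.map (MulAut.conj g⁻¹).toMonoidHom with hH
  have hHc : Nat.card H = Nat.card S := Subgroup.card_map_of_injective (MulAut.conj g⁻¹).injective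
  have h1 : ∀ x ∈ H, Commute x F.a := by
    rintro _ ⟨x, hx, rfl⟩
    show Commute (g⁻¹ * x * g⁻¹⁻¹) F.a
    have := (comm_conj_iff (g := g⁻¹)).2 ((memS x).1 hx).2
    rwa [← hga, show g⁻¹ * (g * F.a * g⁻¹) * g⁻¹⁻¹ = F.a by group] at this
  have h2 : ∀ x ∈ H, Commute x (o * y) := by
    rintro _ ⟨x, hx, rfl⟩
    show Commute (g⁻¹ * x * g⁻¹⁻¹) (o * y)
    have := (comm_conj_iff (g := g⁻¹)).2 (Oc_comm ((memS x).1 hx).1)
    rwa [show g⁻¹ * F.a * g⁻¹⁻¹ = o * y by rw [hoy, inv_inv]] at this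
  have hb := F.card_cent_pair H (hHc ▸ (Oc_odd F.a).of_dvd_nat (Subgroup.card_dvd_of_le inf_le_left)) h1 hoO h2 hyz hya
    hy3 hne
  omega

/-! ### The lower bound -/

/-- Two conjugates generating the double cover intersect the core in `⟨a⟩`. -/
theorem square_le {y k W : G} (hk : Commute k D.z) (hka : Commute k F.a) (hW : Commute W D.z)
    (hd : IsDouble (D.pm W)) (hWmem : W ∈ Subgroup.closure ({y, k * y * k⁻¹} : Set G)) :
    {x | x ∈ Oc F.a ∧ Commute x y}.ncard * {x | x ∈ Oc F.a ∧ Commute x y}.ncard ≤ 3 * Nat.card (Oc F.a) := by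
  classical
  set A : Subgroup G := Oc F.a ⊓ Subgroup.centralizer {y} with hA
  set B : Subgroup G := Oc F.a ⊓ Subgroup.centralizer {k * y * k⁻¹} with hB
  have memA : ∀ x, x ∈ A ↔ x ∈ Oc F.a ∧ Commute x y := fun x => by
    rw [hA, Subgroup.mem_inf, Subgroup.mem_centralizer_singleton_iff]; exact Iff.rfl
  have memB : ∀ x, x ∈ B ↔ x ∈ Oc F.a ∧ Commute x (k * y * k⁻¹) := fun x => by
    rw [hB, Subgroup.mem_inf, Subgroup.mem_centralizer_singleton_iff]; exact Iff.rfl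
  have hAn : {x | x ∈ Oc F.a ∧ Commute x y}.ncard = Nat.card A := by
    rw [← Nat.card_coe_set_eq]
    exact Nat.card_congr (Equiv.setCongr (Set.ext fun x => (memA x).symm))
  have hAB : Nat.card A = Nat.card B := by
    refine Nat.card_congr (Equiv.subtypeEquiv (MulAut.conj k).toEquiv fun x => ?_)
    show x ∈ A ↔ k * x * k⁻¹ ∈ B
    rw [memA, memB, comm_conj_iff]
    refine and_congr_left fun _ => ⟨Oc_normal hka, fun h => ?_⟩
    have := Oc_normal hka.inv_left h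
    rwa [inv_inv, show k⁻¹ * (k * x * k⁻¹) * k = x by group] at this
  have hI : Nat.card (A ⊓ B : Subgroup G) ≤ 3 := by
    have hle : (A ⊓ B : Subgroup G) ≤ Subgroup.zpowers F.a := fun x hx => by
      have hxW : Commute x W := by
        refine Subgroup.closure_induction (p := fun w _ => Commute x w) ?_ (Commute.one_right _)
          (fun _ _ _ _ h1 h2 => h1.mul_right h2) (fun _ _ h => h.inv_right) hWmem
        rintro w (rfl | rfl)
        · exact ((memA x).1 hx.1).2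
        · exact ((memB x).1 hx.2).2
      obtain ⟨n, rfl⟩ := F.Oa_cent ((memA x).1 hx.1).1 (by rw [← D.sq_eq_z hW hd]; exact hxW.mul_right hxW)
      exact ⟨n, zpow_natCast _ n⟩
    refine (Subgroup.card_le_of_le hle).trans ?_
    rw [Nat.card_zpowers]
    exact Nat.le_of_dvd (by norm_num) (orderOf_dvd_of_pow_eq_one (by rw [pow_succ, pow_two, F.a3]))
  let val : A × B → Oc F.a := fun p => ⟨(p.1 : G) * p.2, (Oc F.a).mul_mem ((memA _).1 p.1.2).1 ((memB _).1 p.2.2).1⟩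
  let rep : Oc F.a → A × B := fun v => if h : ∃ p, val p = v then h.choose else (1, 1)
  have hv : ∀ p, (val (rep (val p)) : G) = val p := fun p => by
    have hex : ∃ q, val q = val p := ⟨p, rfl⟩
    simp only [rep, dif_pos hex]
    rw [hex.choose_spec]
  have hin : ∀ p : A × B, ((rep (val p)).1 : G)⁻¹ * p.1 ∈ A ⊓ B := fun p => by
    refine ⟨A.mul_mem (A.inv_mem (rep (val p)).1.2) p.1.2, ?_⟩
    have e := hv p
    simp only [val] at e
    rw [show ((rep (val p)).1 : G)⁻¹ * p.1 = ((rep (val p)).2 : G) * (p.2 : G)⁻¹ by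
      rw [inv_mul_eq_iff_eq_mul, ← mul_assoc, eq_mul_inv_iff_mul_eq]; exact e.symm]
    exact B.mul_mem (rep (val p)).2.2 (B.inv_mem p.2.2)
  have hf : Function.Injective (fun p : A × B => (val p, (⟨_, hin p⟩ : (A ⊓ B : Subgroup G)))) := by
    rintro ⟨p1, p2⟩ ⟨q1, q2⟩ e
    simp only [Prod.mk.injEq] at e
    obtain ⟨e1, e2⟩ := e
    have e2' := congrArg Subtype.val e2
    simp only [e1, mul_right_inj] at e2'
    have h1 : p1 = q1 := Subtype.ext e2'
    subst h1
    have e1' : (p1 : G) * p2 = p1 * q2 := congrArg Subtype.val e1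
    rw [Subtype.ext (mul_left_cancel e1')]
  have := Nat.card_le_card_of_injective _ hf
  rw [Nat.card_prod, Nat.card_prod, ← hAB] at this
  rw [hAn]
  have h3 := Nat.mul_le_mul_left (Nat.card (Oc F.a)) hI
  omega

theorem square_le_b : {x | x ∈ Oc F.a ∧ Commute x F.b}.ncard * {x | x ∈ Oc F.a ∧ Commute x F.b}.ncard ≤
    3 * Nat.card (Oc F.a) := by
  obtain ⟨k, hk, hkp⟩ := D.exists_lift (σ := (swap 5 6 * swap 7 8 : Perm (Fin (m + 9))))
    (by rcases F.hm with rfl | rfl <;> decide +kernel)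
  have hka : Commute k F.a := D.odd_comm hk F.az (Cov.odd_of_cube F.a3) (by
    rw [hkp, F.pma]; show _ = _; rcases F.hm with rfl | rfl <;> decide +kernel)
  refine F.square_le hk hka (W := F.b * (k * F.b * k⁻¹)) (F.bz.mul_left (D.comm_conj hk F.bz)) ?_
    (Subgroup.mul_mem _ (Subgroup.subset_closure (Set.mem_insert _ _))
      (Subgroup.subset_closure (Set.mem_insert_of_mem _ rfl)))
  rw [D.pm_mul F.bz (D.comm_conj hk F.bz), D.pm_conj hk F.bz, hkp, F.pmb]
  refine ⟨3, 5, 4, 6, ?_, ?_⟩ <;> rcases F.hm with rfl | rfl <;> decide +kernel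

theorem square_le_bc : {x | x ∈ Oc F.a ∧ Commute x (F.b * F.c)}.ncard *
    {x | x ∈ Oc F.a ∧ Commute x (F.b * F.c)}.ncard ≤ 3 * Nat.card (Oc F.a) := by
  obtain ⟨k, hk, hkp⟩ := D.exists_lift (σ := (swap 4 6 * swap 5 8 : Perm (Fin (m + 9))))
    (by rcases F.hm with rfl | rfl <;> decide +kernel)
  have hka : Commute k F.a := D.odd_comm hk F.az (Cov.odd_of_cube F.a3) (by
    rw [hkp, F.pma]; show _ = _; rcases F.hm with rfl | rfl <;> decide +kernel)
  have hbc := F.bz.mul_left F.cz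
  refine F.square_le hk hka (W := F.b * F.c * (k * (F.b * F.c) * k⁻¹)) (hbc.mul_left (D.comm_conj hk hbc)) ?_
    (Subgroup.mul_mem _ (Subgroup.subset_closure (Set.mem_insert _ _))
      (Subgroup.subset_closure (Set.mem_insert_of_mem _ rfl)))
  rw [D.pm_mul hbc (D.comm_conj hk hbc), D.pm_conj hk hbc, hkp, D.pm_mul F.bz F.cz, F.pmb, F.pmc]
  refine ⟨3, 7, 4, 8, ?_, ?_⟩ <;> rcases F.hm with rfl | rfl <;> decide +kernel

set_option maxHeartbeats 600000 in
/-- The inverted group centralized by `u` does not have order nine. -/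
theorem card_Ju_ne_nine : Nat.card F.Ju ≠ 9 := by
  intro h9
  -- a three-cycle in the transported group
  have hT : ∀ j : F.Ju, ∃ e, e = F.h⁻¹ * (j : G) * F.h ∧ Commute e D.z ∧ Commute e (F.a * F.b) ∧
      F.u * e * F.u⁻¹ = e⁻¹ := by
    rintro ⟨j, hj⟩
    obtain ⟨hjJ, hju⟩ := F.mem_Ju.1 hj
    have e0 : F.h * (F.h⁻¹ * j * F.h) * F.h⁻¹ = j := by group
    refine ⟨_, rfl, F.comm_h_z.1 (by rw [e0]; exact hju), F.comm_h_ab.1 (by rw [e0]; exact hjJ.1.mul_right hjJ.2.1), ?_⟩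
    have hz := hjJ.2.2.1
    rw [← F.hu] at hz
    calc F.u * (F.h⁻¹ * j * F.h) * F.u⁻¹ = F.h⁻¹ * (F.h * F.u * F.h⁻¹ * j * (F.h * F.u * F.h⁻¹)⁻¹) * F.h := by group
      _ = (F.h⁻¹ * j * F.h)⁻¹ := by rw [hz]; group
  choose ef hef hez heab heu using hT
  -- two of them agree at `0`
  have hab0 : ∀ j, (P9.pa m * P9.pb m) (D.pm (ef j) 0) ≠ D.pm (ef j) 0 := fun j h => by
    have hc : Commute (D.pm (ef j)) (P9.pa m * P9.pb m) := by rw [← F.pmab]; exact D.comm_pm (hez j) F.abz (heab j)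
    rw [← apply_comm hc, (D.pm (ef j)).injective.eq_iff] at h
    revert h
    rcases F.hm with rfl | rfl <;> decide +kernel
  have hlt : Nat.card {p : Fin (m + 9) // (P9.pa m * P9.pb m) p ≠ p} < Nat.card F.Ju := by
    rw [h9, Nat.card_eq_fintype_card]
    rcases F.hm with rfl | rfl <;> decide +kernel
  obtain ⟨j1, j2, he, hne⟩ : ∃ j1 j2 : F.Ju, D.pm (ef j1) 0 = D.pm (ef j2) 0 ∧ j1 ≠ j2 := by
    by_contra hall
    push Not at hall
    refine absurd hlt (not_lt.2 (Nat.card_le_card_of_injective (fun j => (⟨_, hab0 j⟩ :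
      {p : Fin (m + 9) // (P9.pa m * P9.pb m) p ≠ p})) fun a b e => hall a b (congrArg Subtype.val e)))
  set j := j1⁻¹ * j2 with hj
  have hj1 : j ≠ 1 := fun h => hne (inv_mul_eq_one.1 h)
  set e := ef j with hedef
  have hee : e = (ef j1)⁻¹ * ef j2 := by
    rw [hedef, hef, hef, hef, hj, Subgroup.coe_mul, Subgroup.coe_inv]; group
  set σ := D.pm e with hσ
  have hσ0 : σ 0 = 0 := by
    rw [hσ, hee, D.pm_mul (hez j1).inv_left (hez j2), D.pm_inv (hez j1), Perm.mul_apply, ← he, Perm.inv_def,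
      Equiv.symm_apply_apply]
  have hσab : Commute σ (P9.pa m * P9.pb m) := by rw [← F.pmab]; exact D.comm_pm (hez j) F.abz (heab j)
  have hσu : P9.pu m * σ * (P9.pu m)⁻¹ = σ⁻¹ := by
    rw [← F.pmu, hσ, ← D.pm_conj F.uz (hez j), heu, D.pm_inv (hez j)]
  have hσ3' : σ 3 = 3 := by
    have h := congrArg (fun π : Perm (Fin (m + 9)) => π 3) hσu
    have e1 : P9.pu m 0 = 3 := by rcases F.hm with rfl | rfl <;> decide +kernel
    have e2 : (P9.pu m)⁻¹ 3 = 0 := by rw [Perm.inv_eq_iff_eq, e1]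
    simp only [Perm.mul_apply, e2, hσ0, e1] at h
    rw [eq_comm, Perm.inv_eq_iff_eq] at h
    exact h.symm
  have hfix : ∀ p, (P9.pa m * P9.pb m) p ≠ p → σ p = p := by
    intro p hp
    have e : p = 0 ∨ p = (P9.pa m * P9.pb m) 0 ∨ p = (P9.pa m * P9.pb m) ((P9.pa m * P9.pb m) 0) ∨
        p = 3 ∨ p = (P9.pa m * P9.pb m) 3 ∨ p = (P9.pa m * P9.pb m) ((P9.pa m * P9.pb m) 3) := by
      revert hp; revert p
      rcases F.hm with rfl | rfl <;> decide +kernel
    rcases e with e | e | e | e | e | e <;> rw [e]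
    · exact hσ0
    · rw [apply_comm hσab, hσ0]
    · rw [apply_comm hσab, apply_comm hσab, hσ0]
    · exact hσ3'
    · rw [apply_comm hσab, hσ3']
    · rw [apply_comm hσab, apply_comm hσab, hσ3']
  have hsupp : σ.support.card ≤ 4 := by
    refine (card_support_le_fixed hfix).trans ?_
    rcases F.hm with rfl | rfl <;> decide +kernel
  have hjo : orderOf (j : G) ∣ 9 := by rw [← h9]; exact Subgroup.orderOf_dvd_natCard _ j.2
  have heo : orderOf e ∣ 9 := by
    rw [hedef, hef]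
    have := Cov.orderOf_conj F.h⁻¹ (j : G)
    rw [inv_inv] at this
    rwa [this]
  have hσ9 : σ ^ 9 = 1 := by
    rw [hσ, ← D.pm_pow (hez j), orderOf_dvd_iff_pow_eq_one.1 heo, D.pm_one]
  have hσ3 : σ * σ * σ = 1 := by
    have hall : ∀ l ∈ σ.cycleType, l = 3 := by
      intro l hl
      have h1 : l ∣ 9 := (Perm.dvd_of_mem_cycleType hl).trans (orderOf_dvd_of_pow_eq_one hσ9)
      have h2 : l ≤ 4 := le_trans ((Multiset.le_sum_of_mem hl).trans (Perm.sum_cycleType σ).le) hsupp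
      have h3 := Perm.two_le_of_mem_cycleType hl
      have h4 : ∀ k, k ≤ 4 → 2 ≤ k → k ∣ 9 → k = 3 := by decide +kernel
      exact h4 l h2 h3 h1
    have : orderOf σ ∣ 3 := by
      rw [← Perm.lcm_cycleType, Multiset.lcm_dvd]
      intro l hl
      rw [hall l hl]
    rw [← pow_two, ← pow_succ]
    exact orderOf_dvd_iff_pow_eq_one.1 this
  have heodd : Odd (orderOf e) := Odd.of_dvd_nat (by decide) heo
  have hσ1 : σ ≠ 1 := fun h => by
    have h' : e = 1 := D.odd_one (hez j) heodd h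
    rw [hedef, hef] at h'
    refine hj1 (Subtype.ext ?_)
    calc (j : G) = F.h * (F.h⁻¹ * (j : G) * F.h) * F.h⁻¹ := by group
      _ = 1 := by rw [h']; group
  have he3 : e * e * e = 1 := by
    refine D.odd_one ((hez j).mul_left (hez j) |>.mul_left (hez j)) ?_ ?_
    · rw [← pow_two, ← pow_succ]
      exact heodd.of_dvd_nat (orderOf_pow_dvd _)
    · rw [D.pm_mul ((hez j).mul_left (hez j)) (hez j), D.pm_mul (hez j) (hez j)]
      exact hσ3
  have hbound := F.no_three (hez j) he3 (isThreeCycle_of_small hσ3 hσ1 (hsupp.trans (by norm_num))) (heab j) (heu j) (by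
    rw [hef, show F.h * (F.h⁻¹ * (j : G) * F.h) * F.h⁻¹ = (j : G) by group]
    exact (F.mem_Ju.1 j.2).1.1)
  -- but the lower bound is larger
  have hlow : 3 * Nat.card F.J ≤ {x | x ∈ Oc F.a ∧ Commute x F.b}.ncard := by
    have hf : Function.Injective (fun p : Fin 3 × F.J => (⟨F.a ^ (p.1 : ℕ) * (p.2 : G),
        (Oc F.a).mul_mem ((Oc F.a).pow_mem (self_mem_Oc (Cov.odd_of_cube F.a3)) _)
          (F.inv_mem_Oa p.2.2.1 p.2.2.2.2.1 p.2.2.2.2.2),
        (F.ab.pow_left _).mul_left p.2.2.2.1⟩ : {x | x ∈ Oc F.a ∧ Commute x F.b})) := by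
      rintro ⟨i, x, hx⟩ ⟨i', x', hx'⟩ h
      have h' : F.a ^ (i : ℕ) * x = F.a ^ (i' : ℕ) * x' := congrArg Subtype.val h
      have hz : D.z * (F.a ^ (i : ℕ) * x) * D.z⁻¹ = D.z * (F.a ^ (i' : ℕ) * x') * D.z⁻¹ := by rw [h']
      rw [show D.z * (F.a ^ (i : ℕ) * x) * D.z⁻¹ = (D.z * F.a ^ (i : ℕ) * D.z⁻¹) * (D.z * x * D.z⁻¹) by group,
        show D.z * (F.a ^ (i' : ℕ) * x') * D.z⁻¹ = (D.z * F.a ^ (i' : ℕ) * D.z⁻¹) * (D.z * x' * D.z⁻¹) by group,
        F.z_conj_a_pow, F.z_conj_a_pow, hx.2.2.1, hx'.2.2.1] at hz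
      have e1 : (F.a ^ (i' : ℕ))⁻¹ * F.a ^ (i : ℕ) = x' * x⁻¹ := by
        rw [eq_mul_inv_iff_mul_eq, mul_assoc, h', inv_mul_cancel_left]
      have e2 : (F.a ^ (i' : ℕ))⁻¹ * F.a ^ (i : ℕ) = x'⁻¹ * x := by
        rw [inv_mul_eq_iff_eq_mul, ← mul_assoc, ← hz, mul_assoc, inv_mul_cancel, mul_one]
      have e3 := e1.symm.trans e2
      rw [eq_inv_mul_iff_mul_eq, ← mul_assoc, mul_inv_eq_iff_eq_mul] at e3
      have hxx : x' = x := sq_inj hx'.2.2.2 hx.2.2.2 e3
      subst hxx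
      have h'' := mul_right_cancel h'
      rw [pow_inj_mod, orderOf_eq_three F.a3 (fun h => by
        have := F.pma; rw [h, D.pm_one] at this; revert this; rcases F.hm with rfl | rfl <;> decide +kernel),
        Nat.mod_eq_of_lt i.2, Nat.mod_eq_of_lt i'.2] at h''
      rw [Fin.ext h'']
    have := Nat.card_le_card_of_injective _ hf
    rwa [Nat.card_prod, Nat.card_fin, Nat.card_coe_set_eq] at this
  rw [F.card_J, h9] at hlow
  have hsq := F.square_le_b
  have := Nat.mul_le_mul hlow hlow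
  omega

end Frame

end Cfsg.Lib.DoubleCoverAlt
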