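import Mathlib
import Cfsg.Agent.DoubleCoverAlt.JSub
import Cfsg.Agent.SmithTyrer.Finish

/-!
# No inverted elements: the Sylow subgroup of the centralizer of `ab` would be normal
-/

set_option autoImplicit false
set_option linter.unusedSectionVars false
set_option linter.unusedSimpArgs false
set_option linter.style.haveILetI false

namespace Cfsg.Lib.DoubleCoverAlt

open Equiv

universe u

variable {G : Type u} [Group G] [Finite G]

namespace Frame

variable {m : ℕ} {D : Cov G (m + 9)} (F : Frame D)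
include F

/-- Products of powers of the three lifts. -/
def T0 : Subgroup G where
  carrier := {x | ∃ i j k : ℕ, x = F.a ^ i * F.b ^ j * F.c ^ k}
  one_mem' := ⟨0, 0, 0, by simp⟩
  mul_mem' := by
    rintro _ _ ⟨i, j, k, rfl⟩ ⟨i', j', k', rfl⟩
    refine ⟨i + i', j + j', k + k', ?_⟩
    rw [pow_add, pow_add, pow_add]
    have h1 : Commute (F.c ^ k) (F.a ^ i' * F.b ^ j') := (F.ac.symm.pow_pow k i').mul_right (F.bc.symm.pow_pow k j')
    have h2 : Commute (F.b ^ j) (F.a ^ i') := F.ab.symm.pow_pow j i'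
    calc F.a ^ i * F.b ^ j * F.c ^ k * (F.a ^ i' * F.b ^ j' * F.c ^ k')
        = F.a ^ i * F.b ^ j * (F.c ^ k * (F.a ^ i' * F.b ^ j')) * F.c ^ k' := by simp only [mul_assoc]
      _ = F.a ^ i * (F.b ^ j * F.a ^ i') * F.b ^ j' * (F.c ^ k * F.c ^ k') := by
        rw [h1.eq]; simp only [mul_assoc]
      _ = _ := by rw [h2.eq]; simp only [mul_assoc]
  inv_mem' := by
    rintro _ ⟨i, j, k, rfl⟩
    refine ⟨2 * i, 2 * j, 2 * k, inv_eq_of_mul_eq_one_right ?_⟩
    have hab : Commute (F.a ^ i * F.b ^ j) (F.c ^ k) := (F.ac.pow_pow i k).mul_left (F.bc.pow_pow j k)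
    have e : ∀ {x : G}, x * x * x = 1 → ∀ r : ℕ, x ^ r * x ^ (2 * r) = 1 := fun {x} hx r => by
      rw [← pow_add, pow_mod_three hx, show (r + 2 * r) % 3 = 0 by omega, pow_zero]
    calc F.a ^ i * F.b ^ j * F.c ^ k * (F.a ^ (2 * i) * F.b ^ (2 * j) * F.c ^ (2 * k))
        = F.a ^ i * F.b ^ j * (F.c ^ k * (F.a ^ (2 * i) * F.b ^ (2 * j))) * F.c ^ (2 * k) := by simp only [mul_assoc]
      _ = F.a ^ i * (F.b ^ j * F.a ^ (2 * i)) * F.b ^ (2 * j) * (F.c ^ k * F.c ^ (2 * k)) := by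
        rw [((F.ac.symm.pow_pow k (2 * i)).mul_right (F.bc.symm.pow_pow k (2 * j))).eq]; simp only [mul_assoc]
      _ = F.a ^ i * F.a ^ (2 * i) * (F.b ^ j * F.b ^ (2 * j)) * (F.c ^ k * F.c ^ (2 * k)) := by
        rw [(F.ab.symm.pow_pow j (2 * i)).eq]; simp only [mul_assoc]
      _ = 1 := by rw [e F.a3, e F.b3, e F.c3, one_mul, one_mul]

theorem a_mem_T0 : F.a ∈ F.T0 := ⟨1, 0, 0, by simp⟩
theorem b_mem_T0 : F.b ∈ F.T0 := ⟨0, 1, 0, by simp⟩
theorem c_mem_T0 : F.c ∈ F.T0 := ⟨0, 0, 1, by simp⟩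

theorem T0_comm {x : G} (hx : x ∈ F.T0) :
    Commute x F.a ∧ Commute x F.b ∧ Commute x F.c ∧ Commute x D.z ∧ Commute x (F.a * F.b) ∧ x * x * x = 1 := by
  obtain ⟨i, j, k, rfl⟩ := hx
  have ha : Commute (F.a ^ i * F.b ^ j * F.c ^ k) F.a :=
    (((Commute.refl F.a).pow_left i).mul_left (F.ab.symm.pow_left j)).mul_left (F.ac.symm.pow_left k)
  have hb : Commute (F.a ^ i * F.b ^ j * F.c ^ k) F.b :=
    ((F.ab.pow_left i).mul_left ((Commute.refl F.b).pow_left j)).mul_left (F.bc.symm.pow_left k)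
  have hab : Commute (F.a ^ i * F.b ^ j) (F.c ^ k) := (F.ac.pow_pow i k).mul_left (F.bc.pow_pow j k)
  have e : ∀ {x : G}, x * x * x = 1 → ∀ r : ℕ, x ^ r * x ^ r * x ^ r = 1 := fun {x} hx r => by
    rw [← pow_add, ← pow_add, pow_mod_three hx, show (r + r + r) % 3 = 0 by omega, pow_zero]
  exact ⟨ha, hb, ((F.ac.pow_left i).mul_left (F.bc.pow_left j)).mul_left ((Commute.refl F.c).pow_left k),
    ((F.az.pow_left i).mul_left (F.bz.pow_left j)).mul_left (F.cz.pow_left k), ha.mul_right hb,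
    cube_mul hab (cube_mul (F.ab.pow_pow i j) (e F.a3 i) (e F.b3 j)) (e F.c3 k)⟩

theorem card_T0 : Nat.card F.T0 = 27 := by
  have hb : Function.Bijective (fun p : Fin 3 × Fin 3 × Fin 3 =>
      (⟨F.a ^ (p.1 : ℕ) * F.b ^ (p.2.1 : ℕ) * F.c ^ (p.2.2 : ℕ), _, _, _, rfl⟩ : F.T0)) := by
    constructor
    · rintro ⟨i, j, k⟩ ⟨i', j', k'⟩ h
      have h' : F.a ^ (i : ℕ) * F.b ^ (j : ℕ) * F.c ^ (k : ℕ) = F.a ^ (i' : ℕ) * F.b ^ (j' : ℕ) * F.c ^ (k' : ℕ) :=
        congrArg Subtype.val h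
      have hp := congrArg D.pm h'
      simp only [D.pm_mul ((F.az.pow_left _).mul_left (F.bz.pow_left _)) (F.cz.pow_left _),
        D.pm_mul (F.az.pow_left _) (F.bz.pow_left _), D.pm_pow F.az, D.pm_pow F.bz, D.pm_pow F.cz, F.pma, F.pmb,
        F.pmc] at hp
      clear h h'
      revert i j k i' j' k'
      rcases F.hm with rfl | rfl <;> decide +kernel
    · rintro ⟨_, i, j, k, rfl⟩
      refine ⟨(⟨i % 3, Nat.mod_lt _ (by norm_num)⟩, ⟨j % 3, Nat.mod_lt _ (by norm_num)⟩,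
        ⟨k % 3, Nat.mod_lt _ (by norm_num)⟩), Subtype.ext ?_⟩
      show F.a ^ (i % 3) * F.b ^ (j % 3) * F.c ^ (k % 3) = _
      rw [← pow_mod_three F.a3, ← pow_mod_three F.b3, ← pow_mod_three F.c3]
  rw [← Nat.card_congr (Equiv.ofBijective _ hb), Nat.card_prod, Nat.card_prod, Nat.card_fin]

theorem comm_z_of_J_bot (hJ : Nat.card F.Ju = 1) {g : G} (ha : Commute g F.a) (hb : Commute g F.b) :
    Commute g D.z := by
  have hw := F.zstar_a ha
  set w := D.z * g * D.z⁻¹ * g⁻¹ with hwdef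
  have hwb : Commute w F.b :=
    ((F.bz.symm.mul_left hb).mul_left F.bz.symm.inv_left).mul_left hb.inv_left
  have hwi : D.z * w * D.z⁻¹ = w⁻¹ := by
    calc D.z * w * D.z⁻¹ = ((D.z * D.z) * g * (D.z * D.z)⁻¹) * (D.z * g * D.z⁻¹)⁻¹ := by rw [hwdef]; group
      _ = w⁻¹ := by rw [D.zz, hwdef]; group
  have hwJ : w ∈ F.J := ⟨Oc_comm hw, hwb, hwi, Oc_orderOf hw⟩
  have hbot : F.J = ⊥ := Subgroup.card_eq_one.1 (by rw [F.card_J, hJ])
  rw [hbot, Subgroup.mem_bot, hwdef, mul_inv_eq_one, mul_inv_eq_iff_eq_mul] at hwJ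
  exact hwJ.symm

theorem cent_T0 (hJ : Nat.card F.Ju = 1) {g : G} (ha : Commute g F.a) (hb : Commute g F.b) (hc : Commute g F.c) :
    g ∈ F.T0 ∨ g * D.z ∈ F.T0 := by
  obtain ⟨i, j, k, e | e⟩ := F.triple_cases (F.comm_z_of_J_bot hJ ha hb) ha hb hc
  · exact Or.inl ⟨i, j, k, e⟩
  · exact Or.inr ⟨i, j, k, by rw [e, mul_assoc, D.zz, mul_one]⟩

/-- A normalizer of `T0` centralizing `ab`, up to `u`, lies in `T0 × ⟨z⟩`. -/
theorem norm_T0 (hJ : Nat.card F.Ju = 1) {g : G} (hg : Commute g (F.a * F.b))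
    (hn : ∀ t ∈ F.T0, g * t * g⁻¹ ∈ F.T0) :
    (g ∈ F.T0 ∨ g * D.z ∈ F.T0) ∨ (F.u * g ∈ F.T0 ∨ F.u * g * D.z ∈ F.T0) := by
  -- it fixes the central involution
  have hzc : ∀ t ∈ F.T0, Commute (g * D.z * g⁻¹) t := fun t ht => by
    have hinv : g⁻¹ * t * g ∈ F.T0 := conj_conj_mem hn ht
    have := (comm_conj_iff (g := g)).2 (F.T0_comm hinv).2.2.2.1.symm
    rwa [show g * (g⁻¹ * t * g) * g⁻¹ = t by group] at this
  have hgz : Commute g D.z := by
    have hsq : g * D.z * g⁻¹ * (g * D.z * g⁻¹) = 1 := by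
      rw [show g * D.z * g⁻¹ * (g * D.z * g⁻¹) = g * (D.z * D.z) * g⁻¹ by group, D.zz, mul_one, mul_inv_cancel]
    rcases F.cent_T0 hJ (hzc _ F.a_mem_T0) (hzc _ F.b_mem_T0) (hzc _ F.c_mem_T0) with h | h
    · have e := eq_one_of_sq (Cov.odd_of_cube (F.T0_comm h).2.2.2.2.2) hsq
      rw [mul_inv_eq_one, mul_eq_left] at e
      exact absurd e D.z1
    · have hc2 : Commute (g * D.z * g⁻¹) D.z := F.comm_z_of_J_bot hJ (hzc _ F.a_mem_T0) (hzc _ F.b_mem_T0)
      have e := eq_one_of_sq (Cov.odd_of_cube (F.T0_comm h).2.2.2.2.2)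
        (by rw [hc2.symm.mul_mul_mul_comm, hsq, D.zz, one_mul])
      rw [mul_eq_one_iff_eq_inv, inv_eq_of_mul_eq_one_right D.zz, mul_inv_eq_iff_eq_mul] at e
      exact e
  set σ := D.pm g with hσ
  have hσab : Commute σ (P9.pa m * P9.pb m) := by rw [← F.pmab]; exact D.comm_pm hgz F.abz hg
  have hfix : ∀ x, P9.pa m x = x → P9.pb m x = x → P9.pc m x = x → σ x = x := by
    intro x h1 h2 h3
    have key : ∀ t ∈ F.T0, D.pm t (σ x) = σ x := fun t ht => by
      obtain ⟨i, j, k, hs⟩ := conj_conj_mem hn ht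
      have hp := congrArg D.pm hs
      rw [D.pm_mul (D.comm_mul hgz.inv_left (F.T0_comm ht).2.2.2.1) hgz, D.pm_mul hgz.inv_left (F.T0_comm ht).2.2.2.1,
        D.pm_inv hgz, D.pm_mul ((F.az.pow_left _).mul_left (F.bz.pow_left _)) (F.cz.pow_left _),
        D.pm_mul (F.az.pow_left _) (F.bz.pow_left _), D.pm_pow F.az, D.pm_pow F.bz, D.pm_pow F.cz, F.pma, F.pmb,
        F.pmc] at hp
      have hx := congrArg (fun π : Perm (Fin (m + 9)) => π x) hp
      simp only [Perm.mul_apply, Equiv.Perm.pow_apply_eq_self_of_apply_eq_self h1,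
        Equiv.Perm.pow_apply_eq_self_of_apply_eq_self h2, Equiv.Perm.pow_apply_eq_self_of_apply_eq_self h3,
        Perm.inv_eq_iff_eq] at hx
      exact hx
    have ka := key _ F.a_mem_T0
    have kb := key _ F.b_mem_T0
    have kc := key _ F.c_mem_T0
    rw [F.pma] at ka; rw [F.pmb] at kb; rw [F.pmc] at kc
    clear key
    revert ka kb kc
    generalize σ x = y
    revert h1 h2 h3
    revert x y
    rcases F.hm with rfl | rfl <;> decide +kernel
  have lift : ∀ w, Commute w D.z → (∀ x, P9.pa m x = x → P9.pb m x = x → P9.pc m x = x → D.pm w x = x) →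
      Commute (D.pm w) (P9.pa m) → Commute (D.pm w) (P9.pb m) → w ∈ F.T0 ∨ w * D.z ∈ F.T0 := fun w hw hwf h1 h2 => by
    have h3 := P9.comm_third F.hm h1 h2 (D.pm_sign hw) hwf
    exact F.cent_T0 hJ (D.odd_comm hw F.az (Cov.odd_of_cube F.a3) (by rwa [F.pma]))
      (D.odd_comm hw F.bz (Cov.odd_of_cube F.b3) (by rwa [F.pmb]))
      (D.odd_comm hw F.cz (Cov.odd_of_cube F.c3) (by rwa [F.pmc]))
  rcases P9.pres_or_swap F.hm hσab with ⟨h1, h2⟩ | ⟨h1, h2⟩
  · exact Or.inl (lift g hgz hfix h1 h2)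
  · have hp : D.pm (F.u * g) = P9.pu m * σ := by rw [D.pm_mul F.uz hgz, F.pmu]
    refine Or.inr (lift (F.u * g) (D.comm_mul F.uz hgz) (fun x k1 k2 k3 => ?_) (hp ▸ h1) (hp ▸ h2))
    rw [hp, Perm.mul_apply, hfix x k1 k2 k3]
    revert k1 k2 k3
    revert x
    rcases F.hm with rfl | rfl <;> decide +kernel

theorem ba_not_mem : ∀ i : ℕ, F.b * F.a⁻¹ ≠ (F.a * F.b) ^ i := by
  intro i h
  rw [pow_mod_three F.ab3] at h
  have hp := congrArg D.pm h
  rw [D.pm_mul F.bz F.az.inv_left, D.pm_inv F.az, D.pm_pow F.abz, F.pmab, F.pma, F.pmb] at hp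
  have hi : i % 3 = 0 ∨ i % 3 = 1 ∨ i % 3 = 2 := by omega
  rcases hi with e | e | e <;> rw [e] at hp <;> (revert hp; rcases F.hm with rfl | rfl <;> decide +kernel)

theorem a_ne_b : F.a ≠ F.b := fun h => F.ba_not_mem 0 (by rw [h, mul_inv_cancel, pow_zero])

/-- A subgroup of three-power order of the centralizer of `ab` containing `T0` equals it. -/
theorem max_T0 (hJ : Nat.card F.Ju = 1) (P : Subgroup G) (hP : IsPGroup 3 P)
    (hPX : ∀ x ∈ P, Commute x (F.a * F.b)) (hle : F.T0 ≤ P) : P = F.T0 := by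
  haveI : Fact (Nat.Prime 3) := ⟨Nat.prime_three⟩
  refine le_antisymm ?_ hle
  haveI := hP.isNilpotent
  by_contra hnot
  have hlt : F.T0.subgroupOf P < ⊤ := by
    rw [lt_top_iff_ne_top]
    exact fun h => hnot (Subgroup.subgroupOf_eq_top.1 h)
  obtain ⟨⟨x, hxP⟩, hxn, hxT⟩ := SetLike.exists_of_lt (Group.normalizerCondition_of_isNilpotent (G := P) _ hlt)
  have hn : ∀ t ∈ F.T0, x * t * x⁻¹ ∈ F.T0 := fun t ht =>
    (Subgroup.mem_normalizer_iff.1 hxn ⟨t, hle ht⟩).1 ht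
  obtain ⟨r, hr⟩ := hP ⟨x, hxP⟩
  have hxo : Odd (orderOf x) := Odd.of_dvd_nat (Odd.pow (by decide : Odd 3) (n := r))
    (orderOf_dvd_of_pow_eq_one (congrArg Subtype.val hr))
  refine hxT ?_
  show x ∈ F.T0
  have hTz : ∀ w, Odd (orderOf w) → w * D.z ∈ F.T0 → w ∈ F.T0 := fun w hwo hw => by
    have hwz : Commute w D.z := by
      have := (F.T0_comm hw).2.2.2.1.mul_left (D.z_comm.inv_left)
      rwa [mul_inv_cancel_right] at this
    have e := D.odd_ext (F.T0_comm hw).2.2.2.1 hwz (Cov.odd_of_cube (F.T0_comm hw).2.2.2.2.2) hwo (D.pm_mul_z hwz)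
    rw [e]; exact hw
  rcases F.norm_T0 hJ (hPX x hxP) hn with (h | h) | h
  · exact h
  · exact hTz x hxo h
  · exfalso
    have hconj : x * F.a * x⁻¹ = F.b ∧ x * F.b * x⁻¹ = F.a := by
      have hc : Commute (F.u * x) F.a ∧ Commute (F.u * x) F.b := by
        rcases h with h | h
        · exact ⟨(F.T0_comm h).1, (F.T0_comm h).2.1⟩
        · have h1 := (F.T0_comm h).1.mul_left F.az.symm.inv_left
          have h2 := (F.T0_comm h).2.1.mul_left F.bz.symm.inv_left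
          rw [mul_inv_cancel_right] at h1 h2
          exact ⟨h1, h2⟩
      constructor
      · rw [show x * F.a * x⁻¹ = F.u⁻¹ * (F.u * x * F.a * (F.u * x)⁻¹) * F.u by group, conj_of_comm hc.1, ← F.ub]
        group
      · rw [show x * F.b * x⁻¹ = F.u⁻¹ * (F.u * x * F.b * (F.u * x)⁻¹) * F.u by group, conj_of_comm hc.2, ← F.ua]
        group
    obtain ⟨k, hk⟩ := hxo
    have h2 : Commute (x * x) F.a := comm_of_conj_eq (by
      rw [show x * x * F.a * (x * x)⁻¹ = x * (x * F.a * x⁻¹) * x⁻¹ by group, hconj.1, hconj.2])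
    have h3 : Commute x F.a := by
      have e : x = (x * x) ^ (k + 1) := by
        rw [← pow_two, ← pow_mul, show 2 * (k + 1) = orderOf x + 1 by omega, pow_succ, pow_orderOf_eq_one, one_mul]
      rw [e]; exact h2.pow_left _
    exact F.a_ne_b ((conj_of_comm h3).symm.trans hconj.1)

set_option maxHeartbeats 800000 in
/-- `J` is not trivial. -/
theorem card_Ju_ne_one : Nat.card F.Ju ≠ 1 := by
  intro hJ
  haveI : Fact (Nat.Prime 3) := ⟨Nat.prime_three⟩
  set X : Subgroup G := Subgroup.centralizer {F.a * F.b} with hX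
  have memX : ∀ x, x ∈ X ↔ Commute x (F.a * F.b) := fun x => Subgroup.mem_centralizer_singleton_iff
  set Z : Subgroup X := Subgroup.zpowers ⟨F.a * F.b, (memX _).2 (Commute.refl _)⟩ with hZ
  haveI : Z.Normal := by
    refine ⟨fun y hy g => ?_⟩
    obtain ⟨k, rfl⟩ := hy
    have : g * (⟨F.a * F.b, (memX _).2 (Commute.refl _)⟩ : X) ^ k * g⁻¹ = (⟨F.a * F.b, (memX _).2 (Commute.refl _)⟩ : X) ^ k :=
      conj_of_comm ((show Commute g ⟨F.a * F.b, (memX _).2 (Commute.refl _)⟩ from Subtype.ext ((memX _).1 g.2).eq).zpow_right k)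
    simp only [this]
    exact ⟨k, rfl⟩
  have memZ : ∀ x : X, x ∈ Z → ∃ i : ℕ, (x : G) = (F.a * F.b) ^ i := fun x hx => by
    rw [hZ, ← mem_powers_iff_mem_zpowers, Submonoid.mem_powers_iff] at hx
    obtain ⟨i, rfl⟩ := hx
    exact ⟨i, rfl⟩
  have hZ3 : Nat.card Z = 3 := by
    rw [hZ, Nat.card_zpowers, Subgroup.orderOf_mk, orderOf_eq_three F.ab3 F.ab_ne_one]
  set π := QuotientGroup.mk' Z with hπ
  have hsurj : Function.Surjective π := QuotientGroup.mk'_surjective Z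
  have hπ1 : ∀ x : X, π x = 1 ↔ x ∈ Z := fun x => QuotientGroup.eq_one_iff x
  have hTle : F.T0 ≤ X := fun t ht => (memX t).2 (F.T0_comm ht).2.2.2.2.1
  set T := F.T0.subgroupOf X with hT
  have hT27 : Nat.card T = 27 := by
    rw [Nat.card_congr (Subgroup.subgroupOfEquivOfLe hTle).toEquiv, F.card_T0]
  have hTp : IsPGroup 3 T := IsPGroup.of_card (n := 3) (by rw [hT27]; norm_num)
  obtain ⟨P₀, hP₀⟩ := hTp.exists_le_sylow
  have hP0 : (P₀ : Subgroup X) = T := by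
    have h := F.max_T0 hJ ((P₀ : Subgroup X).map X.subtype) (P₀.isPGroup'.map _)
      (by rintro _ ⟨w, -, rfl⟩; exact (memX _).1 w.2) (fun t ht => ⟨⟨t, hTle ht⟩, hP₀ ht, rfl⟩)
    refine le_antisymm (fun w hw => ?_) hP₀
    show (w : G) ∈ F.T0
    rw [← h]
    exact ⟨w, hw, rfl⟩
  have hv3 : (Nat.card X).factorization 3 = 3 := by
    have := P₀.card_eq_multiplicity
    rw [hP0, hT27] at this
    exact (Nat.pow_right_injective (le_refl 2 |>.trans (by norm_num : 2 ≤ 3)) (this.symm.trans (by norm_num : 27 = 3 ^ 3)))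
  have hcardX : Nat.card X = Nat.card (X ⧸ Z) * 3 := by rw [Subgroup.card_eq_card_quotient_mul_card_subgroup Z, hZ3]
  have hZT : Z ≤ T := by
    rw [hZ, Subgroup.zpowers_le]
    exact F.T0.mul_mem F.a_mem_T0 F.b_mem_T0
  set Pb := T.map π with hPb
  have hPb9 : Nat.card Pb = 9 := by
    have h := (π.comp T.subtype).ker.card_mul_index
    rw [Subgroup.index_ker, MonoidHom.range_comp, Subgroup.range_subtype, hT27] at h
    have hk : Nat.card (π.comp T.subtype).ker = 3 := by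
      rw [← hZ3]
      refine Nat.card_congr
        { toFun := fun t => ⟨((t : T) : X), (hπ1 _).1 t.2⟩
          invFun := fun w => ⟨⟨(w : X), hZT w.2⟩, (hπ1 _).2 w.2⟩
          left_inv := fun _ => rfl
          right_inv := fun _ => rfl }
    rw [hk] at h
    show Nat.card (Subgroup.map π T) = 9
    omega
  have hvQ : (Nat.card (X ⧸ Z)).factorization 3 = 2 := by
    have := hv3
    rw [hcardX, Nat.factorization_mul Nat.card_pos.ne' (by norm_num), Finsupp.add_apply,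
      Nat.Prime.factorization_self Nat.prime_three] at this
    omega
  set P : Sylow 3 (X ⧸ Z) := Sylow.ofCard Pb (by rw [hvQ, hPb9]; norm_num) with hPdef
  have hPc : (P : Subgroup (X ⧸ Z)) = Pb := Sylow.coe_ofCard _ _
  have memT : ∀ x : X, π x ∈ Pb → x ∈ T := by
    rintro x ⟨t, ht, e⟩
    have : t⁻¹ * x ∈ Z := (hπ1 _).1 (by rw [map_mul, map_inv, e, inv_mul_cancel])
    have := T.mul_mem ht (hZT this)
    rwa [mul_inv_cancel_left] at this
  have huX : F.u ∈ X := (memX _).2 F.u_ab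
  have hzX : D.z ∈ X := (memX _).2 F.abz.symm
  have hbX : F.b * F.a⁻¹ ∈ X := hTle (F.T0.mul_mem F.b_mem_T0 (F.T0.inv_mem F.a_mem_T0))
  have hunorm : ∀ t ∈ F.T0, F.u * t * F.u⁻¹ ∈ F.T0 := by
    rintro _ ⟨i, j, k, rfl⟩
    rw [show F.u * (F.a ^ i * F.b ^ j * F.c ^ k) * F.u⁻¹ =
      (F.u * F.a ^ i * F.u⁻¹) * (F.u * F.b ^ j * F.u⁻¹) * (F.u * F.c ^ k * F.u⁻¹) by group,
      ← conj_pow, ← conj_pow, ← conj_pow, F.ua, F.ub, F.uc]
    exact F.T0.mul_mem (F.T0.mul_mem (F.T0.pow_mem F.b_mem_T0 i) (F.T0.pow_mem F.a_mem_T0 j))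
      (F.T0.pow_mem (F.T0.inv_mem F.c_mem_T0) k)
  set U : X ⧸ Z := π ⟨F.u, huX⟩ with hU
  haveI := Fintype.ofFinite (X ⧸ Z)
  have hsetup : Cfsg.Lib.SmithTyrer.Setup P U := by
    refine ⟨by norm_num, ?_, ?_, ?_, ?_⟩
    · intro x hx y hy
      change x ∈ (P : Subgroup (X ⧸ Z)) at hx
      change y ∈ (P : Subgroup (X ⧸ Z)) at hy
      rw [hPc] at hx hy
      obtain ⟨s, hs, rfl⟩ := hx
      obtain ⟨t, ht, rfl⟩ := hy
      rw [← map_mul, ← map_mul]
      congr 1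
      refine Subtype.ext ?_
      obtain ⟨i, j, k, e⟩ := (show (s : G) ∈ F.T0 from hs)
      have h := F.T0_comm (show (t : G) ∈ F.T0 from ht)
      show (s : G) * (t : G) = (t : G) * (s : G)
      rw [e]
      exact (((h.1.pow_right i).mul_right (h.2.1.pow_right j)).mul_right (h.2.2.1.pow_right k)).symm.eq
    · refine Cfsg.Lib.ZStarApps.mem_normalizer_of_maps fun x hx => ?_
      rw [hPc] at hx ⊢
      obtain ⟨t, ht, rfl⟩ := hx
      rw [hU, ← map_inv, ← map_mul, ← map_mul]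
      exact ⟨_, hunorm (t : G) ht, rfl⟩
    · intro x hx
      change x ∈ (P : Subgroup (X ⧸ Z)) at hx
      rw [hPc] at hx
      obtain ⟨t, ht, rfl⟩ := hx
      rw [← mul_eq_one_iff_eq_inv, hU, ← map_inv, ← map_mul, ← map_mul, ← map_mul, hπ1]
      obtain ⟨i, j, k, e⟩ := (show (t : G) ∈ F.T0 from ht)
      have he : F.u * (t : G) * F.u⁻¹ * (t : G) = (F.a * F.b) ^ (i + j) := by
        rw [e, show F.u * (F.a ^ i * F.b ^ j * F.c ^ k) * F.u⁻¹ =
          (F.u * F.a ^ i * F.u⁻¹) * (F.u * F.b ^ j * F.u⁻¹) * (F.u * F.c ^ k * F.u⁻¹) by group,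
          ← conj_pow, ← conj_pow, ← conj_pow, F.ua, F.ub, F.uc, F.ab.mul_pow, pow_add, pow_add, inv_pow]
        calc F.b ^ i * F.a ^ j * (F.c ^ k)⁻¹ * (F.a ^ i * F.b ^ j * F.c ^ k)
            = F.b ^ i * F.a ^ j * ((F.c ^ k)⁻¹ * (F.a ^ i * F.b ^ j)) * F.c ^ k := by group
          _ = F.b ^ i * F.a ^ j * (F.a ^ i * F.b ^ j) := by
            rw [(((F.ac.symm.pow_pow k i).mul_right (F.bc.symm.pow_pow k j)).inv_left).eq]; group
          _ = F.a ^ j * F.a ^ i * (F.b ^ i * F.b ^ j) := by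
            rw [mul_assoc (F.b ^ i), ← mul_assoc (F.a ^ j),
              ← mul_assoc (F.b ^ i), (((F.ab.symm.pow_pow i j).mul_right (F.ab.symm.pow_pow i i))).eq, mul_assoc]
          _ = F.a ^ i * F.a ^ j * (F.b ^ i * F.b ^ j) := by rw [((Commute.refl F.a).pow_pow j i).eq]
      refine Subgroup.mem_zpowers_iff.2 ⟨((i + j : ℕ) : ℤ), Subtype.ext ?_⟩
      rw [zpow_natCast, SubgroupClass.coe_pow]
      exact he.symm
    · intro nb hnb
      obtain ⟨g, rfl⟩ := hsurj nb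
      rw [Subgroup.mem_normalizer_iff] at hnb
      have hn : ∀ t ∈ F.T0, (g : G) * t * (g : G)⁻¹ ∈ F.T0 := fun t ht => by
        have := (hnb (π ⟨t, hTle ht⟩)).1 (by rw [hPc]; exact ⟨_, ht, rfl⟩)
        rw [hPc, ← map_inv, ← map_mul, ← map_mul] at this
        exact memT _ this
      have hcent : ∀ w : X, ((w : G) ∈ F.T0 ∨ (w : G) * D.z ∈ F.T0) →
          π w ∈ Subgroup.centralizer ((P : Subgroup (X ⧸ Z)) : Set (X ⧸ Z)) := by
        intro w hw
        rw [Subgroup.mem_centralizer_iff]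
        intro y hy
        rw [hPc] at hy
        obtain ⟨t, ht, rfl⟩ := hy
        rw [← map_mul, ← map_mul]
        congr 1
        refine Subtype.ext ?_
        have h := F.T0_comm (show (t : G) ∈ F.T0 from ht)
        show (t : G) * (w : G) = (w : G) * (t : G)
        rcases hw with hw | hw
        · obtain ⟨i, j, k, e⟩ := hw
          rw [e]; exact ((h.1.pow_right i).mul_right (h.2.1.pow_right j)).mul_right (h.2.2.1.pow_right k) |>.eq
        · obtain ⟨i, j, k, e⟩ := hw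
          rw [← mul_inv_cancel_right (w : G) D.z, e]
          exact ((((h.1.pow_right i).mul_right (h.2.1.pow_right j)).mul_right (h.2.2.1.pow_right k)).mul_right
            h.2.2.2.1.inv_right).eq
      rcases F.norm_T0 hJ ((memX _).1 g.2) hn with h | h
      · exact Or.inl (hcent g h)
      · right
        rw [hU, ← map_inv, ← map_mul]
        refine hcent _ ?_
        show F.u⁻¹ * (g : G) ∈ F.T0 ∨ F.u⁻¹ * (g : G) * D.z ∈ F.T0
        rwa [inv_eq_of_mul_eq_one_right F.u2]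
  have hnc : ¬ IsCyclic (P : Subgroup (X ⧸ Z)) := fun hc => by
    obtain ⟨x, hx⟩ := hc.exists_generator
    have h9 := orderOf_eq_card_of_forall_mem_zpowers hx
    have hxm : (x : X ⧸ Z) ∈ Pb := hPc ▸ x.2
    obtain ⟨t, ht, e⟩ := hxm
    have ht3 : t * t * t = 1 := Subtype.ext (F.T0_comm (show (t : G) ∈ F.T0 from ht)).2.2.2.2.2
    have hx3 : orderOf x ∣ 3 := by
      rw [← Subgroup.orderOf_coe, ← e]
      exact orderOf_dvd_of_pow_eq_one (by rw [← map_pow, pow_succ, pow_two, ht3, map_one])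
    rw [h9, show Nat.card (P : Subgroup (X ⧸ Z)) = Nat.card Pb by rw [hPc], hPb9] at hx3
    exact absurd hx3 (by norm_num)
  -- the core
  set K := Cfsg.pPrimeCore 3 (X ⧸ Z) with hK
  haveI hKn : K.Normal := by
    show (Cfsg.pPrimeCore 3 (X ⧸ Z)).Normal
    unfold Cfsg.pPrimeCore
    exact Cfsg.Lib.Components.normal_of_mem_sSup_normal fun N hN => hN.1
  have hKcop : (Nat.card K).Coprime 3 := Cfsg.Lib.Components.coprime_card_pPrimeCore 3
  have hord : ∀ k ∈ K, (orderOf k).Coprime 3 := fun k hk =>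
    hKcop.coprime_dvd_left (Subgroup.orderOf_dvd_natCard K hk)
  have hno3 : ∀ w : X, π w ∈ K → (w : G) * (w : G) * (w : G) = 1 → π w = 1 := fun w hw h3 => by
    have h1 : orderOf (π w) ∣ 3 := orderOf_dvd_of_pow_eq_one (by
      rw [← map_pow, show w ^ 3 = 1 from Subtype.ext (by rw [SubgroupClass.coe_pow, pow_succ, pow_two]; exact h3), map_one])
    exact orderOf_eq_one_iff.1 (Nat.eq_one_of_dvd_coprimes (hord _ hw) (dvd_refl _) h1)
  have hba : π ⟨F.b * F.a⁻¹, hbX⟩ ∉ K := fun h => by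
    have h1 := (hπ1 _).1 (hno3 _ h (F.T0_comm (F.T0.mul_mem F.b_mem_T0 (F.T0.inv_mem F.a_mem_T0))).2.2.2.2.2)
    obtain ⟨i, hi⟩ := memZ _ h1
    exact F.ba_not_mem i hi
  have hnorm : ∀ g, (g * (F.a * F.b) * g⁻¹ = F.a * F.b ∨ g * (F.a * F.b) * g⁻¹ = (F.a * F.b)⁻¹) →
      ∀ x, Commute x (F.a * F.b) → Commute (g * x * g⁻¹) (F.a * F.b) := fun g hg x hx => by
    have := (comm_conj_iff (g := g)).2 hx
    rcases hg with e | e <;> rw [e] at this
    · exact this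
    · exact Commute.inv_right_iff.1 this
  -- invariance of the core
  have hKinv : ∀ g, (g * (F.a * F.b) * g⁻¹ = F.a * F.b ∨ g * (F.a * F.b) * g⁻¹ = (F.a * F.b)⁻¹) →
      ∀ x : X, π x ∈ K → ∀ y : X, (y : G) = g * (x : G) * g⁻¹ → π y ∈ K := by
    intro g hg x hx y hy
    have hg' : g⁻¹ * (F.a * F.b) * g⁻¹⁻¹ = F.a * F.b ∨ g⁻¹ * (F.a * F.b) * g⁻¹⁻¹ = (F.a * F.b)⁻¹ := by
      rcases hg with e | e
      · left
        calc g⁻¹ * (F.a * F.b) * g⁻¹⁻¹ = g⁻¹ * (g * (F.a * F.b) * g⁻¹) * g⁻¹⁻¹ := by rw [e]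
          _ = F.a * F.b := by group
      · right
        have e' : g * (F.a * F.b)⁻¹ * g⁻¹ = F.a * F.b := by rw [← conj_inv, e, inv_inv]
        calc g⁻¹ * (F.a * F.b) * g⁻¹⁻¹ = g⁻¹ * (g * (F.a * F.b)⁻¹ * g⁻¹) * g⁻¹⁻¹ := by rw [e']
          _ = (F.a * F.b)⁻¹ := by group
    let φ : X →* X :=
      { toFun := fun w => ⟨g * (w : G) * g⁻¹, (memX _).2 (hnorm g hg _ ((memX _).1 w.2))⟩
        map_one' := Subtype.ext (by simp)
        map_mul' := fun w w' => Subtype.ext (by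
          show g * ((w : G) * (w' : G)) * g⁻¹ = g * (w : G) * g⁻¹ * (g * (w' : G) * g⁻¹)
          group) }
    have hφZ : Z ≤ (π.comp φ).ker := by
      intro w hw
      obtain ⟨i, hi⟩ := memZ w hw
      rw [MonoidHom.mem_ker, MonoidHom.comp_apply, hπ1]
      refine Subgroup.mem_zpowers_iff.2 ?_
      rcases hg with e | e
      · refine ⟨(i : ℤ), Subtype.ext ?_⟩
        rw [zpow_natCast, SubgroupClass.coe_pow]
        show (F.a * F.b) ^ i = g * (w : G) * g⁻¹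
        rw [hi, ← conj_pow, e]
      · refine ⟨-(i : ℤ), Subtype.ext ?_⟩
        rw [zpow_neg, zpow_natCast, Subgroup.coe_inv, SubgroupClass.coe_pow]
        show ((F.a * F.b) ^ i)⁻¹ = g * (w : G) * g⁻¹
        rw [hi, ← conj_pow, e, inv_pow]
    set ψ := QuotientGroup.lift Z (π.comp φ) hφZ
    have hψ : Function.Surjective ψ := fun q => by
      obtain ⟨w, rfl⟩ := hsurj q
      refine ⟨π ⟨g⁻¹ * (w : G) * g⁻¹⁻¹, (memX _).2 (hnorm g⁻¹ hg' _ ((memX _).1 w.2))⟩, ?_⟩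
      show π (φ _) = π w
      congr 1
      refine Subtype.ext ?_
      show g * (g⁻¹ * (w : G) * g⁻¹⁻¹) * g⁻¹ = (w : G)
      group
    haveI : (K.map ψ).Normal := hKn.map ψ hψ
    have hle : K.map ψ ≤ K :=
      Cfsg.Lib.Components.le_pPrimeCore (hKcop.coprime_dvd_left (Subgroup.card_map_dvd K ψ))
    have : π (φ x) ∈ K := hle ⟨π x, hx, rfl⟩
    rwa [show φ x = y from Subtype.ext hy.symm] at this
  have hzK : π ⟨D.z, hzX⟩ ∉ K := fun h => by
    have hu' := hKinv F.h F.hab _ h ⟨F.u, huX⟩ F.hz.symm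
    refine hba ?_
    have := K.mul_mem hu' (hKn.conj_mem _ (K.inv_mem hu') (π ⟨F.a, hTle F.a_mem_T0⟩))
    rw [← map_inv, ← map_inv, ← map_mul, ← map_mul, ← map_mul] at this
    convert this using 2
    refine Subtype.ext ?_
    show F.b * F.a⁻¹ = F.u * (F.a * F.u⁻¹ * F.a⁻¹)
    rw [← F.ua]; group
  -- fixed points of `z` in the core
  have hCz : ∀ x : X, π x ∈ K → π (⟨D.z, hzX⟩ * x * ⟨D.z, hzX⟩⁻¹) = π x → π x = 1 := by
    intro x hx hfix
    have hxz : Commute (x : G) D.z := by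
      rw [← mul_inv_eq_one, ← map_inv, ← map_mul, hπ1] at hfix
      obtain ⟨i, hi⟩ := memZ _ hfix
      set w := D.z * (x : G) * D.z⁻¹ * (x : G)⁻¹ with hw
      have hi' : w = (F.a * F.b) ^ i := hi
      have h1 : D.z * w * D.z⁻¹ = w⁻¹ := by
        calc D.z * w * D.z⁻¹ = ((D.z * D.z) * (x : G) * (D.z * D.z)⁻¹) * (D.z * (x : G) * D.z⁻¹)⁻¹ := by rw [hw]; group
          _ = w⁻¹ := by rw [D.zz, hw]; group
      have h2 : Commute D.z w := by rw [hi']; exact (F.abz.pow_left i).symm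
      have hw1 : w = 1 := eq_one_fixed_inverted (by
        rw [hi']; exact (Cov.odd_of_cube F.ab3).of_dvd_nat (orderOf_pow_dvd i)) h2 h1
      rw [hw, mul_inv_eq_one, mul_inv_eq_iff_eq_mul] at hw1
      exact hw1.symm
    have hxab := (memX _).1 x.2
    have hσab : Commute (D.pm (x : G)) (P9.pa m * P9.pb m) := by rw [← F.pmab]; exact D.comm_pm hxz F.abz hxab
    have hcab : Commute (x : G) F.a ∧ Commute (x : G) F.b := by
      rcases P9.pres_or_swap F.hm hσab with ⟨h1, h2⟩ | ⟨h1, -⟩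
      · exact ⟨D.odd_comm hxz F.az (Cov.odd_of_cube F.a3) (by rwa [F.pma]),
          D.odd_comm hxz F.bz (Cov.odd_of_cube F.b3) (by rwa [F.pmb])⟩
      · exfalso
        have hc : Commute (F.u * x) F.a := D.odd_comm (D.comm_mul F.uz hxz) F.az (Cov.odd_of_cube F.a3)
          (by rw [D.pm_mul F.uz hxz, F.pmu, F.pma]; exact h1)
        have hxa : (x : G) * F.a * (x : G)⁻¹ = F.b := by
          rw [show (x : G) * F.a * (x : G)⁻¹ = F.u⁻¹ * (F.u * x * F.a * (F.u * x)⁻¹) * F.u by group, conj_of_comm hc,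
            ← F.ub]
          group
        refine hba ?_
        have := K.mul_mem hx (hKn.conj_mem _ (K.inv_mem hx) (π ⟨F.a, hTle F.a_mem_T0⟩))
        rw [← map_inv, ← map_inv, ← map_mul, ← map_mul, ← map_mul] at this
        convert this using 2
        refine Subtype.ext ?_
        show F.b * F.a⁻¹ = (x : G) * (F.a * (x : G)⁻¹ * F.a⁻¹)
        rw [← hxa]; group
    -- the part of order prime to three
    set o := orderOf (π x)
    have hoc : o.Coprime 3 := hord _ hx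
    obtain ⟨i, hi⟩ := memZ (x ^ o) ((hπ1 _).1 (by rw [map_pow, pow_orderOf_eq_one]))
    rw [SubgroupClass.coe_pow] at hi
    set y := (x : G) ^ 3 with hy
    have hyo : y ^ o = 1 := by
      rw [hy, ← pow_mul, mul_comm, pow_mul, hi, ← pow_mul, pow_mod_three F.ab3, Nat.mul_mod_left, pow_zero]
    have hy3 : (orderOf y).Coprime 3 := hoc.coprime_dvd_left (orderOf_dvd_of_pow_eq_one hyo)
    have hyz : Commute y D.z := hxz.pow_left 3
    set σ := D.pm y with hσdef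
    have hσo : (orderOf σ).Coprime 3 := hy3.coprime_dvd_left (orderOf_dvd_of_pow_eq_one
      (by rw [hσdef, ← D.pm_pow hyz, pow_orderOf_eq_one, D.pm_one]))
    have hσa : Commute σ (P9.pa m) := by rw [← F.pma]; exact D.comm_pm hyz F.az (hcab.1.pow_left 3)
    have hσb : Commute σ (P9.pb m) := by rw [← F.pmb]; exact D.comm_pm hyz F.bz (hcab.2.pow_left 3)
    have hσfix : ∀ p, (P9.pa m * P9.pb m) p ≠ p → σ p = p := by
      have key : ∀ (c : Perm (Fin (m + 9))), c * c * c = 1 → Commute σ c →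
          (∀ p q, c p ≠ p → c q ≠ q → q = p ∨ q = c p ∨ q = c (c p)) → ∀ p, c p ≠ p → σ p = p := by
        intro c hc3 hcc horb p hp
        have hmv : ∀ q, c q ≠ q → c (σ q) ≠ σ q := fun q hq h => hq (σ.injective (by rw [apply_comm hcc, h]))
        have hr : ∀ q, c q ≠ q → ∀ r : ℕ, (c ^ r) q = q → r % 3 = 0 := by
          intro q hq r h
          rw [pow_mod_three hc3] at h
          obtain h' | h' | h' : r % 3 = 0 ∨ r % 3 = 1 ∨ r % 3 = 2 := by omega
          · exact h'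
          · rw [h', pow_one] at h; exact absurd h hq
          · rw [h', pow_two, Perm.mul_apply] at h
            have h3 : c (c (c q)) = q := by rw [← Perm.mul_apply, ← Perm.mul_apply, hc3, Perm.one_apply]
            rw [h] at h3
            exact absurd h3 hq
        obtain ⟨r, hr'⟩ : ∃ r : ℕ, σ p = (c ^ r) p := by
          rcases horb p (σ p) hp (hmv p hp) with e | e | e
          · exact ⟨0, by rw [e, pow_zero, Perm.one_apply]⟩
          · exact ⟨1, by rw [e, pow_one]⟩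
          · exact ⟨2, by rw [e, pow_two, Perm.mul_apply]⟩
        have hpow : ∀ s : ℕ, (σ ^ s) p = (c ^ (r * s)) p := by
          intro s
          induction s with
          | zero => simp
          | succ s ih =>
            rw [pow_succ', Perm.mul_apply, ih, apply_comm (hcc.pow_right _), hr', ← Perm.mul_apply, ← pow_add,
              show r * s + r = r * (s + 1) by ring]
        have h0 := hr p hp (r * orderOf σ) (by rw [← hpow, pow_orderOf_eq_one, Perm.one_apply])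
        have hr0 : r % 3 = 0 := Nat.eq_zero_of_dvd_of_lt
          ((Nat.Coprime.dvd_of_dvd_mul_right hσo.symm (Nat.dvd_of_mod_eq_zero h0)).trans (dvd_refl r) |>
            fun h => (Nat.dvd_mod_iff (dvd_refl 3)).2 h) (Nat.mod_lt _ (by norm_num))
        rw [hr', pow_mod_three hc3, hr0, pow_zero, Perm.one_apply]
      intro p hp
      by_cases h : P9.pa m p = p
      · refine key _ (P9.pb3 F.hm) hσb (by rcases F.hm with rfl | rfl <;> decide +kernel) p ?_
        intro hh; exact hp (by rw [Perm.mul_apply, hh, h])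
      · exact key _ (P9.pa3 F.hm) hσa (by rcases F.hm with rfl | rfl <;> decide +kernel) p h
    have h4 : σ.support.card ≤ 4 := by
      refine (card_support_le_fixed hσfix).trans ?_
      rcases F.hm with rfl | rfl <;> decide +kernel
    have h3' : ¬ 3 ∣ orderOf σ := fun h => by
      have := Nat.eq_one_of_dvd_coprimes hσo h (dvd_refl 3)
      omega
    have hsq := sq_of_small (D.pm_sign hyz) h4 h3'
    have hyK : π ⟨y, X.pow_mem x.2 3⟩ ∈ K := by
      rw [show (⟨y, X.pow_mem x.2 3⟩ : X) = x ^ 3 from Subtype.ext (by rw [SubgroupClass.coe_pow]), map_pow]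
      exact K.pow_mem hx 3
    have hy1 : y = 1 := by
      rcases eight_le_or hsq (D.pm_sign hyz) with h | h | h
      · rcases D.pm_eq_one hyz h with e | e
        · exact e
        · exfalso
          refine hzK ?_
          rwa [show (⟨D.z, hzX⟩ : X) = ⟨y, X.pow_mem x.2 3⟩ from Subtype.ext e.symm]
      · exfalso
        refine hzK ?_
        have := K.mul_mem hyK hyK
        rw [← map_mul] at this
        rwa [show (⟨D.z, hzX⟩ : X) = ⟨y, X.pow_mem x.2 3⟩ * ⟨y, X.pow_mem x.2 3⟩ from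
          Subtype.ext (D.sq_eq_z hyz h).symm]
      · have h4' : (D.pm y).support.card ≤ 4 := h4
        omega
    exact hno3 x hx (by rw [← pow_two, ← pow_succ]; exact hy1)
  -- every involution inverts the core
  have hinv : ∀ v : G, ∀ hv : v ∈ X, v * v = 1 →
      (∀ x : X, π x ∈ K → π (⟨v, hv⟩ * x * ⟨v, hv⟩⁻¹) = π x → π x = 1) →
      ∀ q ∈ K, π ⟨v, hv⟩ * q * (π ⟨v, hv⟩)⁻¹ = q⁻¹ := by
    intro v hv hv2 hfree q hq
    set V : X := ⟨v, hv⟩
    let φ : K →* K :=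
      { toFun := fun k => ⟨π V * k * (π V)⁻¹, hKn.conj_mem _ k.2 _⟩
        map_one' := Subtype.ext (by simp)
        map_mul' := fun k k' => Subtype.ext (by
          show π V * ((k : X ⧸ Z) * k') * (π V)⁻¹ = π V * k * (π V)⁻¹ * (π V * k' * (π V)⁻¹)
          group) }
    have hfp : MonoidHom.FixedPointFree φ := by
      intro k hk
      obtain ⟨x, hx⟩ := hsurj (k : X ⧸ Z)
      refine Subtype.ext ?_
      show (k : X ⧸ Z) = 1
      rw [← hx]
      refine hfree x (by rw [hx]; exact k.2) ?_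
      rw [map_mul, map_mul, map_inv, hx]
      exact congrArg Subtype.val hk
    have hinvol : Function.Involutive φ := fun k => Subtype.ext (by
      show π V * (π V * k * (π V)⁻¹) * (π V)⁻¹ = k
      rw [show π V * (π V * (k : X ⧸ Z) * (π V)⁻¹) * (π V)⁻¹ = π V * π V * k * (π V * π V)⁻¹ by group,
        ← map_mul, show V * V = 1 from Subtype.ext hv2, map_one]
      group)
    exact congrArg Subtype.val (congrFun (hfp.coe_eq_inv_of_involutive hinvol) ⟨q, hq⟩)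
  have hCu : ∀ x : X, π x ∈ K → π (⟨F.u, huX⟩ * x * ⟨F.u, huX⟩⁻¹) = π x → π x = 1 := by
    intro x hx hfix
    let y : X := ⟨F.h * (x : G) * F.h⁻¹, (memX _).2 (hnorm F.h F.hab _ ((memX _).1 x.2))⟩
    have hy := hKinv F.h F.hab x hx y rfl
    rw [← mul_inv_eq_one, ← map_inv, ← map_mul, hπ1] at hfix
    obtain ⟨i, hi⟩ := memZ _ hfix
    have hy1 : π y = 1 := by
      refine hCz y hy ?_
      rw [← mul_inv_eq_one, ← map_inv, ← map_mul, hπ1]
      have e : D.z * (F.h * (x : G) * F.h⁻¹) * D.z⁻¹ * (F.h * (x : G) * F.h⁻¹)⁻¹ = F.h * (F.a * F.b) ^ i * F.h⁻¹ := by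
        rw [← F.hu, ← hi]
        show F.h * F.u * F.h⁻¹ * (F.h * (x : G) * F.h⁻¹) * (F.h * F.u * F.h⁻¹)⁻¹ * (F.h * (x : G) * F.h⁻¹)⁻¹ =
          F.h * (F.u * (x : G) * F.u⁻¹ * (x : G)⁻¹) * F.h⁻¹
        group
      rw [← conj_pow] at e
      refine Subgroup.mem_zpowers_iff.2 ?_
      rcases F.hab with h | h <;> rw [h] at e
      · exact ⟨(i : ℤ), Subtype.ext (by rw [zpow_natCast, SubgroupClass.coe_pow]; exact e.symm)⟩
      · exact ⟨-(i : ℤ), Subtype.ext (by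
          rw [zpow_neg, zpow_natCast, Subgroup.coe_inv, SubgroupClass.coe_pow, ← inv_pow]; exact e.symm)⟩
    obtain ⟨j, hj⟩ := memZ _ ((hπ1 y).1 hy1)
    rw [hπ1]
    refine Subgroup.mem_zpowers_iff.2 ?_
    have hj' : (x : G) = (F.h⁻¹ * (F.a * F.b) * F.h⁻¹⁻¹) ^ j := by
      rw [conj_pow, ← hj]
      show (x : G) = F.h⁻¹ * (F.h * (x : G) * F.h⁻¹) * F.h⁻¹⁻¹
      group
    rcases F.hab with h | h
    · have e : F.h⁻¹ * (F.a * F.b) * F.h⁻¹⁻¹ = F.a * F.b := by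
        calc F.h⁻¹ * (F.a * F.b) * F.h⁻¹⁻¹ = F.h⁻¹ * (F.h * (F.a * F.b) * F.h⁻¹) * F.h⁻¹⁻¹ := by rw [h]
          _ = F.a * F.b := by group
      exact ⟨(j : ℤ), Subtype.ext (by rw [zpow_natCast, SubgroupClass.coe_pow, hj', e])⟩
    · have e' : F.h * (F.a * F.b)⁻¹ * F.h⁻¹ = F.a * F.b := by rw [← conj_inv, h, inv_inv]
      have e : F.h⁻¹ * (F.a * F.b) * F.h⁻¹⁻¹ = (F.a * F.b)⁻¹ := by
        calc F.h⁻¹ * (F.a * F.b) * F.h⁻¹⁻¹ = F.h⁻¹ * (F.h * (F.a * F.b)⁻¹ * F.h⁻¹) * F.h⁻¹⁻¹ := by rw [e']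
          _ = (F.a * F.b)⁻¹ := by group
      exact ⟨-(j : ℤ), Subtype.ext (by
        rw [zpow_neg, zpow_natCast, Subgroup.coe_inv, SubgroupClass.coe_pow, hj', e, inv_pow])⟩
  have htab : F.τ * (F.a * F.b) * F.τ⁻¹ = (F.a * F.b)⁻¹ := by
    rw [show F.τ * (F.a * F.b) * F.τ⁻¹ = (F.τ * F.a * F.τ⁻¹) * (F.τ * F.b * F.τ⁻¹) by group, F.ta, F.tb, mul_inv_rev,
      F.ab.inv_inv.eq]
  have hKbot : K = ⊥ := by
    rw [Subgroup.eq_bot_iff_forall]
    intro q hq
    obtain ⟨x, rfl⟩ := hsurj q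
    have hiz := hinv D.z hzX D.zz hCz
    have hiu := hinv F.u huX F.u2 hCu
    -- transport to the product of the two
    let y : X := ⟨F.τ * (x : G) * F.τ⁻¹, (memX _).2 (hnorm F.τ (Or.inr htab) _ ((memX _).1 x.2))⟩
    have hy := hKinv F.τ (Or.inr htab) x hq y rfl
    have h1 := hiu _ hy
    rw [← mul_eq_one_iff_eq_inv, ← map_inv, ← map_mul, ← map_mul, ← map_mul, hπ1] at h1
    obtain ⟨i, hi⟩ := memZ _ h1
    have hi' : F.u * (F.τ * (x : G) * F.τ⁻¹) * F.u⁻¹ * (F.τ * (x : G) * F.τ⁻¹) = (F.a * F.b) ^ i := hi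
    have e : (F.τ⁻¹ * F.u * F.τ) * (x : G) * (F.τ⁻¹ * F.u * F.τ)⁻¹ * (x : G) = (F.τ⁻¹ * (F.a * F.b) * F.τ⁻¹⁻¹) ^ i := by
      rw [conj_pow, ← hi']; group
    have ht : F.τ⁻¹ * F.u * F.τ = F.u * D.z := by
      have h : F.τ * (F.u * D.z) * F.τ⁻¹ = F.u := by
        rw [show F.τ * (F.u * D.z) * F.τ⁻¹ = (F.τ * F.u * F.τ⁻¹) * (F.τ * D.z * F.τ⁻¹) by group, F.tu,
          conj_of_comm F.tz, mul_assoc, D.zz, mul_one]
      calc F.τ⁻¹ * F.u * F.τ = F.τ⁻¹ * (F.τ * (F.u * D.z) * F.τ⁻¹) * F.τ := by rw [h]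
        _ = F.u * D.z := by group
    rw [ht] at e
    have hz' : π (⟨F.u, huX⟩ * ⟨D.z, hzX⟩ * x * (⟨F.u, huX⟩ * ⟨D.z, hzX⟩)⁻¹ * x) = 1 := by
      rw [hπ1]
      have e2 : F.τ⁻¹ * (F.a * F.b) * F.τ⁻¹⁻¹ = (F.a * F.b)⁻¹ := by
        have e' : F.τ * (F.a * F.b)⁻¹ * F.τ⁻¹ = F.a * F.b := by rw [← conj_inv, htab, inv_inv]
        calc F.τ⁻¹ * (F.a * F.b) * F.τ⁻¹⁻¹ = F.τ⁻¹ * (F.τ * (F.a * F.b)⁻¹ * F.τ⁻¹) * F.τ⁻¹⁻¹ := by rw [e']
          _ = (F.a * F.b)⁻¹ := by group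
      rw [e2] at e
      exact Subgroup.mem_zpowers_iff.2 ⟨-(i : ℤ), Subtype.ext (by
        rw [zpow_neg, zpow_natCast, Subgroup.coe_inv, SubgroupClass.coe_pow, ← inv_pow]; exact e.symm)⟩
    set Q := π x with hQ
    rw [map_mul, map_mul, map_mul, map_inv, map_mul, mul_eq_one_iff_eq_inv, ← hQ] at hz'
    have hzq := hiz Q hq
    rw [show π ⟨F.u, huX⟩ * π ⟨D.z, hzX⟩ * Q * (π ⟨F.u, huX⟩ * π ⟨D.z, hzX⟩)⁻¹ =
      π ⟨F.u, huX⟩ * (π ⟨D.z, hzX⟩ * Q * (π ⟨D.z, hzX⟩)⁻¹) * (π ⟨F.u, huX⟩)⁻¹ by group, hzq, ← conj_inv, hiu Q hq,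
      inv_inv] at hz'
    -- now `Q` is an involution fixed by `z`
    rw [← hz'] at hzq
    refine hCz x hq ?_
    rw [map_mul, map_mul, map_inv]
    exact hzq
  have hcore : ∀ N : Subgroup (X ⧸ Z), N.Normal → ¬ 3 ∣ Nat.card N → N = ⊥ := fun N hN h3 => by
    haveI := hN
    rw [eq_bot_iff, ← hKbot]
    exact Cfsg.Lib.Components.le_pPrimeCore ((Nat.prime_three.coprime_iff_not_dvd.2 h3).symm)
  have hPn := hsetup.sylow_normal hnc hcore
  rw [hPc] at hPn
  have hTn : ∀ g : G, Commute g (F.a * F.b) → ∀ t ∈ F.T0, g * t * g⁻¹ ∈ F.T0 := by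
    intro g hg t ht
    have := hPn.conj_mem (π ⟨t, hTle ht⟩) ⟨_, ht, rfl⟩ (π ⟨g, (memX g).2 hg⟩)
    rw [← map_inv, ← map_mul, ← map_mul] at this
    exact memT _ this
  -- the conjugate by `h` is the same subgroup
  set T' := F.T0.map (MulAut.conj F.h).toMonoidHom with hT'
  have hT'n : T' ≤ Subgroup.normalizer (F.T0 : Set G) := by
    rintro _ ⟨t, ht, rfl⟩
    exact Cfsg.Lib.ZStarApps.mem_normalizer_of_maps (hTn _ (F.comm_h_ab.2 (F.T0_comm ht).2.2.2.2.1))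
  have hp : IsPGroup 3 (F.T0 ⊔ T' : Subgroup G) := by
    have h0 : IsPGroup 3 F.T0 := IsPGroup.of_card (n := 3) (by rw [F.card_T0]; norm_num)
    exact h0.to_sup_of_normal_left' (h0.map _) hT'n
  have heq := F.max_T0 hJ _ hp (fun x hx => by
    have hle : F.T0 ⊔ T' ≤ X := sup_le hTle (by
      rintro _ ⟨t, ht, rfl⟩
      exact (memX _).2 (F.comm_h_ab.2 (F.T0_comm ht).2.2.2.2.1))
    exact (memX x).1 (hle hx)) le_sup_left
  have hc' : F.h * F.c * F.h⁻¹ ∈ F.T0 := by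
    rw [← heq]; exact Subgroup.mem_sup_right ⟨F.c, F.c_mem_T0, rfl⟩
  have hi : D.z * (F.h * F.c * F.h⁻¹) * D.z⁻¹ = (F.h * F.c * F.h⁻¹)⁻¹ := by
    rw [← F.hu, show F.h * F.u * F.h⁻¹ * (F.h * F.c * F.h⁻¹) * (F.h * F.u * F.h⁻¹)⁻¹ =
      F.h * (F.u * F.c * F.u⁻¹) * F.h⁻¹ by group, F.uc]
    group
  have h1 := eq_one_fixed_inverted (Cov.odd_of_cube (cube_conj F.c3)) (F.T0_comm hc').2.2.2.1.symm hi
  rw [mul_inv_eq_one, mul_eq_left] at h1
  have := F.pmc
  rw [h1, D.pm_one] at this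
  revert this
  rcases F.hm with rfl | rfl <;> decide +kernel

end Frame

end Cfsg.Lib.DoubleCoverAlt
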