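import Mathlib
import Cfsg.Agent.DoubleCoverAlt.NoThree
import Cfsg.Agent.DoubleCoverAlt.Zero

/-!
# The inverted elements centralized by `u` form a group of order three: impossible
-/

set_option autoImplicit false
set_option linter.unusedSectionVars false
set_option linter.unusedSimpArgs false
set_option linter.style.haveILetI false

namespace Cfsg.Lib.DoubleCoverAlt

open Equiv

universe u

variable {G : Type u} [Group G] [Finite G]

theorem inv_eq_sq {x : G} (h : x * x * x = 1) : x⁻¹ = x ^ 2 := by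
  rw [pow_two]; exact (inv_eq_of_mul_eq_one_left h)

theorem comm_of_comm_sq {x y : G} (hx : Odd (orderOf x)) (h : Commute (x * x) y) : Commute x y := by
  obtain ⟨k, hk⟩ := hx
  have e : x = (x * x) ^ (k + 1) := by
    rw [← pow_two, ← pow_mul, show 2 * (k + 1) = orderOf x + 1 by omega, pow_succ, pow_orderOf_eq_one, one_mul]
  rw [e]; exact h.pow_left _

namespace Frame

variable {m : ℕ} {D : Cov G (m + 9)} (F : Frame D)
include F

theorem T0_commute {s t : G} (hs : s ∈ F.T0) (ht : t ∈ F.T0) : Commute s t := by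
  obtain ⟨i, j, k, rfl⟩ := ht
  have h := F.T0_comm hs
  exact ((h.1.pow_right i).mul_right (h.2.1.pow_right j)).mul_right (h.2.2.1.pow_right k)

theorem odd_T0 {s : G} (hs : s ∈ F.T0) : Odd (orderOf s) := Cov.odd_of_cube (F.T0_comm hs).2.2.2.2.2

/-- `τ` exchanges the two kinds of inverted elements. -/
theorem t_conj_inverted {x : G} (hz : D.z * x * D.z⁻¹ = x⁻¹) (hu : Commute x F.u) :
    D.z * (F.τ * x * F.τ⁻¹) * D.z⁻¹ = (F.τ * x * F.τ⁻¹)⁻¹ ∧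
      F.u * (F.τ * x * F.τ⁻¹) * F.u⁻¹ = (F.τ * x * F.τ⁻¹)⁻¹ := by
  have h1 : D.z * (F.τ * x * F.τ⁻¹) * D.z⁻¹ = (F.τ * x * F.τ⁻¹)⁻¹ := by
    rw [show D.z * (F.τ * x * F.τ⁻¹) * D.z⁻¹ = (D.z * F.τ) * x * (D.z * F.τ)⁻¹ by group, F.tz.symm.eq,
      show F.τ * D.z * x * (F.τ * D.z)⁻¹ = F.τ * (D.z * x * D.z⁻¹) * F.τ⁻¹ by group, hz]
    group
  refine ⟨h1, ?_⟩
  have h : Commute (F.τ * x * F.τ⁻¹) (F.u * D.z) := by rw [← F.tu]; exact comm_conj_iff.2 hu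
  set y := F.τ * x * F.τ⁻¹
  have hzi : D.z⁻¹ = D.z := inv_eq_of_mul_eq_one_right D.zz
  calc F.u * y * F.u⁻¹ = (F.u * D.z) * (D.z⁻¹ * y * D.z⁻¹⁻¹) * (F.u * D.z)⁻¹ := by group
    _ = (F.u * D.z) * y⁻¹ * (F.u * D.z)⁻¹ := by rw [hzi, h1]
    _ = y⁻¹ := by rw [h.inv_left.symm.eq, mul_inv_cancel_right]

/-- A generator of a group of order three. -/
theorem exists_gen (h3 : Nat.card F.Ju = 3) : ∃ l ∈ F.Ju, l ≠ 1 := by
  by_contra h
  push Not at h
  have : F.Ju = ⊥ := (Subgroup.eq_bot_iff_forall _).2 h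
  rw [this, Subgroup.card_bot] at h3
  omega

variable {l : G}

theorem gen_facts (h3 : Nat.card F.Ju = 3) (hl : l ∈ F.Ju) (hl1 : l ≠ 1) :
    orderOf l = 3 ∧ l * l * l = 1 ∧ (∀ x ∈ F.Ju, ∃ a : ℕ, x = l ^ a) ∧
      F.τ * (F.τ * l * F.τ⁻¹) * F.τ⁻¹ = l⁻¹ ∧ F.τ * l * F.τ⁻¹ ∈ F.J ∧ Commute l (F.τ * l * F.τ⁻¹) := by
  have ho : orderOf l = 3 := by
    have h := Subgroup.orderOf_dvd_natCard F.Ju hl
    rw [h3] at h
    rcases (Nat.dvd_prime Nat.prime_three).1 h with e | e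
    · exact absurd (orderOf_eq_one_iff.1 e) hl1
    · exact e
  have hl3 : l * l * l = 1 := by
    have := pow_orderOf_eq_one l
    rwa [ho, pow_succ, pow_two] at this
  have hgen : Subgroup.zpowers l = F.Ju :=
    Subgroup.eq_of_le_of_card_ge (Subgroup.zpowers_le.2 hl) (by rw [Nat.card_zpowers, ho, h3])
  have hJ := (F.mem_Ju.1 hl).1
  refine ⟨ho, hl3, fun x hx => ?_, ?_, F.J_conj_t hJ, F.J_comm hJ (F.J_conj_t hJ)⟩
  · rw [← hgen, ← mem_powers_iff_mem_zpowers, Submonoid.mem_powers_iff] at hx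
    obtain ⟨a, rfl⟩ := hx
    exact ⟨a, rfl⟩
  · rw [show F.τ * (F.τ * l * F.τ⁻¹) * F.τ⁻¹ = (F.τ * F.τ) * l * (F.τ * F.τ)⁻¹ by group, F.t2, hJ.2.2.1]

theorem Ju_inj (h3 : Nat.card F.Ju = 3) (hl : l ∈ F.Ju) (hl1 : l ≠ 1) {a b a' b' : ℕ}
    (h : l ^ a * (F.τ * l * F.τ⁻¹) ^ b = l ^ a' * (F.τ * l * F.τ⁻¹) ^ b') : a % 3 = a' % 3 ∧ b % 3 = b' % 3 := by
  obtain ⟨ho, hl3, hgen, htt, hl', hc⟩ := F.gen_facts h3 hl hl1
  have e : (l ^ a')⁻¹ * l ^ a = (F.τ * l * F.τ⁻¹) ^ b' * ((F.τ * l * F.τ⁻¹) ^ b)⁻¹ := by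
    rw [inv_mul_eq_iff_eq_mul, ← mul_assoc, eq_mul_inv_iff_mul_eq, h]
  have hfix := F.mem_Ju.1 (F.Ju.mul_mem (F.Ju.inv_mem (F.Ju.pow_mem hl a')) (F.Ju.pow_mem hl a))
  have hinv : F.u * ((l ^ a')⁻¹ * l ^ a) * F.u⁻¹ = ((l ^ a')⁻¹ * l ^ a)⁻¹ := by
    rw [e, conj_pow, conj_pow, show (F.τ * l ^ b' * F.τ⁻¹) * (F.τ * l ^ b * F.τ⁻¹)⁻¹ = F.τ * (l ^ b' * (l ^ b)⁻¹) * F.τ⁻¹ by group]
    exact F.t_u_fixed (F.mem_Ju.1 (F.Ju.mul_mem (F.Ju.pow_mem hl b') (F.Ju.inv_mem (F.Ju.pow_mem hl b)))).1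
      (F.mem_Ju.1 (F.Ju.mul_mem (F.Ju.pow_mem hl b') (F.Ju.inv_mem (F.Ju.pow_mem hl b)))).2
  have h1 := eq_one_fixed_inverted (F.J_odd hfix.1) hfix.2.symm hinv
  have ho' : orderOf (F.τ * l * F.τ⁻¹) = 3 := by rw [Cov.orderOf_conj, ho]
  refine ⟨?_, ?_⟩
  · rw [inv_mul_eq_one, pow_inj_mod, ho] at h1
    exact h1.symm
  · rw [h1, eq_comm, mul_inv_eq_one, pow_inj_mod, ho'] at e
    exact e.symm

theorem Ju_surj (h3 : Nat.card F.Ju = 3) (hl : l ∈ F.Ju) (hl1 : l ≠ 1) {x : G} (hx : x ∈ F.J) :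
    ∃ a b : ℕ, x = l ^ a * (F.τ * l * F.τ⁻¹) ^ b := by
  obtain ⟨ho, hl3, hgen, htt, hl', hc⟩ := F.gen_facts h3 hl hl1
  obtain ⟨p, hp, q, hq, rfl, hpu, hqu⟩ := F.J_split hx
  obtain ⟨a, rfl⟩ := hgen p (F.mem_Ju.2 ⟨hp, hpu⟩)
  obtain ⟨b, hb⟩ := hgen _ (F.mem_Ju.2 ⟨F.J_conj_t hq, F.t_u_inverted hq hqu⟩)
  refine ⟨a, 2 * b, ?_⟩
  congr 1
  have e : F.τ⁻¹ * l * F.τ = (F.τ * l * F.τ⁻¹) ^ 2 := by
    have h := congrArg (fun w => F.τ⁻¹ * w⁻¹ * F.τ) htt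
    rw [← inv_eq_sq (cube_conj hl3)]
    calc F.τ⁻¹ * l * F.τ = F.τ⁻¹ * l⁻¹⁻¹ * F.τ := by rw [inv_inv]
      _ = F.τ⁻¹ * (F.τ * (F.τ * l * F.τ⁻¹) * F.τ⁻¹)⁻¹ * F.τ := by rw [htt]
      _ = _ := by group
  calc q = F.τ⁻¹ * (F.τ * q * F.τ⁻¹) * F.τ⁻¹⁻¹ := by group
    _ = (F.τ⁻¹ * l * F.τ⁻¹⁻¹) ^ b := by rw [hb, conj_pow]
    _ = _ := by rw [inv_inv, e, ← pow_mul]

/-- An element of order three commuting with `a`, `b`, `τ` centralizes `J`. -/
theorem fix_J (h3 : Nat.card F.Ju = 3) (hl : l ∈ F.Ju) (hl1 : l ≠ 1) {g : G} (hgz : Commute g D.z)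
    (hga : Commute g F.a) (hgb : Commute g F.b) (hg3 : g * g * g = 1) (hgt : Commute F.τ g) :
    ∀ x ∈ F.J, Commute g x := by
  obtain ⟨ho, hl3, hgen, htt, hl', hc⟩ := F.gen_facts h3 hl hl1
  set l' := F.τ * l * F.τ⁻¹ with hl'def
  have hl'3 : l' * l' * l' = 1 := cube_conj hl3
  have hE : ∀ a b a' b' : ℕ, l ^ a * l' ^ b * (l ^ a' * l' ^ b') = l ^ (a + a') * l' ^ (b + b') := fun a b a' b' => by
    rw [(hc.pow_pow a' b).symm.mul_mul_mul_comm, ← pow_add, ← pow_add]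
  have hEp : ∀ a b r : ℕ, (l ^ a * l' ^ b) ^ r = l ^ (a * r) * l' ^ (b * r) := fun a b r => by
    rw [(hc.pow_pow a b).mul_pow, ← pow_mul, ← pow_mul]
  obtain ⟨p₀, q₀, hpq⟩ := F.Ju_surj h3 hl hl1 (F.J_conj_cent hgz hga hgb (F.mem_Ju.1 hl).1)
  rw [← hl'def, pow_mod_three hl3, pow_mod_three hl'3] at hpq
  set p := p₀ % 3 with hp
  set q := q₀ % 3 with hq
  have hl'g : g * l' * g⁻¹ = l ^ (2 * q) * l' ^ p := by
    have : g * l' * g⁻¹ = F.τ * (g * l * g⁻¹) * F.τ⁻¹ := by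
      rw [hl'def, show g * (F.τ * l * F.τ⁻¹) * g⁻¹ = (g * F.τ) * l * (g * F.τ)⁻¹ by group, hgt.symm.eq]
      group
    rw [this, hpq, show F.τ * (l ^ p * l' ^ q) * F.τ⁻¹ = (F.τ * l ^ p * F.τ⁻¹) * (F.τ * l' ^ q * F.τ⁻¹) by group,
      ← conj_pow, ← conj_pow, htt, ← hl'def, inv_eq_sq hl3, ← pow_mul, (hc.symm.pow_pow p (2 * q)).eq]
  have φ : ∀ a b : ℕ, g * (l ^ a * l' ^ b) * g⁻¹ = l ^ (p * a + 2 * q * b) * l' ^ (q * a + p * b) := fun a b => by
    rw [show g * (l ^ a * l' ^ b) * g⁻¹ = (g * l ^ a * g⁻¹) * (g * l' ^ b * g⁻¹) by group, ← conj_pow, ← conj_pow,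
      hpq, hl'g, hEp, hEp, hE]
  have h3' : g * (g * (g * l * g⁻¹) * g⁻¹) * g⁻¹ = l := by
    rw [show g * (g * (g * l * g⁻¹) * g⁻¹) * g⁻¹ = (g * g * g) * l * (g * g * g)⁻¹ by group, hg3]; group
  rw [hpq, φ, φ] at h3'
  obtain ⟨e1, e2⟩ := F.Ju_inj h3 hl hl1 (a' := 1) (b' := 0) (by rw [h3', pow_one, pow_zero, mul_one])
  have key : ∀ p q : Fin 3, ((p : ℕ) * ((p : ℕ) * p + 2 * (q : ℕ) * q) + 2 * (q : ℕ) * ((q : ℕ) * p + (p : ℕ) * q)) % 3 = 1 →
      ((q : ℕ) * ((p : ℕ) * p + 2 * (q : ℕ) * q) + (p : ℕ) * ((q : ℕ) * p + (p : ℕ) * q)) % 3 = 0 →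
      (p : ℕ) = 1 ∧ (q : ℕ) = 0 := by decide +kernel
  obtain ⟨k1, k2⟩ := key ⟨p, Nat.mod_lt _ (by norm_num)⟩ ⟨q, Nat.mod_lt _ (by norm_num)⟩ e1 e2
  change p = 1 at k1
  change q = 0 at k2
  rw [k1, k2, pow_one, pow_zero, mul_one] at hpq
  rw [k1, k2, mul_zero, pow_zero, pow_one, one_mul] at hl'g
  intro x hx
  obtain ⟨a, b, rfl⟩ := F.Ju_surj h3 hl hl1 hx
  exact ((comm_of_conj_eq hpq).pow_right a).mul_right ((comm_of_conj_eq hl'g).pow_right b)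

theorem c_comm_J (h3 : Nat.card F.Ju = 3) : ∀ x ∈ F.J, Commute F.c x := by
  obtain ⟨l, hl, hl1⟩ := F.exists_gen h3
  exact F.fix_J h3 hl hl1 F.cz F.ac.symm F.bc.symm F.c3 F.tc

/-- Degree ten. -/
theorem three_ten (hm1 : m = 1) : Nat.card F.Ju ≠ 3 := by
  intro h3
  obtain ⟨l, hl, hl1⟩ := F.exists_gen h3
  obtain ⟨k, hk, hkp⟩ := D.exists_lift (σ := (swap 6 8 * swap 7 9 : Perm (Fin (m + 9))))
    (by subst hm1; decide +kernel)
  have hka : Commute k F.a := D.odd_comm hk F.az (Cov.odd_of_cube F.a3) (by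
    rw [hkp, F.pma]; show _ = _; subst hm1; decide +kernel)
  have hkb : Commute k F.b := D.odd_comm hk F.bz (Cov.odd_of_cube F.b3) (by
    rw [hkp, F.pmb]; show _ = _; subst hm1; decide +kernel)
  have hJ := (F.mem_Ju.1 hl).1
  have h1 : Commute F.c l := F.c_comm_J h3 l hJ
  have h2 : Commute (k * F.c * k⁻¹) l := by
    have hinJ : k⁻¹ * l * k⁻¹⁻¹ ∈ F.J := F.J_conj_cent hk.inv_left hka.inv_left hkb.inv_left hJ
    have := (comm_conj_iff (g := k)).2 (F.c_comm_J h3 _ hinJ)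
    rwa [show k * (k⁻¹ * l * k⁻¹⁻¹) * k⁻¹ = l by group] at this
  set W := F.c * (k * F.c * k⁻¹)⁻¹
  have hWz : Commute W D.z := F.cz.mul_left (D.comm_conj hk F.cz).inv_left
  have hW2 : W * W = D.z := D.sq_eq_z hWz ⟨6, 9, 7, 8, by subst hm1; decide +kernel, by
    rw [D.pm_mul F.cz (D.comm_conj hk F.cz).inv_left, D.pm_inv (D.comm_conj hk F.cz), D.pm_conj hk F.cz, hkp, F.pmc]
    subst hm1; decide +kernel⟩
  have hWl : Commute W l := h1.mul_left h2.inv_left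
  have hzl : Commute D.z l := hW2 ▸ hWl.mul_left hWl
  exact hl1 (eq_one_fixed_inverted (F.J_odd hJ) hzl hJ.2.2.1)

/-! ### Degree nine -/

/-- Odd elements of the centralizer of `ab` and `z` lie in `T0`. -/
theorem mem_T0_of_odd (hm0 : m = 0) {x : G} (hxz : Commute x D.z) (hxab : Commute x (F.a * F.b))
    (hxo : Odd (orderOf x)) : x ∈ F.T0 := by
  have hσ : Commute (D.pm x) (P9.pa m * P9.pb m) := by rw [← F.pmab]; exact D.comm_pm hxz F.abz hxab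
  have hab : Commute x F.a ∧ Commute x F.b := by
    rcases P9.pres_or_swap F.hm hσ with ⟨h1, h2⟩ | ⟨h1, h2⟩
    · exact ⟨D.odd_comm hxz F.az (Cov.odd_of_cube F.a3) (by rwa [F.pma]),
        D.odd_comm hxz F.bz (Cov.odd_of_cube F.b3) (by rwa [F.pmb])⟩
    · exfalso
      have hc : Commute (F.u * x) F.a ∧ Commute (F.u * x) F.b :=
        ⟨D.odd_comm (D.comm_mul F.uz hxz) F.az (Cov.odd_of_cube F.a3) (by rwa [D.pm_mul F.uz hxz, F.pmu, F.pma]),
          D.odd_comm (D.comm_mul F.uz hxz) F.bz (Cov.odd_of_cube F.b3) (by rwa [D.pm_mul F.uz hxz, F.pmu, F.pmb])⟩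
      have e1 : x * F.a * x⁻¹ = F.b := by
        rw [show x * F.a * x⁻¹ = F.u⁻¹ * (F.u * x * F.a * (F.u * x)⁻¹) * F.u by group, conj_of_comm hc.1, ← F.ub]
        group
      have e2 : x * F.b * x⁻¹ = F.a := by
        rw [show x * F.b * x⁻¹ = F.u⁻¹ * (F.u * x * F.b * (F.u * x)⁻¹) * F.u by group, conj_of_comm hc.2, ← F.ua]
        group
      have h : Commute x F.a := comm_of_comm_sq hxo (comm_of_conj_eq (by
        rw [show x * x * F.a * (x * x)⁻¹ = x * (x * F.a * x⁻¹) * x⁻¹ by group, e1, e2]))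
      exact F.a_ne_b ((conj_of_comm h).symm.trans e1)
  have h3 := P9.comm_third F.hm (σ := D.pm x) (by rw [← F.pma]; exact D.comm_pm hxz F.az hab.1)
    (by rw [← F.pmb]; exact D.comm_pm hxz F.bz hab.2) (D.pm_sign hxz) (by
      intro p h1 h2 h3
      exfalso
      revert h1 h2 h3
      revert p
      subst hm0
      decide +kernel)
  obtain ⟨i, j, k, e | e⟩ := F.triple_cases hxz hab.1 hab.2
    (D.odd_comm hxz F.cz (Cov.odd_of_cube F.c3) (by rwa [F.pmc]))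
  · exact ⟨i, j, k, e⟩
  · have hT : F.a ^ (i : ℕ) * F.b ^ (j : ℕ) * F.c ^ (k : ℕ) ∈ F.T0 := ⟨i, j, k, rfl⟩
    rw [D.odd_ext (F.T0_comm hT).2.2.2.1 hxz (F.odd_T0 hT) hxo (by rw [e, D.pm_mul_z (F.T0_comm hT).2.2.2.1])]
    exact hT

/-- The conjugate of `T0` in the centralizer of `u`. -/
def TU : Subgroup G := F.T0.map (MulAut.conj F.h).toMonoidHom

theorem mem_TU_of (hm0 : m = 0) {x : G} (hxu : Commute x F.u) (hxab : Commute x (F.a * F.b))
    (hxo : Odd (orderOf x)) : x ∈ F.TU := by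
  refine ⟨F.h⁻¹ * x * F.h, F.mem_T0_of_odd hm0 ?_ ?_ ?_, show F.h * (F.h⁻¹ * x * F.h) * F.h⁻¹ = x by group⟩
  · rw [← F.comm_h_z]; rwa [show F.h * (F.h⁻¹ * x * F.h) * F.h⁻¹ = x by group]
  · rw [← F.comm_h_ab]; rwa [show F.h * (F.h⁻¹ * x * F.h) * F.h⁻¹ = x by group]
  · have := Cov.orderOf_conj F.h⁻¹ x
    rw [inv_inv] at this
    rwa [this]

theorem TU_props {x : G} (hx : x ∈ F.TU) :
    Commute x F.u ∧ Commute x (F.a * F.b) ∧ Odd (orderOf x) ∧ x * x * x = 1 := by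
  obtain ⟨t, ht, rfl⟩ := hx
  have h := F.T0_comm ht
  show Commute (F.h * t * F.h⁻¹) F.u ∧ Commute (F.h * t * F.h⁻¹) (F.a * F.b) ∧ Odd (orderOf (F.h * t * F.h⁻¹)) ∧ _
  exact ⟨F.comm_h_z.2 h.2.2.2.1, F.comm_h_ab.2 h.2.2.2.2.1, Cov.odd_of_cube (cube_conj h.2.2.2.2.2),
    cube_conj h.2.2.2.2.2⟩

theorem TU_commute {x y : G} (hx : x ∈ F.TU) (hy : y ∈ F.TU) : Commute x y := by
  obtain ⟨s, hs, rfl⟩ := hx
  obtain ⟨t, ht, rfl⟩ := hy
  exact comm_conj_iff.2 (F.T0_commute hs ht)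

/-- The inverted part of `TU`. -/
def IU : Subgroup G where
  carrier := {x | x ∈ F.TU ∧ D.z * x * D.z⁻¹ = x⁻¹}
  one_mem' := ⟨F.TU.one_mem, by group⟩
  mul_mem' {x y} hx hy := ⟨F.TU.mul_mem hx.1 hy.1, by
    rw [show D.z * (x * y) * D.z⁻¹ = (D.z * x * D.z⁻¹) * (D.z * y * D.z⁻¹) by group, hx.2, hy.2, mul_inv_rev,
      (F.TU_commute hx.1 hy.1).inv_inv.eq]⟩
  inv_mem' {x} hx := ⟨F.TU.inv_mem hx.1, by
    rw [show D.z * x⁻¹ * D.z⁻¹ = (D.z * x * D.z⁻¹)⁻¹ by group, hx.2]⟩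

theorem comm_anb : Commute F.a F.b⁻¹ := F.ab.inv_right

theorem anb_mem : F.a * F.b⁻¹ ∈ F.T0 := F.T0.mul_mem F.a_mem_T0 (F.T0.inv_mem F.b_mem_T0)

theorem u_inv_elem (i k : ℕ) :
    F.u * ((F.a * F.b⁻¹) ^ i * F.c ^ k) * F.u⁻¹ = ((F.a * F.b⁻¹) ^ i * F.c ^ k)⁻¹ := by
  have h1 : F.u * (F.a * F.b⁻¹) * F.u⁻¹ = (F.a * F.b⁻¹)⁻¹ := by
    rw [show F.u * (F.a * F.b⁻¹) * F.u⁻¹ = (F.u * F.a * F.u⁻¹) * (F.u * F.b * F.u⁻¹)⁻¹ by group, F.ua, F.ub,
      mul_inv_rev, inv_inv]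
  rw [show F.u * ((F.a * F.b⁻¹) ^ i * F.c ^ k) * F.u⁻¹ =
    (F.u * (F.a * F.b⁻¹) ^ i * F.u⁻¹) * (F.u * F.c ^ k * F.u⁻¹) by group, ← conj_pow, ← conj_pow, h1, F.uc,
    inv_pow, inv_pow, mul_inv_rev]
  exact ((F.T0_commute (F.T0.pow_mem F.anb_mem i) (F.T0.pow_mem F.c_mem_T0 k))).inv_inv.eq

theorem h_inverted {t : G} (h : F.u * t * F.u⁻¹ = t⁻¹) :
    D.z * (F.h * t * F.h⁻¹) * D.z⁻¹ = (F.h * t * F.h⁻¹)⁻¹ := by
  rw [← F.hu, show F.h * F.u * F.h⁻¹ * (F.h * t * F.h⁻¹) * (F.h * F.u * F.h⁻¹)⁻¹ = F.h * (F.u * t * F.u⁻¹) * F.h⁻¹ by group,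
    h]
  group

theorem card_IU : Nat.card F.IU = 9 := by
  have hmem : ∀ p : Fin 3 × Fin 3, F.h * ((F.a * F.b⁻¹) ^ (p.1 : ℕ) * F.c ^ (p.2 : ℕ)) * F.h⁻¹ ∈ F.IU := fun p =>
    ⟨⟨_, F.T0.mul_mem (F.T0.pow_mem F.anb_mem _) (F.T0.pow_mem F.c_mem_T0 _), rfl⟩, F.h_inverted (F.u_inv_elem _ _)⟩
  have hpm : ∀ p : Fin 3 × Fin 3, D.pm ((F.a * F.b⁻¹) ^ (p.1 : ℕ) * F.c ^ (p.2 : ℕ)) =
      (P9.pa m * (P9.pb m)⁻¹) ^ (p.1 : ℕ) * P9.pc m ^ (p.2 : ℕ) := fun p => by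
    rw [D.pm_mul ((F.az.mul_left F.bz.inv_left).pow_left _) (F.cz.pow_left _),
      D.pm_pow (F.az.mul_left F.bz.inv_left), D.pm_pow F.cz, D.pm_mul F.az F.bz.inv_left, D.pm_inv F.bz, F.pma, F.pmb,
      F.pmc]
  have hb : Function.Bijective (fun p => (⟨_, hmem p⟩ : F.IU)) := by
    constructor
    · intro p q h
      have h' := congrArg Subtype.val h
      simp only [mul_left_inj, mul_right_inj] at h'
      have h'' := congrArg D.pm h'
      rw [hpm, hpm] at h''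
      clear h h' hmem hpm
      revert p q
      rcases F.hm with rfl | rfl <;> decide +kernel
    · rintro ⟨_, ⟨t, ⟨i, j, k, rfl⟩, rfl⟩, hz⟩
      have htm : F.a ^ i * F.b ^ j * F.c ^ k ∈ F.T0 := ⟨i, j, k, rfl⟩
      have hu : F.u * (F.a ^ i * F.b ^ j * F.c ^ k) * F.u⁻¹ = (F.a ^ i * F.b ^ j * F.c ^ k)⁻¹ := by
        set t := F.a ^ i * F.b ^ j * F.c ^ k
        change D.z * (F.h * t * F.h⁻¹) * D.z⁻¹ = (F.h * t * F.h⁻¹)⁻¹ at hz
        rw [← F.hu, show F.h * F.u * F.h⁻¹ * (F.h * t * F.h⁻¹) * (F.h * F.u * F.h⁻¹)⁻¹ =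
          F.h * (F.u * t * F.u⁻¹) * F.h⁻¹ by group, conj_inv, mul_left_inj, mul_right_inj] at hz
        exact hz
      have hj : j % 3 = 2 * i % 3 := by
        have e : F.u * (F.a ^ i * F.b ^ j * F.c ^ k) * F.u⁻¹ * (F.a ^ i * F.b ^ j * F.c ^ k) = 1 := by
          rw [hu, inv_mul_cancel]
        rw [show F.u * (F.a ^ i * F.b ^ j * F.c ^ k) * F.u⁻¹ =
          (F.u * F.a ^ i * F.u⁻¹) * (F.u * F.b ^ j * F.u⁻¹) * (F.u * F.c ^ k * F.u⁻¹) by group,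
          ← conj_pow, ← conj_pow, ← conj_pow, F.ua, F.ub, F.uc, pow_mod_three F.a3, pow_mod_three F.a3 i,
          pow_mod_three F.b3, pow_mod_three F.b3 j, pow_mod_three F.c3 k,
          pow_mod_three (x := F.c⁻¹) (by rw [← mul_inv_rev, ← mul_inv_rev, ← mul_assoc, F.c3, inv_one]) k] at e
        have h := congrArg D.pm e
        have z1 := ((F.bz.pow_left (i % 3)).mul_left (F.az.pow_left (j % 3))).mul_left (F.cz.inv_left.pow_left (k % 3))
        have z2 := (F.az.pow_left (i % 3)).mul_left (F.bz.pow_left (j % 3))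
        rw [D.pm_mul z1 (z2.mul_left (F.cz.pow_left _)), D.pm_mul z2 (F.cz.pow_left _),
          D.pm_mul ((F.bz.pow_left _).mul_left (F.az.pow_left _)) (F.cz.inv_left.pow_left _),
          D.pm_mul (F.bz.pow_left _) (F.az.pow_left _), D.pm_mul (F.az.pow_left _) (F.bz.pow_left _),
          D.pm_pow F.az, D.pm_pow F.az, D.pm_pow F.bz, D.pm_pow F.bz, D.pm_pow F.cz, D.pm_pow F.cz.inv_left,
          D.pm_inv F.cz, F.pma, F.pmb, F.pmc, D.pm_one] at h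
        have key : ∀ i j k : Fin 3, P9.pb m ^ (i : ℕ) * P9.pa m ^ (j : ℕ) * (P9.pc m)⁻¹ ^ (k : ℕ) *
            (P9.pa m ^ (i : ℕ) * P9.pb m ^ (j : ℕ) * P9.pc m ^ (k : ℕ)) = 1 → (j : ℕ) = 2 * (i : ℕ) % 3 := by
          rcases F.hm with rfl | rfl <;> decide +kernel
        have := key ⟨i % 3, Nat.mod_lt _ (by norm_num)⟩ ⟨j % 3, Nat.mod_lt _ (by norm_num)⟩
          ⟨k % 3, Nat.mod_lt _ (by norm_num)⟩ h
        change j % 3 = 2 * (i % 3) % 3 at this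
        omega
      refine ⟨(⟨i % 3, Nat.mod_lt _ (by norm_num)⟩, ⟨k % 3, Nat.mod_lt _ (by norm_num)⟩), Subtype.ext ?_⟩
      show F.h * ((F.a * F.b⁻¹) ^ (i % 3) * F.c ^ (k % 3)) * F.h⁻¹ = F.h * (F.a ^ i * F.b ^ j * F.c ^ k) * F.h⁻¹
      rw [← pow_mod_three (F.T0_comm F.anb_mem).2.2.2.2.2, ← pow_mod_three F.c3, F.comm_anb.mul_pow,
        inv_eq_sq F.b3, ← pow_mul, pow_mod_three F.b3 (2 * i), pow_mod_three F.b3 j, hj]
  rw [← Nat.card_congr (Equiv.ofBijective _ hb), Nat.card_prod, Nat.card_fin]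

/-- A criterion for commuting with all of `TU`. -/
theorem TU_comm_crit {y : G} (hy : Commute (F.a * F.b) y) (hI : ∀ x ∈ F.IU, Commute x y) {w : G} (hw : w ∈ F.TU) :
    Commute w y := by
  obtain ⟨_, ⟨i, j, k, rfl⟩, rfl⟩ := hw
  show Commute (F.h * (F.a ^ i * F.b ^ j * F.c ^ k) * F.h⁻¹) y
  have e : F.a ^ i * F.b ^ j * F.c ^ k =
      (F.a * F.b) ^ (2 * i + 2 * j) * ((F.a * F.b⁻¹) ^ (2 * i + j) * F.c ^ k) := by
    rw [F.ab.mul_pow, F.comm_anb.mul_pow, ← mul_assoc, (F.ab.symm.pow_pow (2 * i + 2 * j) (2 * i + j)).mul_mul_mul_comm,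
      ← pow_add, inv_eq_sq F.b3, ← pow_mul, ← pow_add, pow_mod_three F.a3 (_ + _), pow_mod_three F.b3 (_ + _),
      show (2 * i + 2 * j + (2 * i + j)) % 3 = i % 3 by omega,
      show (2 * i + 2 * j + 2 * (2 * i + j)) % 3 = j % 3 by omega, ← pow_mod_three F.a3, ← pow_mod_three F.b3]
  rw [e, show ∀ p q : G, F.h * (p * q) * F.h⁻¹ = (F.h * p * F.h⁻¹) * (F.h * q * F.h⁻¹) from fun p q => by group,
    ← conj_pow]
  refine Commute.mul_left ?_ (hI _ ⟨⟨_, F.T0.mul_mem (F.T0.pow_mem F.anb_mem _) (F.T0.pow_mem F.c_mem_T0 _), rfl⟩,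
    F.h_inverted (F.u_inv_elem _ _)⟩)
  rcases F.hab with h | h <;> rw [h]
  · exact hy.pow_left _
  · exact hy.inv_left.pow_left _

theorem IU_comm_a_absurd (h3 : Nat.card F.Ju = 3) (h : ∀ x ∈ F.IU, Commute x F.a) : False := by
  have hle : F.IU ≤ F.Ju := fun x hx => by
    have hp := F.TU_props hx.1
    have hxb : Commute x F.b := by
      have := (h x hx).inv_right.mul_right hp.2.1
      rwa [inv_mul_cancel_left] at this
    exact F.mem_Ju.2 ⟨⟨h x hx, hxb, hx.2, hp.2.2.1⟩, hp.1⟩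
  have := Subgroup.card_le_of_le hle
  rw [F.card_IU, h3] at this
  omega

theorem not_TU_comm_c (hm0 : m = 0) : ¬ ∀ x ∈ F.TU, Commute x F.c := by
  intro hall
  set c' := F.h * F.c * F.h⁻¹ with hc'
  have hcab : Commute F.c (F.a * F.b) := F.ac.symm.mul_right F.bc.symm
  have hc'a : Commute c' F.a := by
    have hm : F.h⁻¹ * F.a * F.h ∈ F.TU := by
      refine F.mem_TU_of hm0 ?_ ?_ ?_
      · rw [← F.comm_h_u, show F.h * (F.h⁻¹ * F.a * F.h) * F.h⁻¹ = F.a by group]; exact F.az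
      · rw [← F.comm_h_ab, show F.h * (F.h⁻¹ * F.a * F.h) * F.h⁻¹ = F.a by group]
        exact (Commute.refl _).mul_right F.ab
      · have := Cov.orderOf_conj F.h⁻¹ F.a
        rw [inv_inv] at this
        rw [this]; exact Cov.odd_of_cube F.a3
    have := (comm_conj_iff (g := F.h)).2 (hall _ hm).symm
    rwa [show F.h * (F.h⁻¹ * F.a * F.h) * F.h⁻¹ = F.a by group] at this
  have hbound := F.no_three F.cz F.c3 (by
    rw [F.pmc]
    refine isThreeCycle_of_small (P9.pc3 F.hm) ?_ ?_ <;> rcases F.hm with rfl | rfl <;> decide +kernel)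
    hcab F.uc hc'a
  -- many elements of the core of the centralizer of `c`
  have hS : 243 ≤ {x | x ∈ Oc F.c ∧ Commute x (F.a * F.b)}.ncard := by
    have hκ : F.κ * F.κ * F.a * (F.κ * F.κ)⁻¹ = F.c := by
      rw [show F.κ * F.κ * F.a * (F.κ * F.κ)⁻¹ = F.κ * (F.κ * F.a * F.κ⁻¹) * F.κ⁻¹ by group, F.ka, F.kb]
    have htab : F.τ * (F.a * F.b) * F.τ⁻¹ = (F.a * F.b)⁻¹ := by
      rw [show F.τ * (F.a * F.b) * F.τ⁻¹ = (F.τ * F.a * F.τ⁻¹) * (F.τ * F.b * F.τ⁻¹) by group, F.ta, F.tb, mul_inv_rev,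
        F.ab.inv_inv.eq]
    have hy : ∀ x ∈ F.IU, Commute (F.τ * x * F.τ⁻¹) F.c ∧ Commute (F.τ * x * F.τ⁻¹) (F.a * F.b) ∧
        Odd (orderOf (F.τ * x * F.τ⁻¹)) := fun x hx => by
      refine ⟨?_, ?_, by rw [Cov.orderOf_conj]; exact (F.TU_props hx.1).2.2.1⟩
      · have := (comm_conj_iff (g := F.τ)).2 (hall x hx.1)
        rwa [conj_of_comm F.tc] at this
      · have := (comm_conj_iff (g := F.τ)).2 (F.TU_props hx.1).2.1
        rw [htab] at this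
        exact Commute.inv_right_iff.1 this
    let f : Fin 3 × F.IU × F.IU → {x | x ∈ Oc F.c ∧ Commute x (F.a * F.b)} := fun p =>
      ⟨F.c ^ (p.1 : ℕ) * (p.2.1 : G) * (F.τ * (p.2.2 : G) * F.τ⁻¹), by
        refine ⟨(Oc F.c).mul_mem ((Oc F.c).mul_mem ((Oc F.c).pow_mem (self_mem_Oc (Cov.odd_of_cube F.c3)) _) ?_) ?_, ?_⟩
        · exact F.inv_mem_Oc (D.comm_mul F.kz F.kz) hκ (hall _ p.2.1.2.1) p.2.1.2.2 (F.TU_props p.2.1.2.1).2.2.1
        · exact F.inv_mem_Oc (D.comm_mul F.kz F.kz) hκ (hy _ p.2.2.2).1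
            (F.t_conj_inverted p.2.2.2.2 (F.TU_props p.2.2.2.1).1).1 (hy _ p.2.2.2).2.2
        · exact ((hcab.pow_left _).mul_left (F.TU_props p.2.1.2.1).2.1).mul_left (hy _ p.2.2.2).2.1⟩
    have hf : Function.Injective f := by
      rintro ⟨r, ⟨x, hx⟩, ⟨w, hw⟩⟩ ⟨r', ⟨x', hx'⟩, ⟨w', hw'⟩⟩ h
      have h' : F.c ^ (r : ℕ) * x * (F.τ * w * F.τ⁻¹) = F.c ^ (r' : ℕ) * x' * (F.τ * w' * F.τ⁻¹) :=
        congrArg Subtype.val h
      set y := F.τ * w * F.τ⁻¹ with hydef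
      set y' := F.τ * w' * F.τ⁻¹ with hy'def
      obtain ⟨hyz, hyu⟩ := F.t_conj_inverted hw.2 (F.TU_props hw.1).1
      obtain ⟨hy'z, hy'u⟩ := F.t_conj_inverted hw'.2 (F.TU_props hw'.1).1
      rw [← hydef] at hyz hyu
      rw [← hy'def] at hy'z hy'u
      set d := (F.c ^ (r' : ℕ))⁻¹ * F.c ^ (r : ℕ) with hd
      have hdx : ∀ v, Commute F.c v → Commute d v := fun v hv => (hv.pow_left _).inv_left.mul_left (hv.pow_left _)
      have e0 : d * x * y = x' * y' := by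
        calc d * x * y = (F.c ^ (r' : ℕ))⁻¹ * (F.c ^ (r : ℕ) * x * y) := by rw [hd]; group
          _ = x' * y' := by rw [h']; group
      have e1 : x'⁻¹ * d * x = y' * y⁻¹ := by
        calc x'⁻¹ * d * x = x'⁻¹ * (d * x * y) * y⁻¹ := by group
          _ = y' * y⁻¹ := by rw [e0]; group
      have hdu : F.u * d * F.u⁻¹ = d⁻¹ := by
        rw [hd, show F.u * ((F.c ^ (r' : ℕ))⁻¹ * F.c ^ (r : ℕ)) * F.u⁻¹ =
          (F.u * F.c ^ (r' : ℕ) * F.u⁻¹)⁻¹ * (F.u * F.c ^ (r : ℕ) * F.u⁻¹) by group, ← conj_pow, ← conj_pow, F.uc,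
          inv_pow, inv_pow, mul_inv_rev, inv_inv]
        exact ((Commute.refl F.c).pow_pow _ _).inv_right.eq
      have hdz : D.z * d * D.z⁻¹ = d := conj_of_comm (hdx _ F.cz).symm
      have e2 : x'⁻¹ * d⁻¹ * x = y'⁻¹ * y := by
        have := congrArg (fun v => F.u * v * F.u⁻¹) e1
        rw [show F.u * (x'⁻¹ * d * x) * F.u⁻¹ = (F.u * x' * F.u⁻¹)⁻¹ * (F.u * d * F.u⁻¹) * (F.u * x * F.u⁻¹) by group,
          show F.u * (y' * y⁻¹) * F.u⁻¹ = (F.u * y' * F.u⁻¹) * (F.u * y * F.u⁻¹)⁻¹ by group,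
          conj_of_comm (F.TU_props hx'.1).1.symm, conj_of_comm (F.TU_props hx.1).1.symm, hdu, hyu, hy'u, inv_inv] at this
        exact this
      have e3 : x' * d * x⁻¹ = y'⁻¹ * y := by
        have := congrArg (fun v => D.z * v * D.z⁻¹) e1
        rw [show D.z * (x'⁻¹ * d * x) * D.z⁻¹ = (D.z * x' * D.z⁻¹)⁻¹ * (D.z * d * D.z⁻¹) * (D.z * x * D.z⁻¹) by group,
          show D.z * (y' * y⁻¹) * D.z⁻¹ = (D.z * y' * D.z⁻¹) * (D.z * y * D.z⁻¹)⁻¹ by group,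
          hx.2, hx'.2, hdz, hyz, hy'z, inv_inv, inv_inv] at this
        exact this
      have e4 := e3.trans e2.symm
      have hcx : Commute d x' := hdx _ (hall x' hx'.1).symm
      have e5 : d * d * (x' * x') = x * x := by
        have h1 : x' * d * x⁻¹ * (x * x) = x' * d * x := by group
        rw [e4] at h1
        calc d * d * (x' * x') = d * (x' * (x' * d)) := by
              rw [mul_assoc, ← mul_assoc d x' x', hcx.eq, mul_assoc x' d x', hcx.eq]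
          _ = d * (x' * (x'⁻¹ * d⁻¹ * x * (x * x) * x⁻¹)) := by rw [h1, mul_inv_cancel_right]
          _ = x * x := by group
      have hd1 : d = 1 := by
        have hfix : Commute (d * d) F.u := by
          have : Commute (x * x * (x' * x')⁻¹) F.u := ((F.TU_props hx.1).1.mul_left (F.TU_props hx.1).1).mul_left
            ((F.TU_props hx'.1).1.mul_left (F.TU_props hx'.1).1).inv_left
          rwa [← e5, mul_inv_cancel_right] at this
        have hdo : Odd (orderOf d) := Cov.odd_of_cube (F.T0_comm (show d ∈ F.T0 from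
          F.T0.mul_mem (F.T0.inv_mem (F.T0.pow_mem F.c_mem_T0 _)) (F.T0.pow_mem F.c_mem_T0 _))).2.2.2.2.2
        exact eq_one_fixed_inverted hdo (comm_of_comm_sq hdo hfix).symm hdu
      rw [hd1, one_mul, one_mul] at e5
      have hxx : x' = x := sq_inj (F.TU_props hx'.1).2.2.1 (F.TU_props hx.1).2.2.1 e5
      subst hxx
      rw [hd, inv_mul_eq_one, pow_inj_mod, orderOf_eq_three F.c3 (fun h => by
        have := F.pmc; rw [h, D.pm_one] at this; revert this; rcases F.hm with rfl | rfl <;> decide +kernel),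
        Nat.mod_eq_of_lt r.2, Nat.mod_eq_of_lt r'.2] at hd1
      have hr := Fin.ext hd1
      subst hr
      have hw1 := mul_left_cancel h'
      rw [hydef, hy'def, mul_left_inj, mul_right_inj] at hw1
      subst hw1
      rfl
    have := Nat.card_le_card_of_injective f hf
    rw [Nat.card_prod, Nat.card_prod, Nat.card_fin, F.card_IU, Nat.card_coe_set_eq] at this
    omega
  have hbc : 243 ≤ {x | x ∈ Oc F.a ∧ Commute x (F.b * F.c)}.ncard := by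
    refine hS.trans (Set.ncard_le_ncard_of_injOn (fun x => F.κ * x * F.κ⁻¹) ?_ (fun x _ y _ h => ?_) (Set.toFinite _))
    · rintro x ⟨hx, hxc⟩
      have h := Oc_conj F.κ hx
      rw [F.kc] at h
      refine ⟨h, ?_⟩
      have := (comm_conj_iff (g := F.κ)).2 hxc
      rwa [show F.κ * (F.a * F.b) * F.κ⁻¹ = (F.κ * F.a * F.κ⁻¹) * (F.κ * F.b * F.κ⁻¹) by group, F.ka, F.kb] at this
    · exact mul_left_cancel (mul_right_cancel h)
  have := Nat.mul_le_mul hbc hbc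
  have := F.square_le_bc
  omega

set_option maxHeartbeats 800000 in
/-- Degree nine. -/
theorem three_nine (hm0 : m = 0) : Nat.card F.Ju ≠ 3 := by
  intro h3
  obtain ⟨l₁, hl₁, hl₁1⟩ := F.exists_gen h3
  -- normalise the generator
  obtain ⟨l, hl, hl1, k, hk, ht₀⟩ : ∃ l ∈ F.Ju, l ≠ 1 ∧ ∃ k : ℕ, (k = 1 ∨ k = 2) ∧
      F.h * l * F.h⁻¹ = F.a * F.b⁻¹ * F.c ^ k := by
    have hJ := (F.mem_Ju.1 hl₁).1
    have hlu := (F.mem_Ju.1 hl₁).2
    set t := F.h * l₁ * F.h⁻¹ with ht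
    have htT : t ∈ F.T0 := F.mem_T0_of_odd hm0 (F.comm_h_u.2 hlu) (F.comm_h_ab.2 (hJ.1.mul_right hJ.2.1))
      (by rw [ht, Cov.orderOf_conj]; exact hJ.2.2.2)
    have htTU : ∀ w ∈ F.TU, Commute w t := by
      rintro _ ⟨s, hs, rfl⟩
      refine comm_conj_iff.2 ?_
      obtain ⟨i, j, k, rfl⟩ := hs
      exact ((hJ.1.symm.pow_left i).mul_left (hJ.2.1.symm.pow_left j)).mul_left ((F.c_comm_J h3 _ hJ).pow_left k)
    have htu : F.u * t * F.u⁻¹ = t⁻¹ := by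
      rw [ht, ← F.hz, show F.h * D.z * F.h⁻¹ * (F.h * l₁ * F.h⁻¹) * (F.h * D.z * F.h⁻¹)⁻¹ =
        F.h * (D.z * l₁ * D.z⁻¹) * F.h⁻¹ by group, hJ.2.2.1]
      group
    -- it lies among the nine inverted members
    have hin : F.h * t * F.h⁻¹ ∈ F.IU := ⟨⟨t, htT, rfl⟩, F.h_inverted htu⟩
    obtain ⟨i, k, hik⟩ : ∃ i k : Fin 3, t = (F.a * F.b⁻¹) ^ (i : ℕ) * F.c ^ (k : ℕ) := by
      have hmem : ∀ p : Fin 3 × Fin 3, F.h * ((F.a * F.b⁻¹) ^ (p.1 : ℕ) * F.c ^ (p.2 : ℕ)) * F.h⁻¹ ∈ F.IU := fun p =>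
        ⟨⟨_, F.T0.mul_mem (F.T0.pow_mem F.anb_mem _) (F.T0.pow_mem F.c_mem_T0 _), rfl⟩, F.h_inverted (F.u_inv_elem _ _)⟩
      have hinj : Function.Injective (fun p => (⟨_, hmem p⟩ : F.IU)) := by
        intro p q h
        have h' := congrArg Subtype.val h
        simp only [mul_left_inj, mul_right_inj] at h'
        have h'' := congrArg D.pm h'
        rw [D.pm_mul ((F.az.mul_left F.bz.inv_left).pow_left _) (F.cz.pow_left _),
          D.pm_mul ((F.az.mul_left F.bz.inv_left).pow_left _) (F.cz.pow_left _),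
          D.pm_pow (F.az.mul_left F.bz.inv_left), D.pm_pow (F.az.mul_left F.bz.inv_left), D.pm_pow F.cz, D.pm_pow F.cz,
          D.pm_mul F.az F.bz.inv_left, D.pm_inv F.bz, F.pma, F.pmb, F.pmc] at h''
        clear h h' hmem
        revert p q
        subst hm0
        decide +kernel
      obtain ⟨p, hp⟩ := ((Nat.bijective_iff_injective_and_card _).2
        ⟨hinj, by rw [Nat.card_prod, Nat.card_fin, F.card_IU]⟩).2 ⟨_, hin⟩
      have hp' := congrArg Subtype.val hp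
      simp only [mul_left_inj, mul_right_inj] at hp'
      exact ⟨p.1, p.2, hp'.symm⟩
    have ht1 : t ≠ 1 := fun h => hl₁1 (by rw [ht, mul_inv_eq_one, mul_eq_left] at h; exact h)
    have hi0 : (i : ℕ) ≠ 0 := fun h => by
      rw [h, pow_zero, one_mul] at hik
      refine F.not_TU_comm_c hm0 fun w hw => ?_
      rcases (by omega : (k : ℕ) = 0 ∨ (k : ℕ) = 1 ∨ (k : ℕ) = 2) with e | e | e <;> rw [e] at hik
      · exact absurd (hik.trans (pow_zero _)) ht1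
      · have := htTU w hw; rwa [hik, pow_one] at this
      · have := htTU w hw
        rw [hik, ← inv_eq_sq F.c3] at this
        exact Commute.inv_right_iff.1 this
    have hk0 : (k : ℕ) ≠ 0 := fun h => by
      rw [h, pow_zero, mul_one] at hik
      refine F.IU_comm_a_absurd h3 fun w hw => ?_
      have h1 := htTU w hw.1
      have h2 : Commute w (F.a * F.b⁻¹) := by
        rcases (by omega : (i : ℕ) = 1 ∨ (i : ℕ) = 2) with e | e <;> rw [e] at hik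
        · rwa [hik, pow_one] at h1
        · rw [hik, ← inv_eq_sq (F.T0_comm F.anb_mem).2.2.2.2.2] at h1
          exact Commute.inv_right_iff.1 h1
      have h4 := h2.mul_right (F.TU_props hw.1).2.1
      rw [show F.a * F.b⁻¹ * (F.a * F.b) = F.a * (F.b⁻¹ * F.a) * F.b by group, F.comm_anb.symm.eq,
        show F.a * (F.a * F.b⁻¹) * F.b = F.a ^ 2 by rw [pow_two]; group, ← inv_eq_sq F.a3] at h4
      exact Commute.inv_right_iff.1 h4
    rcases (by omega : (i : ℕ) = 1 ∨ (i : ℕ) = 2) with e | e <;> rw [e] at hik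
    · exact ⟨l₁, hl₁, hl₁1, k, by omega, by rw [pow_one] at hik; exact hik⟩
    · refine ⟨l₁⁻¹, F.Ju.inv_mem hl₁, inv_ne_one.2 hl₁1, 3 - k, by omega, ?_⟩
      rw [← conj_inv, ← ht, hik, mul_inv_rev, ← inv_eq_sq (F.T0_comm F.anb_mem).2.2.2.2.2, inv_inv,
        (F.T0_commute (F.T0.inv_mem (F.T0.pow_mem F.c_mem_T0 _)) F.anb_mem).eq]
      congr 1
      refine inv_eq_of_mul_eq_one_right ?_
      rw [← pow_add, show (k : ℕ) + (3 - (k : ℕ)) = 3 by omega, pow_succ, pow_two, F.c3]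
  obtain ⟨ho, hl3, hgen, htt, hl'J, hll'⟩ := F.gen_facts h3 hl hl1
  set l' := F.τ * l * F.τ⁻¹ with hl'def
  have hJ := (F.mem_Ju.1 hl).1
  have hlu := (F.mem_Ju.1 hl).2
  set e := F.c ^ k with he
  set t₀ := F.a * F.b⁻¹ * e with ht₀def
  have het : e ∈ F.T0 := F.T0.pow_mem F.c_mem_T0 k
  have ht₀T : t₀ ∈ F.T0 := F.T0.mul_mem F.anb_mem het
  have ht₀TU : ∀ w ∈ F.TU, Commute w t₀ := by
    rintro _ ⟨s, hs, rfl⟩
    rw [← ht₀]
    refine comm_conj_iff.2 ?_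
    obtain ⟨i, j, r, rfl⟩ := hs
    exact ((hJ.1.symm.pow_left i).mul_left (hJ.2.1.symm.pow_left j)).mul_left ((F.c_comm_J h3 _ hJ).pow_left r)
  have hc_of_e : ∀ w : G, Commute w e → Commute w F.c := fun w hw => by
    rcases hk with rfl | rfl
    · rwa [he, pow_one] at hw
    · rw [he, ← inv_eq_sq F.c3] at hw
      exact Commute.inv_right_iff.1 hw
  -- the key criterion
  set t₁ := F.τ⁻¹ * t₀ * F.τ with ht₁def
  have ht₁ : t₁ = F.a⁻¹ * F.b * e := by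
    have ha : F.τ⁻¹ * F.a * F.τ = F.a⁻¹ := by
      calc F.τ⁻¹ * F.a * F.τ = F.τ⁻¹ * (F.τ * F.a⁻¹ * F.τ⁻¹) * F.τ := by rw [← conj_inv, F.ta, inv_inv]
        _ = F.a⁻¹ := by group
    have hb : F.τ⁻¹ * F.b * F.τ = F.b⁻¹ := by
      calc F.τ⁻¹ * F.b * F.τ = F.τ⁻¹ * (F.τ * F.b⁻¹ * F.τ⁻¹) * F.τ := by rw [← conj_inv, F.tb, inv_inv]
        _ = F.b⁻¹ := by group
    have hc : F.τ⁻¹ * e * F.τ = e := by
      rw [mul_assoc, (F.tc.symm.pow_left k).eq, inv_mul_cancel_left]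
    rw [ht₁def, ht₀def, show F.τ⁻¹ * (F.a * F.b⁻¹ * e) * F.τ =
      (F.τ⁻¹ * F.a * F.τ) * (F.τ⁻¹ * F.b * F.τ)⁻¹ * (F.τ⁻¹ * e * F.τ) by group, ha, hb, hc, inv_inv]
  have hcrit : ¬ ∀ w ∈ F.TU, Commute w t₁ := fun h => by
    refine F.not_TU_comm_c hm0 fun w hw => hc_of_e w ?_
    have h2 := (ht₀TU w hw).mul_right (h w hw)
    have hT1 : F.a⁻¹ * F.b ∈ F.T0 := F.T0.mul_mem (F.T0.inv_mem F.a_mem_T0) F.b_mem_T0
    rw [ht₀def, ht₁, (F.T0_commute het hT1).mul_mul_mul_comm, show F.a * F.b⁻¹ * (F.a⁻¹ * F.b) = 1 by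
      rw [show F.a * F.b⁻¹ * (F.a⁻¹ * F.b) = F.a * (F.b⁻¹ * F.a⁻¹) * F.b by group, F.ab.symm.inv_inv.eq]; group,
      one_mul] at h2
    exact (comm_of_comm_sq (F.odd_T0 het) h2.symm).symm
  -- the element `s`
  obtain ⟨π, hπs, hπ3, hπa, hπb, hπe, hπW⟩ : ∃ π : Perm (Fin (m + 9)), Perm.sign π = 1 ∧ π * π * π = 1 ∧
      π * P9.pa m * π⁻¹ = (P9.pb m)⁻¹ ∧ π * P9.pb m * π⁻¹ = (P9.pc m ^ k)⁻¹ ∧ π * P9.pc m ^ k * π⁻¹ = P9.pa m ∧
      IsDouble (P9.pt m * π * (P9.pt m)⁻¹ * π⁻¹) := by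
    subst hm0
    rcases hk with rfl | rfl
    · exact ⟨swap 0 3 * swap 3 6 * (swap 1 5 * swap 5 7) * (swap 2 4 * swap 4 8), by decide +kernel, by decide +kernel,
        by decide +kernel, by decide +kernel, by decide +kernel, ⟨1, 2, 7, 8, by decide +kernel, by decide +kernel⟩⟩
    · exact ⟨swap 0 3 * swap 3 6 * (swap 1 5 * swap 5 8) * (swap 2 4 * swap 4 7), by decide +kernel, by decide +kernel,
        by decide +kernel, by decide +kernel, by decide +kernel, ⟨1, 2, 7, 8, by decide +kernel, by decide +kernel⟩⟩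
  obtain ⟨s, hsz, hs3, hsp⟩ := D.exists_three hπs hπ3
  have hez : Commute e D.z := F.cz.pow_left k
  have heo : Odd (orderOf e) := F.odd_T0 het
  have hpe : D.pm e = P9.pc m ^ k := by rw [he, D.pm_pow F.cz, F.pmc]
  have sa : s * F.a * s⁻¹ = F.b⁻¹ := D.odd_conj hsz F.az F.bz.inv_left (Cov.odd_of_cube F.a3) (odd_inv F.b3)
    (by rw [D.pm_inv F.bz, hsp, F.pma, F.pmb, hπa])
  have sb : s * F.b * s⁻¹ = e⁻¹ := D.odd_conj hsz F.bz hez.inv_left (Cov.odd_of_cube F.b3)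
    (by rw [orderOf_inv]; exact heo) (by rw [D.pm_inv hez, hsp, F.pmb, hpe, hπb])
  have se : s * e * s⁻¹ = F.a := D.odd_conj hsz hez F.az heo (Cov.odd_of_cube F.a3)
    (by rw [hsp, F.pma, hpe, hπe])
  have hab_e : Commute (F.a * F.b) e := (F.T0_comm het).2.2.2.2.1.symm
  have st : s * t₀ * s⁻¹ = t₀ := by
    rw [ht₀def, show s * (F.a * F.b⁻¹ * e) * s⁻¹ = (s * F.a * s⁻¹) * (s * F.b * s⁻¹)⁻¹ * (s * e * s⁻¹) by group,
      sa, sb, se, inv_inv, mul_assoc, (F.T0_commute het F.a_mem_T0).eq, ← mul_assoc, F.comm_anb.symm.eq]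
  have sab : s * (F.a * F.b) * s⁻¹ = F.a * F.b * t₀⁻¹ := by
    rw [show s * (F.a * F.b) * s⁻¹ = (s * F.a * s⁻¹) * (s * F.b * s⁻¹) by group, sa, sb, ht₀def, mul_inv_rev,
      ← mul_assoc, hab_e.inv_right.eq, mul_assoc e⁻¹, show F.a * F.b * (F.a * F.b⁻¹)⁻¹ = F.a * F.b * F.b * F.a⁻¹ by group,
      show F.a * F.b * F.b = F.a * F.b ^ 2 by rw [pow_two, mul_assoc], ← inv_eq_sq F.b3, F.comm_anb.eq, mul_inv_cancel_right]
    exact (F.T0_commute (F.T0.inv_mem F.b_mem_T0) (F.T0.inv_mem het)).eq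
  have sT0 : ∀ t ∈ F.T0, s * t * s⁻¹ ∈ F.T0 := by
    rintro _ ⟨i, j, r, rfl⟩
    have sc : s * F.c * s⁻¹ ∈ F.T0 := by
      have hmem : s * e ^ k * s⁻¹ ∈ F.T0 := by rw [← conj_pow, se]; exact F.T0.pow_mem F.a_mem_T0 k
      have : e ^ k = F.c := by
        rw [he, ← pow_mul, pow_mod_three F.c3, show k * k % 3 = 1 by rcases hk with rfl | rfl <;> rfl, pow_one]
      rwa [this] at hmem
    rw [show s * (F.a ^ i * F.b ^ j * F.c ^ r) * s⁻¹ = (s * F.a ^ i * s⁻¹) * (s * F.b ^ j * s⁻¹) * (s * F.c ^ r * s⁻¹) by group,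
      ← conj_pow, ← conj_pow, ← conj_pow, sa, sb]
    exact F.T0.mul_mem (F.T0.mul_mem (F.T0.pow_mem (F.T0.inv_mem F.b_mem_T0) i) (F.T0.pow_mem (F.T0.inv_mem het) j))
      (F.T0.pow_mem sc r)
  have sJ : ∀ x ∈ F.J, s * x * s⁻¹ ∈ F.J := fun x hx => by
    refine ⟨?_, ?_, ?_, by rw [Cov.orderOf_conj]; exact hx.2.2.2⟩
    · rw [← se]; exact comm_conj_iff.2 ((F.c_comm_J h3 x hx).symm.pow_right k)
    · have := (comm_conj_iff (g := s)).2 hx.1
      rw [sa] at this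
      exact Commute.inv_right_iff.1 this
    · rw [show D.z * (s * x * s⁻¹) * D.z⁻¹ = (D.z * s) * x * (D.z * s)⁻¹ by group, hsz.symm.eq,
        show s * D.z * x * (s * D.z)⁻¹ = s * (D.z * x * D.z⁻¹) * s⁻¹ by group, hx.2.2.1]
      group
  -- the centralizer of the pair and its core
  set X : Subgroup G := Subgroup.centralizer {F.a * F.b} ⊓ Subgroup.centralizer {t₀} with hX
  have memX : ∀ x, x ∈ X ↔ Commute x (F.a * F.b) ∧ Commute x t₀ := fun x => by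
    rw [hX, Subgroup.mem_inf, Subgroup.mem_centralizer_singleton_iff, Subgroup.mem_centralizer_singleton_iff]; rfl
  have hXC : ∀ x ∈ X, Commute x D.z → x ∈ F.T0 ∨ x * D.z ∈ F.T0 := by
    intro x hx hxz
    obtain ⟨hxab, hxt⟩ := (memX x).1 hx
    have hσ : Commute (D.pm x) (P9.pa m * P9.pb m) := by rw [← F.pmab]; exact D.comm_pm hxz F.abz hxab
    rcases P9.pres_or_swap F.hm hσ with ⟨h1, h2⟩ | ⟨h1, h2⟩
    · have ha : Commute x F.a := D.odd_comm hxz F.az (Cov.odd_of_cube F.a3) (by rwa [F.pma])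
      have hb : Commute x F.b := D.odd_comm hxz F.bz (Cov.odd_of_cube F.b3) (by rwa [F.pmb])
      have he' : Commute x e := by
        have := (ha.mul_right hb.inv_right).inv_right.mul_right hxt
        rwa [ht₀def, inv_mul_cancel_left] at this
      obtain ⟨i, j, r, h | h⟩ := F.triple_cases hxz ha hb (hc_of_e x he')
      · exact Or.inl ⟨i, j, r, h⟩
      · exact Or.inr ⟨i, j, r, by rw [h, mul_assoc, D.zz, mul_one]⟩
    · exfalso
      have hux := D.comm_mul F.uz hxz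
      have ha : Commute (F.u * x) F.a := D.odd_comm hux F.az (Cov.odd_of_cube F.a3)
        (by rwa [D.pm_mul F.uz hxz, F.pmu, F.pma])
      have hb : Commute (F.u * x) F.b := D.odd_comm hux F.bz (Cov.odd_of_cube F.b3)
        (by rwa [D.pm_mul F.uz hxz, F.pmu, F.pmb])
      have e1 : x * F.a * x⁻¹ = F.b := by
        rw [show x * F.a * x⁻¹ = F.u⁻¹ * (F.u * x * F.a * (F.u * x)⁻¹) * F.u by group, conj_of_comm ha, ← F.ub]
        group
      have e2 : x * F.b * x⁻¹ = F.a := by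
        rw [show x * F.b * x⁻¹ = F.u⁻¹ * (F.u * x * F.b * (F.u * x)⁻¹) * F.u by group, conj_of_comm hb, ← F.ua]
        group
      have h := conj_of_comm hxt
      rw [ht₀def, show x * (F.a * F.b⁻¹ * e) * x⁻¹ = (x * F.a * x⁻¹) * (x * F.b * x⁻¹)⁻¹ * (x * e * x⁻¹) by group,
        e1, e2, ← eq_inv_mul_iff_mul_eq] at h
      have hp := congrArg D.pm h
      rw [D.pm_conj hxz hez, D.pm_mul (F.bz.mul_left F.az.inv_left).inv_left ((F.az.mul_left F.bz.inv_left).mul_left hez),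
        D.pm_inv (F.bz.mul_left F.az.inv_left), D.pm_mul F.bz F.az.inv_left, D.pm_inv F.az,
        D.pm_mul (F.az.mul_left F.bz.inv_left) hez, D.pm_mul F.az F.bz.inv_left, D.pm_inv F.bz, F.pma, F.pmb, hpe] at hp
      have hc := congrArg (fun π : Perm (Fin (m + 9)) => π.support.card) hp
      simp only [Perm.card_support_conj] at hc
      revert hc
      subst hm0
      rcases hk with rfl | rfl <;> decide +kernel
  have hzX : D.z ∈ X := (memX _).2 ⟨F.abz.symm, (F.T0_comm ht₀T).2.2.2.1.symm⟩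
  have hiso : Cfsg.IsIsolatedInvolution (⟨D.z, hzX⟩ : X) := by
    refine ⟨(Subgroup.orderOf_mk _ _).trans (orderOf_eq_prime (p := 2) (by rw [pow_two, D.zz]) D.z1), fun g hc => ?_⟩
    refine Subtype.ext ?_
    set w := (g : G) * D.z * (g : G)⁻¹ with hw
    have hwz : Commute w D.z := Commute.symm (congrArg Subtype.val hc)
    have hwX : w ∈ X := X.mul_mem (X.mul_mem g.2 hzX) (X.inv_mem g.2)
    have hw2 : w * w = 1 := by
      rw [hw, show (g : G) * D.z * (g : G)⁻¹ * ((g : G) * D.z * (g : G)⁻¹) = (g : G) * (D.z * D.z) * (g : G)⁻¹ by group,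
        D.zz, mul_one, mul_inv_cancel]
    rcases hXC w hwX hwz with h | h
    · have e1 := eq_one_of_sq (F.odd_T0 h) hw2
      rw [hw, mul_inv_eq_one, mul_eq_left] at e1
      exact absurd e1 D.z1
    · have e1 := eq_one_of_sq (F.odd_T0 h) (by rw [hwz.symm.mul_mul_mul_comm, hw2, D.zz, one_mul])
      rw [mul_eq_one_iff_eq_inv, inv_eq_of_mul_eq_one_right D.zz] at e1
      exact e1
  set O' := Cfsg.pPrimeCore 2 X with hO'
  haveI hO'n : O'.Normal := by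
    show (Cfsg.pPrimeCore 2 X).Normal
    unfold Cfsg.pPrimeCore
    exact Cfsg.Lib.Components.normal_of_mem_sSup_normal fun N hN => hN.1
  have hT0X : F.T0 ≤ X := fun t ht => (memX t).2 ⟨(F.T0_comm ht).2.2.2.2.1, F.T0_commute ht ht₀T⟩
  set OD : Subgroup G := O'.map X.subtype with hOD
  have hOD_le : OD ≤ X := by rintro _ ⟨w, -, rfl⟩; exact w.2
  set O := F.T0 ⊔ OD with hOdef
  have hOX : O ≤ X := sup_le hT0X hOD_le
  have hOodd : Odd (Nat.card O) := by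
    have he : O = (O' ⊔ F.T0.subgroupOf X).map X.subtype := by
      rw [Subgroup.map_sup, Subgroup.map_subgroupOf_eq_of_le hT0X, sup_comm]
    rw [he, Subgroup.card_map_of_injective X.subtype_injective]
    refine Odd.of_dvd_nat ?_ (Cfsg.Lib.Components.card_sup_dvd_mul O' (F.T0.subgroupOf X))
    refine Cfsg.Lib.ZStarApps.odd_card_pPrimeCore.mul ?_
    rw [Nat.card_congr (Subgroup.subgroupOfEquivOfLe hT0X).toEquiv, F.card_T0]
    decide
  have hinvOD : ∀ g ∈ X, D.z * g * D.z⁻¹ = g⁻¹ → Odd (orderOf g) → g ∈ O := by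
    intro g hg hgi hgo
    refine Subgroup.mem_sup_right ?_
    have h : D.z * g * D.z⁻¹ * g⁻¹ ∈ OD := ⟨_, Cfsg.Lib.ZStarApps.zstarProp hiso ⟨g, hg⟩, rfl⟩
    rw [hgi] at h
    refine mem_of_sq_mem hgo ?_
    have := OD.inv_mem h
    rwa [mul_inv_rev, inv_inv] at this
  have hconjO : ∀ g, (∀ x ∈ X, g * x * g⁻¹ ∈ X) → (∀ t ∈ F.T0, g * t * g⁻¹ ∈ F.T0) → ∀ x ∈ O, g * x * g⁻¹ ∈ O := by
    intro g hgX hgT x hx
    have hle : O.map (MulAut.conj g).toMonoidHom ≤ O := by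
      rw [Subgroup.map_sup]
      refine sup_le ?_ ?_
      · rintro _ ⟨t, ht, rfl⟩
        exact Subgroup.mem_sup_left (hgT t ht)
      · set N := OD.map (MulAut.conj g).toMonoidHom with hN
        have hNX : N ≤ X := by
          rintro _ ⟨w, hw, rfl⟩
          exact hgX w (hOD_le hw)
        haveI : (N.subgroupOf X).Normal := by
          refine ⟨fun y hy r => ?_⟩
          obtain ⟨w, hw, hwy⟩ := hy
          obtain ⟨w', hw', rfl⟩ := hw
          set r' : X := ⟨g⁻¹ * (r : G) * g, conj_conj_mem hgX r.2⟩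
          refine ⟨_, ⟨r' * w' * r'⁻¹, hO'n.conj_mem w' hw' r', rfl⟩, ?_⟩
          show g * ((g⁻¹ * (r : G) * g) * (w' : G) * (g⁻¹ * (r : G) * g)⁻¹) * g⁻¹ = (r : G) * (y : G) * (r : G)⁻¹
          have e1 : g * (w' : G) * g⁻¹ = (y : G) := hwy
          rw [← e1]; group
        intro w hw
        refine Subgroup.mem_sup_right ⟨⟨w, hNX hw⟩, Cfsg.Lib.Components.le_pPrimeCore ?_
          (show (⟨w, hNX hw⟩ : X) ∈ N.subgroupOf X from hw), rfl⟩
        rw [Nat.card_congr (Subgroup.subgroupOfEquivOfLe hNX).toEquiv, hN,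
          Subgroup.card_map_of_injective (MulAut.conj g).injective, hOD,
          Subgroup.card_map_of_injective X.subtype_injective]
        exact Cfsg.Lib.ZStarApps.odd_card_pPrimeCore.coprime_two_right
    exact hle ⟨x, hx, rfl⟩
  have hut : F.u * t₀ * F.u⁻¹ = t₀⁻¹ := F.u_inv_elem 1 k |> fun h => by rwa [pow_one] at h
  have hXconj : ∀ g, g * (F.a * F.b) * g⁻¹ = F.a * F.b → (g * t₀ * g⁻¹ = t₀ ∨ g * t₀ * g⁻¹ = t₀⁻¹) →
      ∀ x ∈ X, g * x * g⁻¹ ∈ X := fun g h1 h2 x hx => by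
    obtain ⟨a1, a2⟩ := (memX x).1 hx
    refine (memX _).2 ⟨by rw [← h1]; exact comm_conj_iff.2 a1, ?_⟩
    have := (comm_conj_iff (g := g)).2 a2
    rcases h2 with h | h <;> rw [h] at this
    · exact this
    · exact Commute.inv_right_iff.1 this
  have hunorm : ∀ t ∈ F.T0, F.u * t * F.u⁻¹ ∈ F.T0 := by
    rintro _ ⟨i, j, r, rfl⟩
    rw [show F.u * (F.a ^ i * F.b ^ j * F.c ^ r) * F.u⁻¹ =
      (F.u * F.a ^ i * F.u⁻¹) * (F.u * F.b ^ j * F.u⁻¹) * (F.u * F.c ^ r * F.u⁻¹) by group,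
      ← conj_pow, ← conj_pow, ← conj_pow, F.ua, F.ub, F.uc]
    exact F.T0.mul_mem (F.T0.mul_mem (F.T0.pow_mem F.b_mem_T0 i) (F.T0.pow_mem F.a_mem_T0 j))
      (F.T0.pow_mem (F.T0.inv_mem F.c_mem_T0) r)
  have huO := hconjO F.u (hXconj F.u (conj_of_comm F.u_ab) (Or.inr hut)) hunorm
  have hzO := hconjO D.z (hXconj D.z (conj_of_comm F.abz.symm) (Or.inl (conj_of_comm (F.T0_comm ht₀T).2.2.2.1.symm)))
    (fun t ht => by rw [conj_of_comm (F.T0_comm ht).2.2.2.1.symm]; exact ht)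
  have hsX : ∀ x ∈ X, s * x * s⁻¹ ∈ X := fun x hx => by
    obtain ⟨a1, a2⟩ := (memX x).1 hx
    have b2 : Commute (s * x * s⁻¹) t₀ := by rw [← st]; exact comm_conj_iff.2 a2
    refine (memX _).2 ⟨?_, b2⟩
    have := ((comm_conj_iff (g := s)).2 a1).mul_right b2
    rwa [sab, inv_mul_cancel_right] at this
  have hsO := hconjO s hsX sT0
  -- the bound
  have hbound : Nat.card O ≤ 729 := by
    refine (card_le_of_two_invol O hOodd D.zz F.u2 F.uz.symm hzO huO ?_).trans ?_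
    · intro x hx hxz hxu y hy
      have hxT : x ∈ F.T0 := by
        rcases hXC x (hOX hx) hxz with h | h
        · exact h
        · rw [D.odd_ext (F.T0_comm h).2.2.2.1 hxz (F.odd_T0 h) (odd_orderOf_of_mem hOodd hx) (D.pm_mul_z hxz)]; exact h
      obtain ⟨i, j, r, rfl⟩ := hxT
      have he1 : (j : ℕ) % 3 = i % 3 ∧ r % 3 = 0 := by
        have h := conj_of_comm hxu.symm
        rw [show F.u * (F.a ^ i * F.b ^ j * F.c ^ r) * F.u⁻¹ =
          (F.u * F.a ^ i * F.u⁻¹) * (F.u * F.b ^ j * F.u⁻¹) * (F.u * F.c ^ r * F.u⁻¹) by group,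
          ← conj_pow, ← conj_pow, ← conj_pow, F.ua, F.ub, F.uc, pow_mod_three F.a3, pow_mod_three F.a3 i,
          pow_mod_three F.b3, pow_mod_three F.b3 j, pow_mod_three F.c3 r,
          pow_mod_three (x := F.c⁻¹) (by rw [← mul_inv_rev, ← mul_inv_rev, ← mul_assoc, F.c3, inv_one]) r] at h
        have hp := congrArg D.pm h
        rw [D.pm_mul ((F.bz.pow_left _).mul_left (F.az.pow_left _)) (F.cz.inv_left.pow_left _),
          D.pm_mul (F.bz.pow_left _) (F.az.pow_left _), D.pm_mul ((F.az.pow_left _).mul_left (F.bz.pow_left _)) (F.cz.pow_left _),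
          D.pm_mul (F.az.pow_left _) (F.bz.pow_left _), D.pm_pow F.az, D.pm_pow F.az, D.pm_pow F.bz, D.pm_pow F.bz,
          D.pm_pow F.cz, D.pm_pow F.cz.inv_left, D.pm_inv F.cz, F.pma, F.pmb, F.pmc] at hp
        have key : ∀ i j r : Fin 3, P9.pb m ^ (i : ℕ) * P9.pa m ^ (j : ℕ) * (P9.pc m)⁻¹ ^ (r : ℕ) =
            P9.pa m ^ (i : ℕ) * P9.pb m ^ (j : ℕ) * P9.pc m ^ (r : ℕ) → (j : ℕ) = (i : ℕ) ∧ (r : ℕ) = 0 := by
          subst hm0; decide +kernel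
        exact key ⟨i % 3, Nat.mod_lt _ (by norm_num)⟩ ⟨j % 3, Nat.mod_lt _ (by norm_num)⟩
          ⟨r % 3, Nat.mod_lt _ (by norm_num)⟩ hp
      rw [pow_mod_three F.b3 j, he1.1, ← pow_mod_three F.b3, pow_mod_three F.c3, he1.2, pow_zero, mul_one,
        ← F.ab.mul_pow]
      exact ((memX y).1 (hOX hy)).1.symm.pow_left i
    · have hF : {x | x ∈ O ∧ Commute x D.z}.ncard ≤ 27 := by
        rw [← F.card_T0, show Nat.card F.T0 = (F.T0 : Set G).ncard from Nat.card_coe_set_eq _]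
        refine Set.ncard_le_ncard ?_ (Set.toFinite _)
        rintro x ⟨hx, hxz⟩
        rcases hXC x (hOX hx) hxz with h | h
        · exact h
        · show x ∈ F.T0
          rw [D.odd_ext (F.T0_comm h).2.2.2.1 hxz (F.odd_T0 h) (odd_orderOf_of_mem hOodd hx) (D.pm_mul_z hxz)]; exact h
      have hB : {x | x ∈ O ∧ D.z * x * D.z⁻¹ = x⁻¹ ∧ Commute x F.u}.ncard ≤ 9 := by
        refine le_of_le_of_eq (b := (F.IU : Set G).ncard) ?_ ((Nat.card_coe_set_eq _).symm.trans F.card_IU)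
        refine Set.ncard_le_ncard ?_ (Set.toFinite _)
        rintro x ⟨hx, hxz, hxu⟩
        exact ⟨F.mem_TU_of hm0 hxu ((memX x).1 (hOX hx)).1 (odd_orderOf_of_mem hOodd hx), hxz⟩
      have hC : {x | x ∈ O ∧ D.z * x * D.z⁻¹ = x⁻¹ ∧ F.u * x * F.u⁻¹ = x⁻¹}.ncard ≤ 3 := by
        set B' : Subgroup G := F.IU ⊓ Subgroup.centralizer {t₁} with hB'
        have hB'3 : Nat.card B' ≤ 3 := by
          have hdvd : Nat.card B' ∣ 9 := F.card_IU ▸ Subgroup.card_dvd_of_le inf_le_left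
          have hne : Nat.card B' ≠ 9 := fun h9 => by
            have hle : B' = F.IU := Subgroup.eq_of_le_of_card_ge inf_le_left (by rw [h9, F.card_IU])
            refine hcrit fun w hw => F.TU_comm_crit ?_ (fun x hx => ?_) hw
            · rw [ht₁]
              exact (F.T0_comm (F.T0.mul_mem (F.T0.mul_mem (F.T0.inv_mem F.a_mem_T0) F.b_mem_T0) het)).2.2.2.2.1.symm
            · have hx' : x ∈ B' := hle.symm ▸ hx
              exact Subgroup.mem_centralizer_singleton_iff.1 hx'.2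
          have h9 : ∀ d, d ≤ 9 → d ∣ 9 → d ≠ 9 → d ≤ 3 := by decide +kernel
          exact h9 _ (Nat.le_of_dvd (by norm_num) hdvd) hdvd hne
        rw [show Nat.card B' = (B' : Set G).ncard from Nat.card_coe_set_eq _] at hB'3
        refine le_trans (Set.ncard_le_ncard_of_injOn (fun x => F.τ⁻¹ * x * F.τ) ?_ (fun x _ y _ h => ?_) (Set.toFinite _))
          hB'3
        · rintro x ⟨hx, hxz, hxu⟩
          obtain ⟨a1, a2⟩ := (memX x).1 (hOX hx)
          have hz' : D.z * (F.τ⁻¹ * x * F.τ) * D.z⁻¹ = (F.τ⁻¹ * x * F.τ)⁻¹ := by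
            rw [show D.z * (F.τ⁻¹ * x * F.τ) * D.z⁻¹ =
              (D.z * F.τ⁻¹ * D.z⁻¹) * (D.z * x * D.z⁻¹) * (D.z * F.τ * D.z⁻¹) by group, hxz,
              conj_of_comm F.tz.inv_left.symm, conj_of_comm F.tz.symm]
            group
          refine ⟨⟨F.mem_TU_of hm0 ?_ ?_ ?_, hz'⟩, ?_⟩
          · have hc : Commute x (F.u * D.z) := by
              refine (mul_inv_eq_iff_eq_mul.1 ?_ : F.u * D.z * x = x * (F.u * D.z)).symm
              rw [show F.u * D.z * x * (F.u * D.z)⁻¹ = F.u * (D.z * x * D.z⁻¹) * F.u⁻¹ by group, hxz,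
                show F.u * x⁻¹ * F.u⁻¹ = (F.u * x * F.u⁻¹)⁻¹ by group, hxu, inv_inv]
            refine (comm_conj_iff (g := F.τ)).1 ?_
            rwa [F.tu, show F.τ * (F.τ⁻¹ * x * F.τ) * F.τ⁻¹ = x by group]
          · refine (comm_conj_iff (g := F.τ)).1 ?_
            rw [show F.τ * (F.τ⁻¹ * x * F.τ) * F.τ⁻¹ = x by group, show F.τ * (F.a * F.b) * F.τ⁻¹ = (F.τ * F.a * F.τ⁻¹) * (F.τ * F.b * F.τ⁻¹) by group,
              F.ta, F.tb]
            rw [← F.ab.inv_inv.symm.eq, ← mul_inv_rev]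
            exact a1.inv_right
          · have := Cov.orderOf_conj F.τ⁻¹ x
            rw [inv_inv] at this
            rw [this]; exact odd_orderOf_of_mem hOodd hx
          · show F.τ⁻¹ * x * F.τ ∈ Subgroup.centralizer {t₁}
            rw [Subgroup.mem_centralizer_singleton_iff]
            have := (comm_conj_iff (g := F.τ⁻¹)).2 a2
            rw [inv_inv] at this
            exact this
        · exact mul_left_cancel (mul_right_cancel h)
      exact (Nat.mul_le_mul (Nat.mul_le_mul hF hB) hC).trans (by norm_num)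
  -- the abelian subgroup of index three
  have hJT : ∀ t ∈ F.T0, ∀ j ∈ F.J, Commute t j := by
    rintro _ ⟨i, j', r, rfl⟩ j hj
    exact ((hj.1.symm.pow_left i).mul_left (hj.2.1.symm.pow_left j')).mul_left ((F.c_comm_J h3 j hj).pow_left r)
  set M := F.T0 ⊔ F.J with hMdef
  have memM : ∀ w, w ∈ M ↔ ∃ t ∈ F.T0, ∃ j ∈ F.J, w = t * j := fun w => by
    have hnorm : F.J ≤ Subgroup.normalizer (F.T0 : Set G) := fun j hj =>
      Cfsg.Lib.ZStarApps.mem_normalizer_of_maps fun t ht => by rw [conj_of_comm (hJT t ht j hj).symm]; exact ht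
    rw [hMdef, ← SetLike.mem_coe, Subgroup.coe_mul_of_right_le_normalizer_left _ _ hnorm]
    constructor
    · rintro ⟨t, ht, j, hj, rfl⟩; exact ⟨t, ht, j, hj, rfl⟩
    · rintro ⟨t, ht, j, hj, rfl⟩; exact ⟨t, ht, j, hj, rfl⟩
  have hMab : ∀ w ∈ M, ∀ w' ∈ M, Commute w w' := by
    intro w hw w' hw'
    obtain ⟨t, ht, j, hj, rfl⟩ := (memM w).1 hw
    obtain ⟨t', ht', j', hj', rfl⟩ := (memM w').1 hw'
    exact ((F.T0_commute ht ht').mul_right (hJT t ht j' hj')).mul_left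
      ((hJT t' ht' j hj).symm.mul_right (F.J_comm hj hj'))
  have huniq : ∀ t ∈ F.T0, ∀ j ∈ F.J, ∀ t' ∈ F.T0, ∀ j' ∈ F.J, t * j = t' * j' → t = t' ∧ j = j' := by
    intro t ht j hj t' ht' j' hj' h
    have e1 : t'⁻¹ * t = j' * j⁻¹ := by rw [inv_mul_eq_iff_eq_mul, ← mul_assoc, eq_mul_inv_iff_mul_eq, h]
    have hm := F.J.mul_mem hj' (F.J.inv_mem hj)
    have h1 : j' * j⁻¹ = 1 := eq_one_fixed_inverted hm.2.2.2
      (e1 ▸ (F.T0_comm (F.T0.mul_mem (F.T0.inv_mem ht') ht)).2.2.2.1.symm) hm.2.2.1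
    rw [h1, inv_mul_eq_one] at e1
    exact ⟨e1.symm, (mul_inv_eq_one.1 h1).symm⟩
  have hM243 : Nat.card M = 243 := by
    have hb : Function.Bijective (fun p : F.T0 × F.J => (⟨(p.1 : G) * p.2, (memM _).2 ⟨_, p.1.2, _, p.2.2, rfl⟩⟩ : M)) := by
      constructor
      · rintro ⟨⟨t, ht⟩, ⟨j, hj⟩⟩ ⟨⟨t', ht'⟩, ⟨j', hj'⟩⟩ h
        obtain ⟨h1, h2⟩ := huniq t ht j hj t' ht' j' hj' (congrArg Subtype.val h)
        subst h1 h2; rfl
      · rintro ⟨w, hw⟩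
        obtain ⟨t, ht, j, hj, rfl⟩ := (memM w).1 hw
        exact ⟨(⟨t, ht⟩, ⟨j, hj⟩), rfl⟩
    rw [← Nat.card_congr (Equiv.ofBijective _ hb), Nat.card_prod, F.card_T0, F.card_J, h3]
  have hJX : ∀ j ∈ F.J, j ∈ X := fun j hj =>
    (memX j).2 ⟨hj.1.mul_right hj.2.1, (hJT t₀ ht₀T j hj).symm⟩
  have hMO : M ≤ O := sup_le le_sup_left fun j hj => hinvOD j (hJX j hj) hj.2.2.1 hj.2.2.2
  obtain ⟨x, hxI, hxa⟩ : ∃ x ∈ F.IU, ¬ Commute x F.a := by
    by_contra h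
    push Not at h
    exact F.IU_comm_a_absurd h3 h
  obtain ⟨hxu, hxab, hxo, hx3⟩ := F.TU_props hxI.1
  have hxX : x ∈ X := (memX x).2 ⟨hxab, ht₀TU x hxI.1⟩
  have hxO : x ∈ O := hinvOD x hxX hxI.2 hxo
  have hxM : x ∉ M := fun h => by
    obtain ⟨t, ht, j, hj, rfl⟩ := (memM x).1 h
    have hz := hxI.2
    rw [show D.z * (t * j) * D.z⁻¹ = (D.z * t * D.z⁻¹) * (D.z * j * D.z⁻¹) by group,
      conj_of_comm (F.T0_comm ht).2.2.2.1.symm, hj.2.2.1, mul_inv_rev, (hJT t ht j hj).inv_right.eq, mul_right_inj] at hz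
    have h1 : t = 1 := eq_one_of_sq (F.odd_T0 ht) (mul_eq_one_iff_eq_inv.2 hz)
    rw [h1, one_mul] at hxa
    exact hxa hj.1
  have hidx : ∀ R : Subgroup G, M ≤ R → x ∈ R → R ≤ O → Nat.card R = 729 := by
    intro R hMR hxR hRO
    have hdvd : 243 ∣ Nat.card R := hM243 ▸ Subgroup.card_dvd_of_le hMR
    have hodd : Odd (Nat.card R) := hOodd.of_dvd_nat (Subgroup.card_dvd_of_le hRO)
    have hle : Nat.card R ≤ 729 := (Subgroup.card_le_of_le hRO).trans hbound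
    have hne : Nat.card R ≠ 243 := fun h => hxM (by
      rw [Subgroup.eq_of_le_of_card_ge hMR (by rw [h, hM243])]; exact hxR)
    have hpos : 0 < Nat.card R := Nat.card_pos
    obtain ⟨d, hd⟩ := hdvd
    obtain ⟨d', hd'⟩ := hodd
    omega
  have hO729 := hidx O hMO hxO le_rfl
  have hMn : ∀ g ∈ O, ∀ w ∈ M, g * w * g⁻¹ ∈ M := by
    intro g hg w hw
    have hn : (M.subgroupOf O).Normal := by
      refine Subgroup.normal_of_index_eq_minFac_card ?_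
      have h := (M.subgroupOf O).card_mul_index
      rw [Nat.card_congr (Subgroup.subgroupOfEquivOfLe hMO).toEquiv, hM243, hO729] at h
      rw [hO729, show Nat.minFac 729 = 3 by norm_num]
      omega
    exact hn.conj_mem ⟨w, hMO hw⟩ hw ⟨g, hg⟩
  have hdecO : ∀ g ∈ O, ∃ μ ∈ M, ∃ r : ℕ, r < 3 ∧ g = μ * x ^ r := by
    have hnorm : Subgroup.zpowers x ≤ Subgroup.normalizer (M : Set G) :=
      Subgroup.zpowers_le.2 (Cfsg.Lib.ZStarApps.mem_normalizer_of_maps fun w hw => hMn x hxO w hw)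
    have hRO : M ⊔ Subgroup.zpowers x ≤ O := sup_le hMO (Subgroup.zpowers_le.2 hxO)
    have heq : M ⊔ Subgroup.zpowers x = O := Subgroup.eq_of_le_of_card_ge hRO
      (by rw [hO729, hidx _ le_sup_left (Subgroup.mem_sup_right (Subgroup.mem_zpowers x)) hRO])
    intro g hg
    rw [← heq, ← SetLike.mem_coe, Subgroup.coe_mul_of_right_le_normalizer_left _ _ hnorm] at hg
    obtain ⟨μ, hμ, q, hq, rfl⟩ := hg
    rw [SetLike.mem_coe, ← mem_powers_iff_mem_zpowers, Submonoid.mem_powers_iff] at hq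
    obtain ⟨r, rfl⟩ := hq
    exact ⟨μ, hμ, r % 3, Nat.mod_lt _ (by norm_num), by
      show μ * x ^ r = μ * x ^ (r % 3)
      rw [← pow_mod_three hx3]⟩
  have hbM : F.b⁻¹ ∈ M := Subgroup.mem_sup_left (F.T0.inv_mem F.b_mem_T0)
  obtain ⟨t, ht, i, hi, hm⟩ := (memM _).1 (hMn x hxO F.a (Subgroup.mem_sup_left F.a_mem_T0))
  have hiu : F.u * i * F.u⁻¹ = i⁻¹ := by
    have hu1 : F.u * (x * F.a * x⁻¹) * F.u⁻¹ = F.a * F.b * (x * F.a * x⁻¹)⁻¹ := by
      rw [show F.u * (x * F.a * x⁻¹) * F.u⁻¹ = (F.u * x * F.u⁻¹) * (F.u * F.a * F.u⁻¹) * (F.u * x * F.u⁻¹)⁻¹ by group,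
        conj_of_comm hxu.symm, F.ua]
      calc x * F.b * x⁻¹ = x * (F.a⁻¹ * (F.a * F.b)) * x⁻¹ := by group
        _ = x * F.a⁻¹ * ((F.a * F.b) * x⁻¹) := by group
        _ = (x * F.a * x⁻¹)⁻¹ * (F.a * F.b) := by rw [hxab.inv_left.symm.eq]; group
        _ = F.a * F.b * (x * F.a * x⁻¹)⁻¹ := by
          have hc : Commute (x * F.a * x⁻¹) (F.a * F.b) :=
            (hxab.mul_left ((Commute.refl _).mul_right F.ab)).mul_left hxab.inv_left
          exact hc.inv_left.eq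
    rw [hm, show F.u * (t * i) * F.u⁻¹ = (F.u * t * F.u⁻¹) * (F.u * i * F.u⁻¹) by group, mul_inv_rev,
      (hJT t ht i hi).inv_inv.symm.eq, ← mul_assoc (F.a * F.b)] at hu1
    exact (huniq _ (hunorm t ht) _ (F.J_conj_u hi) _
      (F.T0.mul_mem (F.T0.mul_mem F.a_mem_T0 F.b_mem_T0) (F.T0.inv_mem ht)) _ (F.J.inv_mem hi) hu1).2
  have hi1 : i ≠ 1 := fun h => by
    rw [h, mul_one] at hm
    have hz : D.z * (x * F.a * x⁻¹) * D.z⁻¹ = x * F.a * x⁻¹ := by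
      rw [hm, conj_of_comm (F.T0_comm ht).2.2.2.1.symm]
    rw [show D.z * (x * F.a * x⁻¹) * D.z⁻¹ = (D.z * x * D.z⁻¹) * (D.z * F.a * D.z⁻¹) * (D.z * x * D.z⁻¹)⁻¹ by group,
      hxI.2, conj_of_comm F.az.symm] at hz
    refine hxa (comm_of_comm_sq hxo (comm_of_conj_eq ?_))
    calc x * x * F.a * (x * x)⁻¹ = x * (x * F.a * x⁻¹) * x⁻¹ := by group
      _ = F.a := by rw [← hz]; group
  obtain ⟨μ, hμ, r, hr3, hsx⟩ := hdecO _ (hsO x hxO)
  -- the image of `i`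
  have hsm : s * (x * F.a * x⁻¹) * s⁻¹ = x ^ r * F.a * (x ^ r)⁻¹ * (F.a * F.b)⁻¹ := by
    have hxr : x ^ r * F.b⁻¹ * (x ^ r)⁻¹ ∈ M := hMn _ (O.pow_mem hxO r) _ hbM
    calc s * (x * F.a * x⁻¹) * s⁻¹ = (s * x * s⁻¹) * (s * F.a * s⁻¹) * (s * x * s⁻¹)⁻¹ := by group
      _ = μ * (x ^ r * F.b⁻¹ * (x ^ r)⁻¹) * μ⁻¹ := by rw [hsx, sa]; group
      _ = x ^ r * F.b⁻¹ * (x ^ r)⁻¹ := conj_of_comm (hMab μ hμ _ hxr)
      _ = x ^ r * F.a * ((F.a * F.b)⁻¹ * (x ^ r)⁻¹) := by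
        rw [mul_inv_rev F.a F.b, F.ab.inv_inv.symm.eq]; group
      _ = _ := by rw [(hxab.pow_left r).inv_inv.symm.eq]; group
  have hsm' : s * (x * F.a * x⁻¹) * s⁻¹ = (s * t * s⁻¹) * (s * i * s⁻¹) := by rw [hm]; group
  have habT : (F.a * F.b)⁻¹ ∈ F.T0 := F.T0.inv_mem (F.T0.mul_mem F.a_mem_T0 F.b_mem_T0)
  have hsr : r ≠ 0 ∧ (s * i * s⁻¹ = i ∨ s * i * s⁻¹ = i⁻¹) := by
    rcases (by omega : r = 0 ∨ r = 1 ∨ r = 2) with e | e | e <;> subst e
    · exfalso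
      rw [pow_zero, one_mul, inv_one, mul_one, hsm', ← mul_one (F.a * (F.a * F.b)⁻¹)] at hsm
      have h := (huniq _ (sT0 t ht) _ (sJ i hi) _ (F.T0.mul_mem F.a_mem_T0 habT) _ F.J.one_mem hsm).2
      rw [mul_inv_eq_one, mul_eq_left] at h
      exact hi1 h
    · refine ⟨one_ne_zero, Or.inl ?_⟩
      rw [pow_one, hsm', hm, mul_assoc t i, (hJT _ habT i hi).symm.eq, ← mul_assoc t] at hsm
      exact (huniq _ (sT0 t ht) _ (sJ i hi) _ (F.T0.mul_mem ht habT) _ hi hsm).2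
    · refine ⟨two_ne_zero, Or.inr ?_⟩
      have hx2 : x ^ 2 = x⁻¹ := (inv_eq_sq hx3).symm
      have e2 : x ^ 2 * F.a * (x ^ 2)⁻¹ = t * i⁻¹ := by
        rw [hx2]
        calc x⁻¹ * F.a * x⁻¹⁻¹ = (D.z * x * D.z⁻¹) * (D.z * F.a * D.z⁻¹) * (D.z * x * D.z⁻¹)⁻¹ := by
              rw [hxI.2, conj_of_comm F.az.symm]
          _ = D.z * (x * F.a * x⁻¹) * D.z⁻¹ := by group
          _ = (D.z * t * D.z⁻¹) * (D.z * i * D.z⁻¹) := by rw [hm]; group
          _ = t * i⁻¹ := by rw [conj_of_comm (F.T0_comm ht).2.2.2.1.symm, hi.2.2.1]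
      rw [e2, hsm', mul_assoc t i⁻¹, (hJT _ habT _ (F.J.inv_mem hi)).symm.eq, ← mul_assoc t] at hsm
      exact (huniq _ (sT0 t ht) _ (sJ i hi) _ (F.T0.mul_mem ht habT) _ (F.J.inv_mem hi) hsm).2
  -- an element of order three inverting is trivial
  have hno_inv : ∀ v : G, Odd (orderOf v) → s * v * s⁻¹ = v⁻¹ → v = 1 := fun v hv h => by
    have h3' : s * (s * (s * v * s⁻¹) * s⁻¹) * s⁻¹ = v := by
      rw [show s * (s * (s * v * s⁻¹) * s⁻¹) * s⁻¹ = (s * s * s) * v * (s * s * s)⁻¹ by group, hs3]; group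
    rw [h, ← conj_inv, h, inv_inv, h] at h3'
    exact eq_one_of_sq hv (mul_eq_one_iff_eq_inv.2 h3'.symm)
  have hsi : Commute s i := by
    rcases hsr.2 with h | h
    · exact comm_of_conj_eq h
    · exact absurd (hno_inv i hi.2.2.2 h) hi1
  have hl'3 : l' * l' * l' = 1 := cube_conj hl3
  have hul' : F.u * l' * F.u⁻¹ = l'⁻¹ := (F.t_conj_inverted hJ.2.2.1 hlu).2
  have hsl' : Commute s l' := by
    obtain ⟨p, q, hpq⟩ := F.Ju_surj h3 hl hl1 hi
    rw [← hl'def] at hpq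
    have h := hiu
    rw [hpq, show F.u * (l ^ p * l' ^ q) * F.u⁻¹ = (F.u * l ^ p * F.u⁻¹) * (F.u * l' ^ q * F.u⁻¹) by group,
      ← conj_pow, ← conj_pow, conj_of_comm hlu.symm, hul', inv_eq_sq hl'3, ← pow_mul,
      show (l ^ p * l' ^ q)⁻¹ = l ^ (2 * p) * l' ^ (2 * q) from inv_eq_of_mul_eq_one_right (by
        rw [(hll'.pow_pow (2 * p) q).symm.mul_mul_mul_comm, ← pow_add, ← pow_add, pow_mod_three hl3,
          pow_mod_three hl'3 (q + 2 * q), show (p + 2 * p) % 3 = 0 by omega, show (q + 2 * q) % 3 = 0 by omega,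
          pow_zero, pow_zero, one_mul])] at h
    have hp := (F.Ju_inj h3 hl hl1 h).1
    have hp0 : p % 3 = 0 := by omega
    rw [pow_mod_three hl3, hp0, pow_zero, one_mul] at hpq
    have hq : q % 3 ≠ 0 := fun h0 => hi1 (by rw [hpq, pow_mod_three hl'3, h0, pow_zero])
    have hli : l' = i ^ q := by
      rw [hpq, ← pow_mul, pow_mod_three hl'3, Nat.mul_mod]
      rcases (by omega : q % 3 = 1 ∨ q % 3 = 2) with e | e <;> rw [e] <;> exact (pow_one l').symm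
    rw [hli]; exact hsi.pow_right q
  -- `s` does not centralize `J`
  have hsl : ¬ Commute s l := fun hsl => by
    set W := F.τ * s * F.τ⁻¹ * s⁻¹
    have hWz : Commute W D.z := (D.comm_conj F.tz hsz).mul_left hsz.inv_left
    have hW2 : W * W = D.z := D.sq_eq_z hWz (by
      rw [D.pm_mul (D.comm_conj F.tz hsz) hsz.inv_left, D.pm_conj F.tz hsz, D.pm_inv hsz, hsp, F.pmt]
      exact hπW)
    have h1 : Commute (F.τ * s * F.τ⁻¹) l := by
      have := (comm_conj_iff (g := F.τ)).2 hsl'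
      rw [htt] at this
      exact Commute.inv_right_iff.1 this
    have hWl : Commute W l := h1.mul_left hsl.inv_left
    exact hl1 (eq_one_fixed_inverted (F.J_odd hJ) (hW2 ▸ hWl.mul_left hWl) hJ.2.2.1)
  obtain ⟨p, q, hpq⟩ := F.Ju_surj h3 hl hl1 (sJ l hJ)
  rw [← hl'def] at hpq
  have hq : q % 3 ≠ 0 := fun h0 => by
    rw [pow_mod_three hl'3, h0, pow_zero, mul_one, pow_mod_three hl3] at hpq
    rcases (by omega : p % 3 = 0 ∨ p % 3 = 1 ∨ p % 3 = 2) with e | e | e <;> rw [e] at hpq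
    · rw [pow_zero, mul_inv_eq_one, mul_eq_left] at hpq
      exact hl1 hpq
    · rw [pow_one] at hpq
      exact hsl (comm_of_conj_eq hpq)
    · rw [← inv_eq_sq hl3] at hpq
      exact hl1 (hno_inv l (F.J_odd hJ) hpq)
  have hlI : l ∈ F.IU := ⟨F.mem_TU_of hm0 hlu (hJ.1.mul_right hJ.2.1) (F.J_odd hJ), hJ.2.2.1⟩
  have hlx : Commute l x := F.TU_commute hlI.1 hxI.1
  -- `l'` commutes with `x`
  have hl'x : Commute l' x := by
    have h1 : Commute (s * l * s⁻¹) (μ * x ^ r) := by rw [← hsx]; exact comm_conj_iff.2 hlx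
    have h2 : Commute (s * l * s⁻¹) μ := hMab _ (Subgroup.mem_sup_right (sJ l hJ)) μ hμ
    have h3' : Commute (s * l * s⁻¹) x := by
      have := h2.inv_right.mul_right h1
      rw [inv_mul_cancel_left] at this
      rcases (by have := hsr.1; omega : r = 1 ∨ r = 2) with e | e <;> subst e
      · rwa [pow_one] at this
      · rw [← inv_eq_sq hx3] at this
        exact Commute.inv_right_iff.1 this
    rw [hpq] at h3'
    have h4 := ((hlx.pow_left p).inv_left).mul_left h3'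
    rw [inv_mul_cancel_left, pow_mod_three hl'3] at h4
    rcases (by omega : q % 3 = 1 ∨ q % 3 = 2) with e | e <;> rw [e] at h4
    · rwa [pow_one] at h4
    · rw [← inv_eq_sq hl'3] at h4
      exact Commute.inv_left_iff.1 h4
  have hall : ∀ w ∈ F.TU, Commute w l' := by
    set B : Subgroup G := F.IU ⊓ Subgroup.centralizer {l'} with hB
    have hlB : l ∈ B := ⟨hlI, Subgroup.mem_centralizer_singleton_iff.2 hll'⟩
    have hxB : x ∈ B := ⟨hxI, Subgroup.mem_centralizer_singleton_iff.2 hl'x.symm⟩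
    have hdvd : Nat.card B ∣ 9 := F.card_IU ▸ Subgroup.card_dvd_of_le inf_le_left
    have hgt : 3 < Nat.card B := by
      by_contra hle
      have heq : Subgroup.zpowers l = B := Subgroup.eq_of_le_of_card_ge (Subgroup.zpowers_le.2 hlB)
        (by rw [Nat.card_zpowers, ho]; omega)
      rw [← heq] at hxB
      obtain ⟨n, hn⟩ := hxB
      refine hxa ?_
      rw [show x = l ^ n from hn.symm]
      exact hJ.1.zpow_left n
    have h9 : ∀ d, d ≤ 9 → d ∣ 9 → 3 < d → d = 9 := by decide +kernel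
    have heq : B = F.IU := Subgroup.eq_of_le_of_card_ge inf_le_left
      (by rw [F.card_IU, h9 _ (Nat.le_of_dvd (by norm_num) hdvd) hdvd hgt])
    intro w hw
    refine F.TU_comm_crit (hl'J.1.mul_right hl'J.2.1).symm (fun y hy => ?_) hw
    have hy' : y ∈ B := heq.symm ▸ hy
    exact Subgroup.mem_centralizer_singleton_iff.1 hy'.2
  refine hcrit fun w hw => ?_
  obtain ⟨hwu, hwab, hwo, -⟩ := F.TU_props hw
  set v := F.τ * w * F.τ⁻¹ with hv
  have hvz : Commute v (F.u * D.z) := by rw [hv, ← F.tu]; exact comm_conj_iff.2 hwu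
  have htab : F.τ * (F.a * F.b) * F.τ⁻¹ = (F.a * F.b)⁻¹ := by
    rw [show F.τ * (F.a * F.b) * F.τ⁻¹ = (F.τ * F.a * F.τ⁻¹) * (F.τ * F.b * F.τ⁻¹) by group, F.ta, F.tb, mul_inv_rev,
      F.ab.inv_inv.eq]
  have hvab : Commute v (F.a * F.b) := by
    have := (comm_conj_iff (g := F.τ)).2 hwab
    rw [htab] at this
    exact Commute.inv_right_iff.1 this
  set y := F.h⁻¹ * v * F.h with hy
  have ey : F.h * y * F.h⁻¹ = v := by rw [hy]; group
  have hyl : Commute y l := by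
    have hyz : Commute y (F.u * D.z) := by
      refine (comm_conj_iff (g := F.h)).1 ?_
      rw [ey, show F.h * (F.u * D.z) * F.h⁻¹ = F.h * (D.z * F.u) * F.h⁻¹ by rw [F.uz.eq], F.hzu, ← F.uz.eq]
      exact hvz
    have hyab : Commute y (F.a * F.b) := F.comm_h_ab.1 (by rw [ey]; exact hvab)
    have hyo : Odd (orderOf y) := by
      have := Cov.orderOf_conj F.h⁻¹ v
      rw [inv_inv] at this
      rw [hy, this, hv, Cov.orderOf_conj]; exact hwo
    have hm' : F.τ⁻¹ * y * F.τ ∈ F.TU := by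
      refine F.mem_TU_of hm0 ?_ ?_ ?_
      · refine (comm_conj_iff (g := F.τ)).1 ?_
        rw [F.tu, show F.τ * (F.τ⁻¹ * y * F.τ) * F.τ⁻¹ = y by group]
        exact hyz
      · refine (comm_conj_iff (g := F.τ)).1 ?_
        rw [htab, show F.τ * (F.τ⁻¹ * y * F.τ) * F.τ⁻¹ = y by group]
        exact hyab.inv_right
      · have := Cov.orderOf_conj F.τ⁻¹ y
        rw [inv_inv] at this
        rw [this]; exact hyo
    have := (comm_conj_iff (g := F.τ)).2 (hall _ hm')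
    rw [show F.τ * (F.τ⁻¹ * y * F.τ) * F.τ⁻¹ = y by group, htt] at this
    exact Commute.inv_right_iff.1 this
  have hvt : Commute v t₀ := by rw [← ey, ← ht₀]; exact comm_conj_iff.2 hyl
  refine (comm_conj_iff (g := F.τ)).1 ?_
  rw [ht₁def, show F.τ * (F.τ⁻¹ * t₀ * F.τ) * F.τ⁻¹ = t₀ by group]
  exact hvt

end Frame

end Cfsg.Lib.DoubleCoverAlt
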